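import Groth.Agent.Lib.LimH13.SubAlgLimit
import Mathlib.AlgebraicGeometry.Morphisms.Affine

/-!
# An affine morphism is the limit of the affine morphisms of finite type it factors through
-/

universe u

open CategoryTheory Limits AlgebraicGeometry Opposite TopologicalSpace

set_option backward.isDefEq.respectTransparency false
set_option backward.isDefEq.respectTransparency.types false

noncomputable section

namespace Groth.Agent.LimH13.SubAlg

open RelSpec Groth.Agent.QCGen12

variable {X S : Scheme.{u}} (f : X ⟶ S) [IsAffineHom f]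

/-- The canonical map to the relative spectrum of the direct image. -/
def toSpec : X ⟶ (QCAlg.directImage f).spec :=
  lift (QCAlg.directImage f) f (𝟙 (QCAlg.directImage f).presheaf)

theorem toSpec_π : toSpec f ≫ (QCAlg.directImage f).π = f :=
  lift_π (QCAlg.directImage f) f (𝟙 (QCAlg.directImage f).presheaf)
    (Category.comp_id (QCAlg.directImage f).str)

theorem ι_toSpec (V : S.Opens) (hV : IsAffineOpen V) :
    (f ⁻¹ᵁ V).ι ≫ toSpec f = (f ⁻¹ᵁ V).toSpecΓ ≫ (QCAlg.directImage f).ι V hV := by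
  refine (ι_lift (QCAlg.directImage f) f (𝟙 (QCAlg.directImage f).presheaf) V hV).trans ?_
  congr 1
  change Spec.map (𝟙 _) ≫ _ = _
  rw [Spec.map_id]
  exact Category.id_comp _

instance isIso_toSpec : IsIso (toSpec f) := by
  let C := QCAlg.directImage f
  have hsup : ⨆ V : S.affineOpens, (C.ι V.1 V.2).opensRange = ⊤ := by
    refine top_le_iff.1 fun z _ => ?_
    obtain ⟨V, hV, hz, -⟩ := exists_isAffineOpen_mem_and_subset (x := C.π z) (U := ⊤) trivial
    refine Opens.mem_iSup.2 ⟨⟨V, hV⟩, ?_⟩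
    show z ∈ (C.ι V hV).opensRange
    rw [← C.π_preimage]
    exact hz
  refine (IsZariskiLocalAtTarget.iff_of_iSup_eq_top (P := MorphismProperty.isomorphisms Scheme.{u})
    (fun V : S.affineOpens => (C.ι V.1 V.2).opensRange) hsup).mpr fun V => ?_
  have hpre : toSpec f ⁻¹ᵁ (C.ι V.1 V.2).opensRange = f ⁻¹ᵁ V.1 := by
    rw [← C.π_preimage, ← Scheme.Hom.comp_preimage, toSpec_π]
  haveI : IsAffine (f ⁻¹ᵁ V.1).toScheme := V.2.preimage f
  haveI : IsIso (f ⁻¹ᵁ V.1).toSpecΓ := by
    delta Scheme.Opens.toSpecΓ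
    infer_instance
  haveI : IsOpenImmersion ((f ⁻¹ᵁ V.1).ι ≫ toSpec f) := by
    rw [ι_toSpec f V.1 V.2]
    infer_instance
  haveI : IsOpenImmersion ((toSpec f ⁻¹ᵁ (C.ι V.1 V.2).opensRange).ι ≫ toSpec f) := by
    rw [hpre]
    assumption
  haveI : IsOpenImmersion (toSpec f ∣_ (C.ι V.1 V.2).opensRange ≫ (C.ι V.1 V.2).opensRange.ι) := by
    rw [morphismRestrict_ι]
    assumption
  haveI : IsOpenImmersion (toSpec f ∣_ (C.ι V.1 V.2).opensRange) :=
    IsOpenImmersion.of_comp _ (C.ι V.1 V.2).opensRange.ι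
  refine (MorphismProperty.isomorphisms.iff _).mpr ?_
  haveI : Epi (toSpec f ∣_ (C.ι V.1 V.2).opensRange).base := by
    rw [TopCat.epi_iff_surjective]
    rintro ⟨_, z, rfl⟩
    let w := inv (f ⁻¹ᵁ V.1).toSpecΓ z
    have e : toSpec f ((f ⁻¹ᵁ V.1).ι w) = C.ι V.1 V.2 z := by
      refine (Scheme.Hom.comp_apply (f ⁻¹ᵁ V.1).ι (toSpec f) w).symm.trans ?_
      rw [ι_toSpec f V.1 V.2]
      refine (Scheme.Hom.comp_apply (f ⁻¹ᵁ V.1).toSpecΓ _ w).trans (congrArg _ ?_)
      exact (Scheme.Hom.comp_apply (inv (f ⁻¹ᵁ V.1).toSpecΓ) _ z).symm.trans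
        (by rw [IsIso.inv_hom_id]; rfl)
    refine ⟨⟨(f ⁻¹ᵁ V.1).ι w, ?_⟩, Subtype.ext ?_⟩
    · rw [hpre]
      exact w.2
    · simpa using e
  exact IsOpenImmersion.isIso _

variable [CompactSpace S] [QuasiSeparatedSpace S]

/-- The system of affine finite type schemes over the base under `f`. -/
abbrev affDiag : (Idx (QCAlg.directImage f))ᵒᵖ ⥤ Scheme.{u} := diag (QCAlg.directImage f)

/-- The cone from the source of `f`. -/
def affCone : Cone (affDiag f) := (cone (QCAlg.directImage f)).extend (toSpec f)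

/-- The source of `f` is the limit. -/
def isLimitAffCone : IsLimit (affCone f) :=
  haveI : IsIso (toSpec f) := isIso_toSpec f
  @IsLimit.extendIso _ _ _ _ _ (cone (QCAlg.directImage f)) X (toSpec f) (isIso_toSpec f)
    (isLimit (QCAlg.directImage f))

theorem affCone_π (i : (Idx (QCAlg.directImage f))ᵒᵖ) :
    (affCone f).π.app i ≫ i.unop.alg.π = f := by
  change (toSpec f ≫ QCAlg.specMap i.unop.incl) ≫ i.unop.alg.π = f
  rw [Category.assoc, QCAlg.specMap_π, toSpec_π]

instance isAffineHom_affDiag_map {i j : (Idx (QCAlg.directImage f))ᵒᵖ} (a : i ⟶ j) :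
    IsAffineHom ((affDiag f).map a) := isAffineHom_specMap _

instance compactSpace_affDiag (i : (Idx (QCAlg.directImage f))ᵒᵖ) :
    CompactSpace ((affDiag f).obj i) := by
  change CompactSpace i.unop.alg.spec
  infer_instance

instance quasiSeparatedSpace_affDiag (i : (Idx (QCAlg.directImage f))ᵒᵖ) :
    QuasiSeparatedSpace ((affDiag f).obj i) := by
  change QuasiSeparatedSpace i.unop.alg.spec
  infer_instance

theorem isAffineHom_affCone_π (i : (Idx (QCAlg.directImage f))ᵒᵖ) :
    IsAffineHom ((affCone f).π.app i) := by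
  haveI := isIso_toSpec f
  change IsAffineHom (toSpec f ≫ QCAlg.specMap i.unop.incl)
  infer_instance

end Groth.Agent.LimH13.SubAlg
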