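import Groth.Agent.Lib.LimH13.Struct
import Mathlib.AlgebraicGeometry.Morphisms.Integral

/-!
# Morphisms out of a limit: descent of homomorphisms, closed immersions into a stage
-/

universe u

set_option backward.isDefEq.respectTransparency false
set_option backward.defeqAttrib.useBackward true
set_option linter.style.haveILetI false

open CategoryTheory CategoryTheory.Limits AlgebraicGeometry

namespace Groth.Agent.LimH13

open Groth.Agent.Descend

variable {I : Type u} [SmallCategory I] [IsCofiltered I] {D : I ⥤ Scheme.{u}} {c : Cone D}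
  [∀ {i j : I} (a : i ⟶ j), IsAffineHom (D.map a)]

/-- Two morphisms agreeing on the base change to the limit agree at a stage. -/
theorem exists_fst_comp_eq (hc : IsLimit c) (i : I) {Xi Yi : Scheme.{u}} (xi : Xi ⟶ D.obj i)
    (yi : Yi ⟶ D.obj i) [CompactSpace Xi] [QuasiSeparatedSpace Xi] [LocallyOfFiniteType yi]
    {X : Scheme.{u}} (qX : X ⟶ Xi) (pX : X ⟶ c.pt) (hX : IsPullback qX pX xi (c.π.app i))
    (fi gi : Xi ⟶ Yi) (hfi : fi ≫ yi = xi) (hgi : gi ≫ yi = xi) (h : qX ≫ fi = qX ≫ gi) :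
    ∃ (j : I) (φ : j ⟶ i), pullback.fst xi (D.map φ) ≫ fi = pullback.fst xi (D.map φ) ≫ gi := by
  let F := Over.forget i
  let c' : Cone (F ⋙ D) := c.whisker F
  have hc' : IsLimit c' := (Functor.Initial.isLimitWhiskerEquiv F c).symm hc
  have hq : ∀ k, c'.π.app k ≫ (overT D i).app k = c.π.app i := fun k => c.w k.hom
  haveI : ∀ k, IsAffineHom ((overT D i).app k) := fun k =>
    ‹∀ {i j : I} (a : i ⟶ j), IsAffineHom (D.map a)› k.hom
  let E := pbDiagram (F ⋙ D) (overT D i) xi
  let k₀ : Over i := Over.mk (𝟙 i)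
  let tE : E ⟶ (Functor.const (Over i)).obj (D.obj i) :=
    pbFst (F ⋙ D) (overT D i) xi ≫ (Functor.const (Over i)).map xi
  have hap := pbCone_fst (F ⋙ D) (overT D i) xi c' hq hX k₀
  obtain ⟨k, a, hk⟩ := Scheme.exists_hom_comp_eq_comp_of_locallyOfFiniteType E tE yi _
    (pbIsLimit (F ⋙ D) (overT D i) xi c' hq hX hc') (i := k₀)
    (pullback.fst xi ((overT D i).app k₀) ≫ fi) (pullback.fst xi ((overT D i).app k₀) ≫ gi)
    (by simp [tE, pbFst, hfi]) (by simp [tE, pbFst, hgi])
    (by rw [← Category.assoc, ← Category.assoc, hap, h])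
  refine ⟨k.left, k.hom, ?_⟩
  have e := pbMap_fst (F ⋙ D) (overT D i) xi a
  rw [← Category.assoc, ← Category.assoc, e] at hk
  exact hk

/-- A morphism between base changes to the limit comes from a stage. -/
theorem exists_hom_descend (hc : IsLimit c) (i : I) {Xi Yi : Scheme.{u}} (xi : Xi ⟶ D.obj i)
    (yi : Yi ⟶ D.obj i) [CompactSpace Xi] [QuasiSeparatedSpace Xi]
    [LocallyOfFinitePresentation yi] {X Y : Scheme.{u}} (qX : X ⟶ Xi) (pX : X ⟶ c.pt)
    (hX : IsPullback qX pX xi (c.π.app i)) (qY : Y ⟶ Yi) (pY : Y ⟶ c.pt)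
    (hY : IsPullback qY pY yi (c.π.app i)) (f : X ⟶ Y) (hf : f ≫ pY = pX) :
    ∃ (j : I) (φ : j ⟶ i) (fj : pullback xi (D.map φ) ⟶ pullback yi (D.map φ))
      (sX : X ⟶ pullback xi (D.map φ)) (sY : Y ⟶ pullback yi (D.map φ)),
      fj ≫ pullback.snd yi (D.map φ) = pullback.snd xi (D.map φ) ∧
      sX ≫ pullback.fst xi (D.map φ) = qX ∧ sX ≫ pullback.snd xi (D.map φ) = pX ≫ c.π.app j ∧
      sY ≫ pullback.fst yi (D.map φ) = qY ∧ sY ≫ pullback.snd yi (D.map φ) = pY ≫ c.π.app j ∧
      sX ≫ fj = f ≫ sY := by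
  let F := Over.forget i
  let c' : Cone (F ⋙ D) := c.whisker F
  have hc' : IsLimit c' := (Functor.Initial.isLimitWhiskerEquiv F c).symm hc
  have hq : ∀ k, c'.π.app k ≫ (overT D i).app k = c.π.app i := fun k => c.w k.hom
  haveI : ∀ k, IsAffineHom ((overT D i).app k) := fun k =>
    ‹∀ {i j : I} (a : i ⟶ j), IsAffineHom (D.map a)› k.hom
  let E := pbDiagram (F ⋙ D) (overT D i) xi
  let tE : E ⟶ (Functor.const (Over i)).obj (D.obj i) :=
    pbFst (F ⋙ D) (overT D i) xi ≫ (Functor.const (Over i)).map xi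
  let e := pbCone (F ⋙ D) (overT D i) xi c' hq hX
  obtain ⟨k, s, hs, hsy⟩ := Scheme.exists_π_app_comp_eq_of_locallyOfFinitePresentation E tE yi e
    (pbIsLimit (F ⋙ D) (overT D i) xi c' hq hX hc') (f ≫ qY) (by
      ext k
      show e.π.app k ≫ pullback.fst xi ((overT D i).app k) ≫ xi = (f ≫ qY) ≫ yi
      rw [← Category.assoc]
      erw [pbCone_fst]
      rw [hX.w, Category.assoc, hY.w, reassoc_of% hf])
  have hsy' : s ≫ yi = pullback.snd xi (D.map k.hom) ≫ D.map k.hom :=
    hsy.trans pullback.condition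
  have hY' : qY ≫ yi = (pY ≫ c.π.app k.left) ≫ D.map k.hom := by
    rw [Category.assoc, c.w, hY.w]
  refine ⟨k.left, k.hom, pullback.lift s (pullback.snd xi (D.map k.hom)) hsy', e.π.app k,
    pullback.lift qY (pY ≫ c.π.app k.left) hY', pullback.lift_snd _ _ _,
    pbCone_fst (F ⋙ D) (overT D i) xi c' hq hX k, pbCone_snd (F ⋙ D) (overT D i) xi c' hq hX k,
    pullback.lift_fst _ _ _, pullback.lift_snd _ _ _, ?_⟩
  apply pullback.hom_ext
  · simp only [Category.assoc, pullback.lift_fst]
    exact hs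
  · simp only [Category.assoc, pullback.lift_snd]
    rw [reassoc_of% hf]
    exact pbCone_snd (F ⋙ D) (overT D i) xi c' hq hX k

/-- A closed subscheme of the limit which is of finite type over a base is closed in a stage. -/
theorem exists_isClosedImmersion_into_stage {S : Scheme.{u}} (t : D ⟶ (Functor.const I).obj S)
    (hc : IsLimit c) [∀ i, CompactSpace (D.obj i)] {Y : Scheme.{u}} (h : Y ⟶ c.pt)
    [IsClosedImmersion h] (i₀ : I) [LocallyOfFiniteType (h ≫ c.π.app i₀ ≫ t.app i₀)] :
    ∃ i : I, IsClosedImmersion (h ≫ c.π.app i) := by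
  let F := Over.forget i₀
  let c' : Cone (F ⋙ D) := c.whisker F
  have hc' : IsLimit c' := (Functor.Initial.isLimitWhiskerEquiv F c).symm hc
  haveI : ∀ k, IsAffineHom ((overT D i₀).app k) := fun k =>
    ‹∀ {i j : I} (a : i ⟶ j), IsAffineHom (D.map a)› k.hom
  let h' : (Functor.const (Over i₀)).obj Y ⟶ F ⋙ D :=
    { app := fun k => h ≫ c.π.app k.left
      naturality := fun k l a => by
        simp [F] }
  haveI : ∀ {k l : Over i₀} (a : k ⟶ l), IsAffineHom (((Functor.const (Over i₀)).obj Y).map a) :=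
    fun a => inferInstanceAs (IsAffineHom (𝟙 Y))
  haveI : ∀ k, LocallyOfFiniteType (h'.app k) := fun k => by
    haveI : LocallyOfFiniteType (h'.app k ≫ t.app k.left) := by
      show LocallyOfFiniteType ((h ≫ c.π.app k.left) ≫ t.app k.left)
      rw [Category.assoc, π_comp_eq k.left i₀]
      infer_instance
    exact locallyOfFiniteType_of_comp _ (t.app k.left)
  haveI := isAffineHom_π_app D c hc i₀
  obtain ⟨k, hk⟩ := exists_isClosedImmersion_app' h' (overT D i₀) (isLimitConstCone Y) hc'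
    (fun {U} v _ _ k => by
      haveI : IsAffineHom ((h' ≫ overT D i₀).app k) := by
        show IsAffineHom ((h ≫ c.π.app k.left) ≫ D.map k.hom)
        rw [Category.assoc, c.w]
        infer_instance
      haveI : IsAffineHom (pullback.fst v ((h' ≫ overT D i₀).app k)) :=
        MorphismProperty.pullback_fst _ _ ‹_›
      haveI : IsAffine ((pbDiagram ((Functor.const (Over i₀)).obj Y) (h' ≫ overT D i₀) v).obj k) :=
        isAffine_of_isAffineHom (pullback.fst v ((h' ≫ overT D i₀).app k))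
      exact ⟨inferInstance, inferInstance⟩)
    (fun {k l} a => by
      haveI : IsAffineHom (pullback.fst (h'.app l) ((F ⋙ D).map a)) :=
        MorphismProperty.pullback_fst _ _
          (‹∀ {i j : I} (a : i ⟶ j), IsAffineHom (D.map a)› a.left)
      haveI : IsIso (((Functor.const (Over i₀)).obj Y).map a) := inferInstanceAs (IsIso (𝟙 Y))
      haveI : IsClosedImmersion (graphMap h' a ≫ pullback.fst _ _) := by
        rw [graphMap_fst]; infer_instance
      exact IsClosedImmersion.of_comp (graphMap h' a) (pullback.fst _ _))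
    h (fun k => (Category.id_comp (h ≫ c.π.app k.left)).symm)
  exact ⟨k.left, hk⟩

end Groth.Agent.LimH13
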