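import Groth.Agent.Lib.Descend.EtaleGlobal
import Groth.Agent.Lib.Descend.Immersion
import Groth.Agent.Lib.Descend.Props
import Groth.Agent.Lib.Descend.Stage
import Groth.Agent.Lib.Descend.PointLocal
import Mathlib.AlgebraicGeometry.Morphisms.Finite
import Mathlib.AlgebraicGeometry.Morphisms.Separated

/-!
# Descent of separatedness, unramifiedness and finiteness along limits of schemes

Complements to `Groth.Agent.Lib.Descend`: properties detected by the diagonal, and finite
morphisms, for morphisms which are only locally of finite type.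
-/

universe u

set_option backward.isDefEq.respectTransparency false
set_option backward.defeqAttrib.useBackward true
set_option linter.style.haveILetI false

open CategoryTheory CategoryTheory.Limits AlgebraicGeometry

namespace Groth.Agent.LimH13

open Groth.Agent.Descend

variable {I : Type u} [SmallCategory I] [IsCofiltered I] {S X : Scheme.{u}} {D : I ⥤ Scheme.{u}}
  {t : D ⟶ (Functor.const I).obj S} {f : X ⟶ S} {c : Cone D} {q : c.pt ⟶ S}
  {P : Scheme.{u}} {p : P ⟶ X} {g : P ⟶ c.pt}
  [∀ i, IsAffineHom (t.app i)]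

omit [∀ i, IsAffineHom (t.app i)] in
/-- A property of the diagonal descends as soon as it descends for morphisms to `X ×_S X`. -/
theorem exists_diagonal (Pr : MorphismProperty Scheme.{u}) [Pr.RespectsIso]
    (hc : IsLimit c) (hq : ∀ j, c.π.app j ≫ t.app j = q) (hP : IsPullback p g f q)
    (hg : Pr (pullback.diagonal g))
    (H : ∀ (e : Cone (pbDiagram D t (pullback.fst f f ≫ f))) (q' : e.pt ⟶ pullback f f)
      (g' : P ⟶ e.pt), IsLimit e →
      (∀ k, e.π.app k ≫ (pbFst D t (pullback.fst f f ≫ f)).app k = q') →
      IsPullback p g' (pullback.diagonal f) q' → Pr g' →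
      ∃ k, Pr (pullback.snd (pullback.diagonal f) ((pbFst D t (pullback.fst f f ≫ f)).app k))) :
    ∃ j, Pr (pullback.diagonal (pullback.snd f (t.app j))) := by
  let w : pullback f f ⟶ S := pullback.fst f f ≫ f
  let hW := IsPullback.of_hasPullback w q
  have hlim := pbIsLimit D t w c hq hW hc
  have hp : (p ≫ pullback.diagonal f) ≫ w = g ≫ q := by simp [w, hP.w]
  let g' : P ⟶ pullback w q := pullback.lift (p ≫ pullback.diagonal f) g hp
  have hP' : IsPullback p g' (pullback.diagonal f) (pullback.fst w q) := by
    refine IsPullback.of_bot ?_ (pullback.lift_fst _ _ _).symm hW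
    rw [pullback.lift_snd, show pullback.diagonal f ≫ w = f by simp [w]]
    exact hP
  have hg' : Pr g' := by
    have h1 : (pullback.fst w q ≫ pullback.fst f f) ≫ f = pullback.snd w q ≫ q := by
      rw [Category.assoc]; exact pullback.condition
    have h2 : (pullback.fst w q ≫ pullback.snd f f) ≫ f = pullback.snd w q ≫ q := by
      rw [Category.assoc, ← pullback.condition (f := f) (g := f)]; exact pullback.condition
    let φ : pullback w q ⟶ pullback g g :=
      pullback.lift (hP.lift _ _ h1) (hP.lift _ _ h2) (by simp)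
    let ψ : pullback g g ⟶ pullback w q :=
      pullback.lift (pullback.lift (pullback.fst g g ≫ p) (pullback.snd g g ≫ p)
        (by simp only [Category.assoc, hP.w, reassoc_of% (pullback.condition (f := g) (g := g))]))
        (pullback.fst g g ≫ g) (by simp [w, hP.w])
    have hψφ : ψ ≫ φ = 𝟙 _ := by
      apply pullback.hom_ext
      · apply hP.hom_ext <;> simp [φ, ψ]
      · apply hP.hom_ext <;> simp [φ, ψ, pullback.condition]
    have hφψ : φ ≫ ψ = 𝟙 _ := by
      apply pullback.hom_ext
      · apply pullback.hom_ext <;> simp [φ, ψ]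
      · simp [φ, ψ]
    haveI : IsIso ψ := ⟨φ, hψφ, hφψ⟩
    have hψ : g' = pullback.diagonal g ≫ ψ := by
      apply pullback.hom_ext
      · apply pullback.hom_ext <;> simp [g', ψ]
      · simp [g', ψ]
    rw [hψ, MorphismProperty.cancel_right_of_respectsIso Pr]
    exact hg
  obtain ⟨k, hk⟩ := H (pbCone D t w c hq hW) (pullback.fst w q) g' hlim
    (fun j => pbCone_fst D t w c hq hW j) hP' hg'
  refine ⟨k, ?_⟩
  let T := t.app k
  let η' : pullback f T ⟶ pullback (pullback.diagonal f) (pullback.fst w T) :=
    pullback.lift (pullback.fst f T) (pullback.lift (pullback.fst f T ≫ pullback.diagonal f)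
      (pullback.snd f T) (by simp [w, pullback.condition])) (by simp)
  have h4 : (pullback.fst (pullback.diagonal f) (pullback.fst w T)) ≫ f =
      (pullback.snd (pullback.diagonal f) (pullback.fst w T) ≫ pullback.snd w T) ≫ T := by
    rw [Category.assoc, ← pullback.condition, ← reassoc_of% pullback.condition]
    simp [w]
  haveI : IsIso η' := ⟨pullback.lift _ _ h4, by apply pullback.hom_ext <;> simp [η'], by
    apply pullback.hom_ext
    · simp [η']
    · apply pullback.hom_ext
      · simp [η', pullback.condition]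
      · simp [η']⟩
  have h5 : (pullback.fst w T ≫ pullback.fst f f) ≫ f = pullback.snd w T ≫ T := by
    rw [Category.assoc]; exact pullback.condition
  have h6 : (pullback.fst w T ≫ pullback.snd f f) ≫ f = pullback.snd w T ≫ T := by
    rw [Category.assoc, ← pullback.condition (f := f) (g := f)]; exact pullback.condition
  let ρ : pullback w T ⟶ pullback (pullback.snd f T) (pullback.snd f T) :=
    pullback.lift (pullback.lift _ _ h5) (pullback.lift _ _ h6) (by simp)
  let ξ : pullback (pullback.snd f T) (pullback.snd f T) ⟶ pullback w T :=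
    pullback.lift (pullback.lift (pullback.fst _ _ ≫ pullback.fst f T)
      (pullback.snd _ _ ≫ pullback.fst f T)
      (by simp only [Category.assoc, pullback.condition]
          rw [reassoc_of% (pullback.condition (f := pullback.snd f T) (g := pullback.snd f T))]))
      (pullback.fst _ _ ≫ pullback.snd f T) (by simp [w, pullback.condition])
  haveI : IsIso ρ := ⟨ξ, by
    apply pullback.hom_ext
    · apply pullback.hom_ext <;> simp [ξ, ρ]
    · simp [ξ, ρ], by
    apply pullback.hom_ext
    · apply pullback.hom_ext <;> simp [ξ, ρ]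
    · apply pullback.hom_ext <;> simp [ξ, ρ, pullback.condition]⟩
  have hdiag : pullback.diagonal (pullback.snd f T) =
      η' ≫ pullback.snd (pullback.diagonal f) (pullback.fst w T) ≫ ρ := by
    apply pullback.hom_ext <;> apply pullback.hom_ext <;> simp [η', ρ]
  rw [hdiag, MorphismProperty.cancel_left_of_respectsIso Pr,
    MorphismProperty.cancel_right_of_respectsIso Pr]
  exact hk

/-- Being formally unramified descends, for morphisms locally of finite type. -/
theorem exists_formallyUnramified_lft [CompactSpace S] [QuasiSeparatedSpace S] (hc : IsLimit c)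
    [QuasiCompact f] [QuasiSeparated f] [LocallyOfFiniteType f]
    (hq : ∀ j, c.π.app j ≫ t.app j = q) (hP : IsPullback p g f q) [FormallyUnramified g] :
    ∃ j, FormallyUnramified (pullback.snd f (t.app j)) := by
  haveI : CompactSpace X := QuasiCompact.compactSpace_of_compactSpace f
  haveI : QuasiSeparatedSpace X := quasiSeparatedSpace_of_quasiSeparated f
  haveI : CompactSpace ↥(pullback f f) :=
    QuasiCompact.compactSpace_of_compactSpace (pullback.fst f f)
  haveI : QuasiSeparatedSpace ↥(pullback f f) :=
    quasiSeparatedSpace_of_quasiSeparated (pullback.fst f f)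
  haveI : LocallyOfFiniteType g :=
    MorphismProperty.of_isPullback hP (inferInstanceAs (LocallyOfFiniteType f))
  haveI := locallyOfFinitePresentation_diagonal f
  obtain ⟨j, hj⟩ := exists_diagonal @IsOpenImmersion hc hq hP inferInstance
    fun e q' g' he hq' hP' hg' => by
      have : IsOpenImmersion g' := hg'
      exact exists_isOpenImmersion (f := pullback.diagonal f) he hq' hP'
  have : IsOpenImmersion (pullback.diagonal (pullback.snd f (t.app j))) := hj
  exact ⟨j, inferInstance⟩

/-- Being separated descends, without finiteness hypotheses. -/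
theorem exists_isSeparated [CompactSpace S] [QuasiSeparatedSpace S] (hc : IsLimit c)
    [QuasiCompact f] [QuasiSeparated f]
    (hq : ∀ j, c.π.app j ≫ t.app j = q) (hP : IsPullback p g f q) [IsSeparated g] :
    ∃ j, IsSeparated (pullback.snd f (t.app j)) := by
  haveI : CompactSpace X := QuasiCompact.compactSpace_of_compactSpace f
  haveI : QuasiSeparatedSpace X := quasiSeparatedSpace_of_quasiSeparated f
  haveI : CompactSpace ↥(pullback f f) :=
    QuasiCompact.compactSpace_of_compactSpace (pullback.fst f f)
  haveI : QuasiSeparatedSpace ↥(pullback f f) :=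
    quasiSeparatedSpace_of_quasiSeparated (pullback.fst f f)
  obtain ⟨j, hj⟩ := exists_diagonal @IsClosedImmersion hc hq hP inferInstance
    fun e q' g' he hq' hP' hg' => by
      have : IsClosedImmersion g' := hg'
      exact exists_isClosedImmersion (f := pullback.diagonal f) he hq' hP'
  exact ⟨j, ⟨hj⟩⟩

/-- In a pushout square of commutative rings, a subring containing the images of both summands
is everything. -/
theorem eq_top_of_isPushout {A B C E : CommRingCat.{u}} {a : A ⟶ B} {b : A ⟶ C} {u : B ⟶ E}
    {v : C ⟶ E} (h : IsPushout a b u v) (K : Subring E) (hu : ∀ x, u x ∈ K) (hv : ∀ x, v x ∈ K) :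
    K = ⊤ := by
  let u' : B ⟶ CommRingCat.of K := CommRingCat.ofHom (u.hom.codRestrict _ hu)
  let v' : C ⟶ CommRingCat.of K := CommRingCat.ofHom (v.hom.codRestrict _ hv)
  let j : CommRingCat.of K ⟶ E := CommRingCat.ofHom K.subtype
  have hw : a ≫ u' = b ≫ v' := by
    ext y
    exact congrArg (fun m : A ⟶ E => m y) h.w
  have hd : h.desc u' v' hw ≫ j = 𝟙 E := by
    apply h.hom_ext
    · rw [h.inl_desc_assoc, Category.comp_id]; rfl
    · rw [h.inr_desc_assoc, Category.comp_id]; rfl
  rw [eq_top_iff]
  intro e _
  have : j (h.desc u' v' hw e) = e := congrArg (fun m : E ⟶ E => m e) hd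
  rw [← this]
  exact (h.desc u' v' hw e).2

/-- Finitely many global functions on a limit come from a common stage. -/
theorem exists_stage_of_finset [∀ i, CompactSpace (D.obj i)] [∀ i, QuasiSeparatedSpace (D.obj i)]
    [∀ {i j : I} (a : i ⟶ j), IsAffineHom (D.map a)] (hc : IsLimit c) (i : I)
    (F : Finset Γ(c.pt, ⊤)) :
    ∃ (j : I) (_ : j ⟶ i), ∀ x ∈ F, x ∈ (c.π.app j).appTop.hom.range := by
  classical
  choose k y hy using fun x : F => exists_appTop_π_eq_of_isLimit D c hc x.1
  obtain ⟨j, hj⟩ := IsCofiltered.inf_objs_exists (insert i (Finset.univ.image k))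
  refine ⟨j, (hj (Finset.mem_insert_self _ _)).some, fun x hx => ?_⟩
  obtain ⟨b⟩ := hj (Finset.mem_insert_of_mem (Finset.mem_image_of_mem k (Finset.mem_univ ⟨x, hx⟩)))
  refine ⟨(D.map b).appTop (y ⟨x, hx⟩), ?_⟩
  have hm : (D.map b).appTop ≫ (c.π.app j).appTop = (c.π.app (k ⟨x, hx⟩)).appTop := by
    rw [← Scheme.Hom.comp_appTop, c.w]
  exact (congrArg (fun m => m (y ⟨x, hx⟩)) hm).trans (hy ⟨x, hx⟩).symm

/-- Being finite descends, affine base. -/
theorem exists_isFinite_of_isAffine [IsAffine S] [CompactSpace S] [QuasiSeparatedSpace S]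
    (hc : IsLimit c) [QuasiCompact f]
    [QuasiSeparated f] [LocallyOfFiniteType f] (hq : ∀ j, c.π.app j ≫ t.app j = q)
    (hP : IsPullback p g f q) [IsFinite g] :
    ∃ j, IsFinite (pullback.snd f (t.app j)) := by
  obtain ⟨i, hi⟩ := Descend.exists_isAffineHom hc hq hP
  haveI : CompactSpace X := QuasiCompact.compactSpace_of_compactSpace f
  haveI : QuasiSeparatedSpace X := quasiSeparatedSpace_of_quasiSeparated f
  haveI := fun k => compactSpace_obj D t k
  haveI := fun k => quasiSeparatedSpace_obj D t k
  haveI hD : ∀ k, IsAffine (D.obj k) := fun k => by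
    haveI : IsAffine (((Functor.const I).obj S).obj k) := ‹IsAffine S›
    exact isAffine_of_isAffineHom (t.app k)
  haveI : ∀ {i j : I} (a : i ⟶ j), IsAffineHom (D.map a) := fun a => isAffineHom_map D t a
  haveI : IsAffine c.pt := Scheme.isAffine_of_isLimit _ hc
  haveI : IsAffine ((pbDiagram D t f).obj i) := isAffine_of_isAffineHom (pullback.snd f (t.app i))
  haveI : IsAffine (pullback f (t.app i)) := ‹IsAffine ((pbDiagram D t f).obj i)›
  have hlim := pbIsLimit D t f c hq hP hc
  have hft : (pullback.snd f (t.app i)).appTop.hom.FiniteType :=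
    (HasRingHomProperty.iff_of_isAffine (P := @LocallyOfFiniteType)).1 inferInstance
  algebraize [(pullback.snd f (t.app i)).appTop.hom]
  obtain ⟨s, hs⟩ := hft.out
  have hint : g.appTop.hom.IsIntegral :=
    ((HasAffineProperty.iff_of_isAffine (P := @IsIntegralHom)).1 inferInstance).2
  classical
  have key : ∀ x : s, ∃ (j : I) (a : j ⟶ i),
      (pullback.snd f (t.app j)).appTop.hom.IsIntegralElem
        (((pbDiagram D t f).map a).appTop x.1) := by
    intro x
    obtain ⟨μ, hμ, hμx⟩ := hint (((pbCone D t f c hq hP).π.app i).appTop x.1)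
    obtain ⟨k, a, hk⟩ := exists_stage_of_finset hc i (μ.support.image μ.coeff)
    obtain ⟨ν, hνμ, hν⟩ : ∃ ν : Polynomial Γ(D.obj k, ⊤),
        ν.map (c.π.app k).appTop.hom = μ ∧ ν.Monic := by
      have hl : μ ∈ Polynomial.lifts (c.π.app k).appTop.hom := by
        rw [Polynomial.lifts_iff_coeff_lifts]
        intro n
        by_cases hn : n ∈ μ.support
        · exact hk _ (Finset.mem_image_of_mem _ hn)
        · rw [Polynomial.notMem_support_iff.1 hn]; exact ⟨0, map_zero _⟩
      rcases subsingleton_or_nontrivial Γ(c.pt, ⊤) with h0 | h0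
      · haveI : Subsingleton ↑Γ(((Functor.const I).obj c.pt).obj k, ⊤) := h0
        exact ⟨1, Subsingleton.elim _ _, Polynomial.monic_one⟩
      · haveI : Nontrivial ↑Γ(((Functor.const I).obj c.pt).obj k, ⊤) := h0
        obtain ⟨ν, hν, -, hν'⟩ := Polynomial.lifts_and_degree_eq_and_monic hl hμ
        exact ⟨ν, hν, hν'⟩
    obtain ⟨j, b, hb⟩ := exists_appTop_map_eq_zero_of_isLimit (pbDiagram D t f)
      (pbCone D t f c hq hP) hlim (i := k)
      (Polynomial.eval₂ (pullback.snd f (t.app k)).appTop.hom
        (((pbDiagram D t f).map a).appTop x.1) ν) (by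
        have h1 : ((pbDiagram D t f).map a).appTop ≫ ((pbCone D t f c hq hP).π.app k).appTop =
            ((pbCone D t f c hq hP).π.app i).appTop := by
          rw [← Scheme.Hom.comp_appTop, Cone.w]
        have h2 : (pullback.snd f (t.app k)).appTop ≫ ((pbCone D t f c hq hP).π.app k).appTop =
            (c.π.app k).appTop ≫ g.appTop := by
          rw [← Scheme.Hom.comp_appTop, ← Scheme.Hom.comp_appTop, pbCone_snd]
        refine (Polynomial.hom_eval₂ ν _
          ((pbCone D t f c hq hP).π.app k).appTop.hom _).trans ?_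
        refine Eq.trans ?_ hμx
        rw [← hνμ, Polynomial.eval₂_map]
        exact congrArg₂ (fun φ y => Polynomial.eval₂ φ y ν) (congrArg CommRingCat.Hom.hom h2)
          (congrArg (fun m => m x.1) h1))
    refine ⟨j, b ≫ a, ν.map (D.map b).appTop.hom, hν.map _, ?_⟩
    rw [Polynomial.eval₂_map]
    refine Eq.trans ?_ hb
    refine Eq.trans ?_ (Polynomial.hom_eval₂ ν _ ((pbDiagram D t f).map b).appTop.hom _).symm
    have h3 : (D.map b).appTop ≫ (pullback.snd f (t.app j)).appTop =
        (pullback.snd f (t.app k)).appTop ≫ ((pbDiagram D t f).map b).appTop := by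
      rw [← Scheme.Hom.comp_appTop, ← Scheme.Hom.comp_appTop, pbMap_snd]
    have h4 : ((pbDiagram D t f).map (b ≫ a)).appTop =
        ((pbDiagram D t f).map a).appTop ≫ ((pbDiagram D t f).map b).appTop := by
      rw [← Scheme.Hom.comp_appTop, Functor.map_comp]
    exact congrArg₂ (fun φ y => Polynomial.eval₂ φ y ν) (congrArg CommRingCat.Hom.hom h3)
      (congrArg (fun m => m x.1) h4)
  choose j a hj using key
  obtain ⟨k, b, e, he⟩ := IsCofiltered.wideCospan a
  refine ⟨k, ?_⟩
  haveI : IsAffineHom (pullback.snd f (t.app k)) :=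
    MorphismProperty.of_isPullback (pbMap_isPullback D t f b) hi
  haveI : IsAffine (pullback f (t.app k)) := isAffine_of_isAffineHom (pullback.snd f (t.app k))
  algebraize [(pullback.snd f (t.app k)).appTop.hom]
  let φ := (pullback.snd f (t.app k)).appTop.hom
  let K : Subring Γ(pullback f (t.app k), ⊤) :=
    (integralClosure Γ(D.obj k, ⊤) Γ(pullback f (t.app k), ⊤)).toSubring
  have hK : ∀ y, φ y ∈ K := fun y => φ.isIntegralElem_map
  have hKs : ∀ x : s, ((pbDiagram D t f).map b).appTop x.1 ∈ K := by
    intro x
    obtain ⟨ν, hν, hν0⟩ := hj x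
    refine ⟨ν.map (D.map (e x)).appTop.hom, hν.map _, ?_⟩
    rw [Polynomial.eval₂_map]
    have h3 : (D.map (e x)).appTop ≫ (pullback.snd f (t.app k)).appTop =
        (pullback.snd f (t.app (j x))).appTop ≫ ((pbDiagram D t f).map (e x)).appTop := by
      rw [← Scheme.Hom.comp_appTop, ← Scheme.Hom.comp_appTop, pbMap_snd]
    have h4 : ((pbDiagram D t f).map b).appTop =
        ((pbDiagram D t f).map (a x)).appTop ≫ ((pbDiagram D t f).map (e x)).appTop := by
      rw [← Scheme.Hom.comp_appTop, ← Functor.map_comp, he x]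
    refine Eq.trans ?_ ((Polynomial.hom_eval₂ ν _
      ((pbDiagram D t f).map (e x)).appTop.hom _).symm.trans
        ((congrArg _ hν0).trans (map_zero _)))
    exact congrArg₂ (fun φ y => Polynomial.eval₂ φ y ν) (congrArg CommRingCat.Hom.hom h3)
      (congrArg (fun m => m x.1) h4)
  have hsq := isPushout_appTop_of_isPullback (pbMap_isPullback D t f b)
  have htop : K = ⊤ := by
    refine eq_top_of_isPushout hsq K (fun (x : Γ(pullback f (t.app i), ⊤)) => ?_) hK
    have hx : x ∈ Algebra.adjoin Γ(D.obj i, ⊤) (s : Set Γ(pullback f (t.app i), ⊤)) := by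
      rw [hs]; trivial
    rw [← Subalgebra.mem_toSubring, Algebra.adjoin_eq_ring_closure] at hx
    refine (Subring.closure_le
      (t := K.comap ((pbDiagram D t f).map b).appTop.hom)).2 ?_ hx
    rintro _ (⟨y, rfl⟩ | hy)
    · rw [SetLike.mem_coe, Subring.mem_comap]
      have hm := congrArg (fun m => m y) hsq.w
      exact (congrArg (fun z : Γ(pullback f (t.app k), ⊤) => z ∈ K) hm).mpr
        (hK ((D.map b).appTop y))
    · exact hKs ⟨_, hy⟩
  refine (IsFinite.iff_isIntegralHom_and_locallyOfFiniteType _).2 ⟨?_, inferInstance⟩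
  rw [HasAffineProperty.iff_of_isAffine (P := @IsIntegralHom)]
  exact ⟨inferInstance, fun x => (htop.ge (Subring.mem_top x) : x ∈ K)⟩

/-- Being finite descends. -/
theorem exists_isFinite [CompactSpace S] (hc : IsLimit c) [QuasiCompact f]
    [QuasiSeparated f] [LocallyOfFiniteType f] (hq : ∀ j, c.π.app j ≫ t.app j = q)
    (hP : IsPullback p g f q) [IsFinite g] :
    ∃ j, IsFinite (pullback.snd f (t.app j)) := by
  refine exists_of_affine_base @IsFinite
    (@QuasiCompact ⊓ @QuasiSeparated ⊓ @LocallyOfFiniteType) @IsFinite hc hq hP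
    inferInstance ⟨⟨inferInstance, inferInstance⟩, inferInstance⟩ ?_
  intro S' X' _ D' t' _ f' c' q' P' p' g' hf' hc' hq' hP' hg'
  have := hf'.1.1
  have := hf'.1.2
  have := hf'.2
  have : IsFinite g' := hg'
  exact exists_isFinite_of_isAffine hc' hq' hP'

end Groth.Agent.LimH13
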