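import Groth.Agent.Lib.LimH13.Hom
import Groth.Agent.Lib.LimH13.Descend
import Mathlib.AlgebraicGeometry.Morphisms.IsIso

/-!
# Descent of isomorphisms along limits
-/

universe u

set_option backward.isDefEq.respectTransparency false
set_option backward.defeqAttrib.useBackward true
set_option linter.style.haveILetI false

open CategoryTheory CategoryTheory.Limits AlgebraicGeometry

namespace Groth.Agent.LimH13

open Groth.Agent.Descend

variable {I : Type u} [SmallCategory I] [IsCofiltered I] {S X : Scheme.{u}} {D : I ⥤ Scheme.{u}}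
  {t : D ⟶ (Functor.const I).obj S} {f : X ⟶ S} {c : Cone D} {q : c.pt ⟶ S}
  {P : Scheme.{u}} {p : P ⟶ X} {g : P ⟶ c.pt}
  [∀ i, IsAffineHom (t.app i)]

/-- Being an isomorphism descends. -/
theorem exists_isIso [CompactSpace S] (hc : IsLimit c) [QuasiCompact f] [QuasiSeparated f]
    [LocallyOfFinitePresentation f] (hq : ∀ j, c.π.app j ≫ t.app j = q) (hP : IsPullback p g f q)
    [IsIso g] : ∃ j, IsIso (pullback.snd f (t.app j)) := by
  refine exists_of_affine_base (MorphismProperty.isomorphisms Scheme.{u})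
    (@QuasiCompact ⊓ @QuasiSeparated ⊓ @LocallyOfFinitePresentation)
    (MorphismProperty.isomorphisms Scheme.{u}) hc hq hP
    (inferInstanceAs (IsIso g)) ⟨⟨inferInstance, inferInstance⟩, inferInstance⟩ ?_
  intro S' X' _ D' t' _ f' c' q' P' p' g' hf' hc' hq' hP' hg'
  have := hf'.1.1
  have := hf'.1.2
  have := hf'.2
  have : IsIso g' := hg'
  haveI : Surjective g' := inferInstance
  obtain ⟨j₁, h₁⟩ := Descend.exists_isOpenImmersion hc' hq' hP'
  obtain ⟨j₂, h₂⟩ := Descend.exists_surjective hc' hq' hP'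
  refine ⟨IsCofiltered.min j₁ j₂, ?_⟩
  have h3 : IsOpenImmersion (pullback.snd f' (t'.app (IsCofiltered.min j₁ j₂))) :=
    MorphismProperty.of_isPullback (pbMap_isPullback D' t' f' (IsCofiltered.minToLeft j₁ j₂)) h₁
  have h4 : Surjective (pullback.snd f' (t'.app (IsCofiltered.min j₁ j₂))) :=
    MorphismProperty.of_isPullback (pbMap_isPullback D' t' f' (IsCofiltered.minToRight j₁ j₂)) h₂
  show IsIso _
  exact (isIso_iff_isOpenImmersion_and_surjective _).2 ⟨h3, h4⟩

end Groth.Agent.LimH13
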