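import Mathlib
import Groth.Agent.Lib.LimH13.Hom
import Groth.Agent.Lib.LimH13.Iso
import Groth.Agent.Lib.SchBasic.Basic
import Groth.Agent.Lib.FlatH4.NoethApprox

/-!
# Schemes of finite presentation over a limit come from a stage (EGA IV 8.8.2 (ii))
-/

universe u

set_option backward.isDefEq.respectTransparency false
set_option backward.defeqAttrib.useBackward true
set_option linter.style.haveILetI false

open CategoryTheory CategoryTheory.Limits AlgebraicGeometry Topology TopologicalSpace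

namespace Groth.Agent.LimH13

variable {I : Type u} [SmallCategory I] {D : I ⥤ Scheme.{u}} {c : Cone D}

/-- A morphism to the limit has a finitely presented model at a stage. -/
def HasModel (c : Cone D) {P : Scheme.{u}} (p : P ⟶ c.pt) : Prop :=
  ∃ (i : I) (Pi : Scheme.{u}) (pi : Pi ⟶ D.obj i) (q : P ⟶ Pi),
    LocallyOfFinitePresentation pi ∧ CompactSpace Pi ∧ QuasiSeparatedSpace Pi ∧
      IsPullback q p pi (c.π.app i)

lemma isPullback_map_stage {i j : I} (φ : j ⟶ i) {P Pi : Scheme.{u}} {p : P ⟶ c.pt}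
    {pi : Pi ⟶ D.obj i} {q : P ⟶ Pi} (h : IsPullback q p pi (c.π.app i)) :
    ∃ q' : P ⟶ pullback pi (D.map φ), q' ≫ pullback.fst pi (D.map φ) = q ∧
      IsPullback q' p (pullback.snd pi (D.map φ)) (c.π.app j) := by
  have hw : q ≫ pi = (p ≫ c.π.app j) ≫ D.map φ := by rw [Category.assoc, c.w, h.w]
  refine ⟨pullback.lift q (p ≫ c.π.app j) hw, pullback.lift_fst _ _ _,
    IsPullback.of_right ?_ (pullback.lift_snd _ _ _) (IsPullback.of_hasPullback pi (D.map φ))⟩
  rw [pullback.lift_fst, c.w]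
  exact h

section

variable [∀ {i j : I} (a : i ⟶ j), IsAffineHom (D.map a)]

lemma compactSpace_pullback_map {i j : I} (φ : j ⟶ i) {Pi : Scheme.{u}} (pi : Pi ⟶ D.obj i)
    [CompactSpace Pi] : CompactSpace ↥(pullback pi (D.map φ)) :=
  haveI : IsAffineHom (pullback.fst pi (D.map φ)) := MorphismProperty.pullback_fst _ _ inferInstance
  QuasiCompact.compactSpace_of_compactSpace (pullback.fst pi (D.map φ))

lemma quasiSeparatedSpace_pullback_map {i j : I} (φ : j ⟶ i) {Pi : Scheme.{u}} (pi : Pi ⟶ D.obj i)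
    [QuasiSeparatedSpace Pi] : QuasiSeparatedSpace ↥(pullback pi (D.map φ)) :=
  haveI : IsAffineHom (pullback.fst pi (D.map φ)) := MorphismProperty.pullback_fst _ _ inferInstance
  quasiSeparatedSpace_of_quasiSeparated (pullback.fst pi (D.map φ))

lemma HasModel.stage {P : Scheme.{u}} {p : P ⟶ c.pt} {i : I} {Pi : Scheme.{u}} {pi : Pi ⟶ D.obj i}
    {q : P ⟶ Pi} [LocallyOfFinitePresentation pi] [CompactSpace Pi] [QuasiSeparatedSpace Pi]
    (h : IsPullback q p pi (c.π.app i)) {j : I} (φ : j ⟶ i) :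
    ∃ (Pj : Scheme.{u}) (pj : Pj ⟶ D.obj j) (q' : P ⟶ Pj), LocallyOfFinitePresentation pj ∧
      CompactSpace Pj ∧ QuasiSeparatedSpace Pj ∧ IsPullback q' p pj (c.π.app j) := by
  obtain ⟨q', -, hq'⟩ := isPullback_map_stage φ h
  exact ⟨_, _, q', inferInstance, compactSpace_pullback_map φ pi,
    quasiSeparatedSpace_pullback_map φ pi, hq'⟩

variable [IsCofiltered I]

/-- A finitely presented affine scheme over an affine limit comes from a stage. -/
theorem exists_affine_model {E : I ⥤ Scheme.{u}} {e : Cone E} (he : IsLimit e)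
    [∀ i, IsAffine (E.obj i)] {P : Scheme.{u}} (p : P ⟶ e.pt) [IsAffine P]
    [LocallyOfFinitePresentation p] : HasModel e p := by
  classical
  haveI : IsAffine e.pt := Scheme.isAffine_of_isLimit e he
  haveI : ∀ {i j : I} (a : i ⟶ j), IsAffineHom (E.map a) := fun a => isAffineHom_of_isAffine _
  have hfp : p.appTop.hom.FinitePresentation :=
    (HasRingHomProperty.iff_of_isAffine (P := @LocallyOfFinitePresentation)).1 inferInstance
  let _ := p.appTop.hom.toAlgebra
  haveI : Algebra.FinitePresentation Γ(e.pt, ⊤) Γ(P, ⊤) := hfp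
  let Pr := Algebra.Presentation.ofFinitePresentation Γ(e.pt, ⊤) Γ(P, ⊤)
  choose ix tx htx using fun s : Γ(e.pt, ⊤) => exists_appTop_π_eq_of_isAffine_of_isLimit E e he s
  obtain ⟨i, hi⟩ := IsCofiltered.inf_objs_exists (Pr.finite_coeffs.toFinset.image ix)
  let _ : Algebra Γ(E.obj i, ⊤) Γ(e.pt, ⊤) := (e.π.app i).appTop.hom.toAlgebra
  let _ : Algebra Γ(E.obj i, ⊤) Γ(P, ⊤) := (p.appTop.hom.comp (e.π.app i).appTop.hom).toAlgebra
  haveI : IsScalarTower Γ(E.obj i, ⊤) Γ(e.pt, ⊤) Γ(P, ⊤) := IsScalarTower.of_algebraMap_eq fun _ => rfl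
  haveI : Pr.HasCoeffs Γ(E.obj i, ⊤) := ⟨fun x hx => by
    obtain ⟨a⟩ := hi (Finset.mem_image_of_mem ix (Pr.finite_coeffs.mem_toFinset.2 hx))
    refine ⟨(E.map a).appTop (tx x), ?_⟩
    change ((E.map a).appTop ≫ (e.π.app i).appTop) (tx x) = x
    rw [← Scheme.Hom.comp_appTop, e.w]
    exact htx x⟩
  let B₀ := Pr.ModelOfHasCoeffs Γ(E.obj i, ⊤)
  obtain ⟨g, hg⟩ := FlatH4.isPullback_of_affine p (R := Γ(E.obj i, ⊤)) (B₀ := B₀)
    (Pr.tensorModelOfHasCoeffsEquiv Γ(E.obj i, ⊤))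
  let b : Spec (CommRingCat.of B₀) ⟶ Spec Γ(E.obj i, ⊤) :=
    Spec.map (CommRingCat.ofHom (algebraMap Γ(E.obj i, ⊤) B₀))
  haveI : LocallyOfFinitePresentation b :=
    (LocallyOfFinitePresentation.SpecMap_iff _).2 (RingHom.finitePresentation_algebraMap.2 inferInstance)
  refine ⟨i, _, b ≫ (E.obj i).isoSpec.inv, g, inferInstance, inferInstance, inferInstance, ?_⟩
  have hsq : IsPullback (𝟙 _) b (b ≫ (E.obj i).isoSpec.inv) (E.obj i).isoSpec.inv :=
    IsPullback.of_horiz_isIso ⟨by simp⟩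
  have h := hg.paste_horiz hsq
  rw [Category.comp_id] at h
  have heq : (e.pt.isoSpec.hom ≫ Spec.map (CommRingCat.ofHom (algebraMap Γ(E.obj i, ⊤) Γ(e.pt, ⊤)))) ≫
      (E.obj i).isoSpec.inv = e.π.app i := by
    change (e.pt.isoSpec.hom ≫ Spec.map (e.π.app i).appTop) ≫ _ = _
    exact (Category.assoc _ _ _).trans ((congrArg (e.pt.isoSpec.hom ≫ ·)
      (Scheme.isoSpec_inv_naturality (X := e.pt) (Y := E.obj i) (e.π.app i))).trans (e.pt.isoSpec.hom_inv_id_assoc _))
  rwa [heq] at h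

end

variable [IsCofiltered I] [∀ {i j : I} (a : i ⟶ j), IsAffineHom (D.map a)]

/-- An affine open of a finitely presented scheme over a limit, lying over the preimage of an affine
open of a stage, has a model. -/
theorem hasModel_affineOpen (hc : IsLimit c) {X : Scheme.{u}} (f : X ⟶ c.pt)
    [LocallyOfFinitePresentation f] {i : I} {U : (D.obj i).Opens} (hU : IsAffineOpen U) {V : X.Opens}
    (hV : IsAffineOpen V) (hVU : V ≤ f ⁻¹ᵁ c.π.app i ⁻¹ᵁ U) : HasModel c (V.ι ≫ f) := by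
  haveI : IsAffine (V : Scheme.{u}) := hV
  haveI : ∀ k, IsAffine ((opensDiagram D i U).obj k) := fun k => hU.preimage (D.map k.hom)
  haveI : LocallyOfFinitePresentation (f.resLE (c.π.app i ⁻¹ᵁ U) V hVU) :=
    IsZariskiLocalAtSource.resLE hVU inferInstance
  obtain ⟨k, P, pk, q, h1, h2, h3, h4⟩ :=
    exists_affine_model (isLimitOpensCone D c hc i U) (e := opensCone D c i U) (f.resLE _ V hVU)
  haveI := h1
  refine ⟨k.left, P, pk ≫ Scheme.Opens.ι _, q, inferInstance, h2, h3, ?_⟩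
  have hsq : IsPullback ((opensCone D c i U).π.app k) (c.π.app i ⁻¹ᵁ U).ι (D.map k.hom ⁻¹ᵁ U).ι
      (c.π.app k.left) := by
    have e : c.π.app k.left ⁻¹ᵁ (D.map k.hom ⁻¹ᵁ U) = c.π.app i ⁻¹ᵁ U := congr($(c.w k.hom) ⁻¹ᵁ U)
    refine IsOpenImmersion.isPullback _ _ _ _ ?_ ?_
    · simp [opensCone, Scheme.Hom.resLE_comp_ι]
    · rw [Scheme.Opens.opensRange_ι, Scheme.Opens.opensRange_ι]
      exact e
  have h := h4.paste_vert hsq
  rwa [Scheme.Hom.resLE_comp_ι] at h

theorem hasModel_bot {X : Scheme.{u}} (f : X ⟶ c.pt) : HasModel c ((⊥ : X.Opens).ι ≫ f) := by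
  obtain ⟨i⟩ := IsCofiltered.nonempty (C := I)
  haveI : IsEmpty ↥((⊥ : (D.obj i).Opens) : Scheme.{u}) := ⟨fun x => x.2.elim⟩
  haveI : IsEmpty ↥((⊥ : X.Opens) : Scheme.{u}) := ⟨fun x => x.2.elim⟩
  haveI : IsEmpty ↥(pullback (⊥ : (D.obj i).Opens).ι (c.π.app i)) :=
    Function.isEmpty (pullback.fst (⊥ : (D.obj i).Opens).ι (c.π.app i))
  haveI : LocallyOfFinitePresentation (⊥ : (D.obj i).Opens).ι := inferInstance
  refine ⟨i, _, (⊥ : (D.obj i).Opens).ι, isInitialOfIsEmpty.to _, inferInstance, inferInstance,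
    inferInstance, ?_⟩
  exact IsPullback.of_iso_pullback ⟨isInitialOfIsEmpty.hom_ext _ _⟩
    (isInitialOfIsEmpty.uniqueUpToIso isInitialOfIsEmpty) (isInitialOfIsEmpty.hom_ext _ _)
    (isInitialOfIsEmpty.hom_ext _ _)

/-- A compact open of the limit of a system pulled back along a model comes from a stage. -/
theorem exists_open_stage (hc : IsLimit c) {i : I} {Pi : Scheme.{u}} (pi : Pi ⟶ D.obj i)
    [CompactSpace Pi] {P : Scheme.{u}} {q : P ⟶ Pi} {p : P ⟶ c.pt}
    (h : IsPullback q p pi (c.π.app i)) (U : P.Opens) (hU : IsCompact (U : Set P)) :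
    ∃ (j : I) (φ : j ⟶ i) (q' : P ⟶ pullback pi (D.map φ)) (U' : (pullback pi (D.map φ)).Opens),
      IsPullback q' p (pullback.snd pi (D.map φ)) (c.π.app j) ∧ IsCompact (U' : Set ↥(pullback pi (D.map φ))) ∧
        q' ⁻¹ᵁ U' = U := by
  let F := Over.forget i
  let c' : Cone (F ⋙ D) := c.whisker F
  have hc' : IsLimit c' := (Functor.Initial.isLimitWhiskerEquiv F c).symm hc
  have hq : ∀ k, c'.π.app k ≫ (Descend.overT D i).app k = c.π.app i := fun k => c.w k.hom
  haveI : ∀ k, IsAffineHom ((Descend.overT D i).app k) := fun k =>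
    ‹∀ {i j : I} (a : i ⟶ j), IsAffineHom (D.map a)› k.hom
  obtain ⟨k, U', hU', hUU⟩ := exists_preimage_eq _ _
    (Descend.pbIsLimit (F ⋙ D) (Descend.overT D i) pi c' hq h hc') U hU
  exact ⟨k.left, k.hom, _, U', Descend.pbCone_isPullback (F ⋙ D) (Descend.overT D i) pi c' hq h k, hU', hUU⟩

/-- The range of the top of a pullback square of open immersions. -/
lemma opensRange_of_isPullback {U V X Y : Scheme.{u}} {g : U ⟶ V} {iU : U ⟶ X} {iV : V ⟶ Y} {f : X ⟶ Y}
    [IsOpenImmersion iU] [IsOpenImmersion iV] (h : IsPullback g iU iV f) :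
    iU.opensRange = f ⁻¹ᵁ iV.opensRange := by
  ext x
  refine ⟨?_, fun ⟨v, hv⟩ => ?_⟩
  · rintro ⟨u, rfl⟩
    exact ⟨g u, by rw [← Scheme.Hom.comp_apply, ← Scheme.Hom.comp_apply, h.w]⟩
  · obtain ⟨u, -, hu⟩ := Scheme.exists_preimage_of_isPullback h v x hv
    exact ⟨u, hu⟩

/-- Two models over the same stage of one scheme over the limit become one model at a later stage. -/
theorem exists_common_model (hc : IsLimit c) (i : I) {Xi Yi : Scheme.{u}} (xi : Xi ⟶ D.obj i)
    (yi : Yi ⟶ D.obj i) [CompactSpace Xi] [QuasiSeparatedSpace Xi] [CompactSpace Yi] [QuasiSeparatedSpace Yi]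
    [LocallyOfFinitePresentation xi] [LocallyOfFinitePresentation yi]
    {W : Scheme.{u}} {p : W ⟶ c.pt} {qX : W ⟶ Xi} {qY : W ⟶ Yi}
    (hX : IsPullback qX p xi (c.π.app i)) (hY : IsPullback qY p yi (c.π.app i)) :
    ∃ (j : I) (φ : j ⟶ i) (Z : Scheme.{u}) (zx : Z ⟶ Xi) (zy : Z ⟶ Yi) (z : Z ⟶ D.obj j) (s : W ⟶ Z),
      CompactSpace Z ∧ IsPullback zx z xi (D.map φ) ∧ IsPullback zy z yi (D.map φ) ∧
      s ≫ zx = qX ∧ s ≫ zy = qY ∧ IsPullback s p z (c.π.app j) := by
  obtain ⟨j₁, φ₁, v, sX, sY, hv, hX1, hX2, hY1, hY2, hcomm⟩ :=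
    exists_hom_descend hc i xi yi qX p hX qY p hY (𝟙 W) (Category.id_comp _)
  rw [Category.id_comp] at hcomm
  have hX' : IsPullback sX p (pullback.snd xi (D.map φ₁)) (c.π.app j₁) := by
    refine IsPullback.of_right ?_ hX2 (IsPullback.of_hasPullback xi (D.map φ₁))
    rw [hX1, c.w]; exact hX
  have hY' : IsPullback sY p (pullback.snd yi (D.map φ₁)) (c.π.app j₁) := by
    refine IsPullback.of_right ?_ hY2 (IsPullback.of_hasPullback yi (D.map φ₁))
    rw [hY1, c.w]; exact hY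
  haveI := compactSpace_pullback_map φ₁ xi
  haveI := compactSpace_pullback_map φ₁ yi
  haveI := quasiSeparatedSpace_pullback_map φ₁ xi
  haveI := quasiSeparatedSpace_pullback_map φ₁ yi
  haveI : LocallyOfFinitePresentation v := by
    haveI : LocallyOfFinitePresentation (v ≫ pullback.snd yi (D.map φ₁)) := by rw [hv]; infer_instance
    exact SchBasic.locallyOfFinitePresentation_of_comp v (pullback.snd yi (D.map φ₁))
  let F := Over.forget j₁
  let c' : Cone (F ⋙ D) := c.whisker F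
  have hc' : IsLimit c' := (Functor.Initial.isLimitWhiskerEquiv F c).symm hc
  have hq : ∀ k, c'.π.app k ≫ (Descend.overT D j₁).app k = c.π.app j₁ := fun k => c.w k.hom
  haveI : ∀ k, IsAffineHom ((Descend.overT D j₁).app k) := fun k =>
    ‹∀ {i j : I} (a : i ⟶ j), IsAffineHom (D.map a)› k.hom
  let y₁ := pullback.snd yi (D.map φ₁)
  let E := Descend.pbDiagram (F ⋙ D) (Descend.overT D j₁) y₁
  let t := Descend.pbFst (F ⋙ D) (Descend.overT D j₁) y₁
  let cE := Descend.pbCone (F ⋙ D) (Descend.overT D j₁) y₁ c' hq hY'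
  have hcE : IsLimit cE := Descend.pbIsLimit (F ⋙ D) (Descend.overT D j₁) y₁ c' hq hY' hc'
  have hqE : ∀ k, cE.π.app k ≫ t.app k = sY :=
    Descend.pbCone_fst (F ⋙ D) (Descend.overT D j₁) y₁ c' hq hY'
  have hPv : IsPullback sX (𝟙 W) v sY := by
    refine IsPullback.of_bot ?_ (by simpa using hcomm) hY'
    rw [hv, Category.id_comp]
    exact hX'
  haveI : QuasiCompact v :=
    haveI : QuasiCompact (v ≫ (pullback yi (D.map φ₁)).toSpecΓ) := (quasiCompact_iff_compactSpace _).2 inferInstance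
    QuasiCompact.of_comp v (pullback yi (D.map φ₁)).toSpecΓ
  haveI : QuasiSeparated v :=
    haveI : QuasiSeparated (v ≫ (pullback yi (D.map φ₁)).toSpecΓ) :=
      (HasAffineProperty.iff_of_isAffine (P := @QuasiSeparated)).2 inferInstance
    QuasiSeparated.of_comp v (pullback yi (D.map φ₁)).toSpecΓ
  obtain ⟨k, hk⟩ := exists_isIso (D := E) (c := cE) (t := t) hcE hqE hPv
  let iY := pullback.snd v (t.app k)
  haveI : IsIso iY := hk
  let fy := pullback.fst y₁ (D.map k.hom)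
  let wy := pullback.snd y₁ (D.map k.hom)
  have hy : IsPullback fy wy y₁ (D.map k.hom) := IsPullback.of_hasPullback _ _
  have hsqY : IsPullback iY (iY ≫ wy) wy (𝟙 _) := IsPullback.of_horiz_isIso ⟨by rw [Category.comp_id]⟩
  have hZy : IsPullback (iY ≫ fy ≫ pullback.fst yi (D.map φ₁)) (iY ≫ wy) yi (D.map (k.hom ≫ φ₁)) := by
    have := (hsqY.paste_horiz hy).paste_horiz (IsPullback.of_hasPullback yi (D.map φ₁))
    simpa [D.map_comp] using this
  have hZx : IsPullback (pullback.fst v (t.app k) ≫ pullback.fst xi (D.map φ₁)) (iY ≫ wy) xi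
      (D.map (k.hom ≫ φ₁)) := by
    have h1 : IsPullback (pullback.fst v (t.app k)) iY v fy := IsPullback.of_hasPullback _ _
    have h2 := h1.paste_vert hy
    rw [show v ≫ y₁ = pullback.snd xi (D.map φ₁) from hv] at h2
    have := h2.paste_horiz (IsPullback.of_hasPullback xi (D.map φ₁))
    simpa [D.map_comp] using this
  let s : W ⟶ pullback v (t.app k) := pullback.lift sX (cE.π.app k) (by rw [hcomm, hqE])
  have hs2 : s ≫ iY = cE.π.app k := pullback.lift_snd _ _ _
  refine ⟨k.left, k.hom ≫ φ₁, _, _, _, iY ≫ wy, s, ?_, hZx, hZy, ?_, ?_, ?_⟩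
  · haveI := compactSpace_pullback_map k.hom y₁
    haveI : CompactSpace ↥(((Descend.pbDiagram (F ⋙ D) (Descend.overT D j₁) y₁)).obj k) := ‹_›
    exact QuasiCompact.compactSpace_of_compactSpace iY
  · rw [← Category.assoc, pullback.lift_fst, hX1]
  · rw [← Category.assoc, hs2, ← Category.assoc, show cE.π.app k ≫ fy = sY from hqE k, hY1]
  · have h3 := Descend.pbCone_isPullback (F ⋙ D) (Descend.overT D j₁) y₁ c' hq hY' k
    have h4 : IsPullback s (𝟙 W) iY (cE.π.app k) :=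
      IsPullback.of_vert_isIso ⟨by rw [hs2, Category.id_comp]⟩
    have := h4.paste_vert h3
    rwa [Category.id_comp] at this

/-- The union of two compact opens with models has a model. -/
theorem hasModel_sup (hc : IsLimit c) {X : Scheme.{u}} (f : X ⟶ c.pt) [QuasiSeparatedSpace X]
    (A V : X.Opens) (hA : IsCompact (A : Set X)) (hV : IsCompact (V : Set X))
    (mA : HasModel c (A.ι ≫ f)) (mV : HasModel c (V.ι ≫ f)) : HasModel c ((A ⊔ V).ι ≫ f) := by
  obtain ⟨iA, A₀, a₀, qA₀, _, _, _, hA₀⟩ := mA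
  obtain ⟨iV, V₀, v₀, qV₀, _, _, _, hV₀⟩ := mV
  let W : Scheme.{u} := (A ⊓ V : X.Opens)
  let jWA : W ⟶ A := X.homOfLE inf_le_left
  let jWV : W ⟶ V := X.homOfLE inf_le_right
  have hjA : jWA ≫ A.ι = (A ⊓ V).ι := Scheme.homOfLE_ι _ _
  have hjV : jWV ≫ V.ι = (A ⊓ V).ι := Scheme.homOfLE_ι _ _
  haveI : CompactSpace W := isCompact_iff_compactSpace.1
    (QuasiSeparatedSpace.inter_isCompact (A : Set X) V A.2 hA V.2 hV)
  obtain ⟨jA, φA, qA₁, WA, hA₁, hWAc, hWAe⟩ :=
    exists_open_stage hc a₀ hA₀ jWA.opensRange (isCompact_range jWA.continuous)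
  obtain ⟨jV, φV, qV₁, WV, hV₁, hWVc, hWVe⟩ :=
    exists_open_stage hc v₀ hV₀ jWV.opensRange (isCompact_range jWV.continuous)
  haveI := compactSpace_pullback_map φA a₀
  haveI := compactSpace_pullback_map φV v₀
  haveI := quasiSeparatedSpace_pullback_map φA a₀
  haveI := quasiSeparatedSpace_pullback_map φV v₀
  let toA : IsCofiltered.min jA jV ⟶ jA := IsCofiltered.minToLeft jA jV
  let toV : IsCofiltered.min jA jV ⟶ jV := IsCofiltered.minToRight jA jV
  obtain ⟨qA₂, hqA₂, hA₂⟩ := isPullback_map_stage toA hA₁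
  obtain ⟨qV₂, hqV₂, hV₂⟩ := isPullback_map_stage toV hV₁
  let pA₁ := pullback.fst (pullback.snd a₀ (D.map φA)) (D.map toA)
  let pV₁ := pullback.fst (pullback.snd v₀ (D.map φV)) (D.map toV)
  let a₂ := pullback.snd (pullback.snd a₀ (D.map φA)) (D.map toA)
  let v₂ := pullback.snd (pullback.snd v₀ (D.map φV)) (D.map toV)
  haveI := compactSpace_pullback_map toA (pullback.snd a₀ (D.map φA))
  haveI := compactSpace_pullback_map toV (pullback.snd v₀ (D.map φV))
  haveI := quasiSeparatedSpace_pullback_map toA (pullback.snd a₀ (D.map φA))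
  haveI := quasiSeparatedSpace_pullback_map toV (pullback.snd v₀ (D.map φV))
  haveI : IsAffineHom pA₁ := MorphismProperty.pullback_fst _ _ inferInstance
  haveI : IsAffineHom pV₁ := MorphismProperty.pullback_fst _ _ inferInstance
  let WA₂ := pA₁ ⁻¹ᵁ WA
  let WV₂ := pV₁ ⁻¹ᵁ WV
  haveI : CompactSpace ↥(WA₂ : Scheme.{u}) := isCompact_iff_compactSpace.1
    (QuasiCompact.isCompact_preimage (f := pA₁) _ WA.2 hWAc)
  haveI : CompactSpace ↥(WV₂ : Scheme.{u}) := isCompact_iff_compactSpace.1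
    (QuasiCompact.isCompact_preimage (f := pV₁) _ WV.2 hWVc)
  haveI : QuasiSeparatedSpace ↥(WA₂ : Scheme.{u}) := (isQuasiSeparated_iff_quasiSeparatedSpace _ WA₂.2).mp (.of_quasiSeparatedSpace _)
  haveI : QuasiSeparatedSpace ↥(WV₂ : Scheme.{u}) := (isQuasiSeparated_iff_quasiSeparatedSpace _ WV₂.2).mp (.of_quasiSeparatedSpace _)
  have hWAe₂ : qA₂ ⁻¹ᵁ WA₂ = jWA.opensRange := by
    rw [← Scheme.Hom.comp_preimage, hqA₂, hWAe]
  have hWVe₂ : qV₂ ⁻¹ᵁ WV₂ = jWV.opensRange := by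
    rw [← Scheme.Hom.comp_preimage, hqV₂, hWVe]
  let gA : W ⟶ WA₂ := IsOpenImmersion.lift WA₂.ι (jWA ≫ qA₂) (by
    rintro _ ⟨x, rfl⟩
    rw [Scheme.Opens.range_ι]
    exact hWAe₂.ge ⟨x, rfl⟩)
  let gV : W ⟶ WV₂ := IsOpenImmersion.lift WV₂.ι (jWV ≫ qV₂) (by
    rintro _ ⟨x, rfl⟩
    rw [Scheme.Opens.range_ι]
    exact hWVe₂.ge ⟨x, rfl⟩)
  have sqA : IsPullback gA jWA WA₂.ι qA₂ := IsOpenImmersion.isPullback _ _ _ _
    (IsOpenImmersion.lift_fac _ _ _).symm (by rw [Scheme.Opens.opensRange_ι, hWAe₂])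
  have sqV : IsPullback gV jWV WV₂.ι qV₂ := IsOpenImmersion.isPullback _ _ _ _
    (IsOpenImmersion.lift_fac _ _ _).symm (by rw [Scheme.Opens.opensRange_ι, hWVe₂])
  have pA : IsPullback gA ((A ⊓ V).ι ≫ f) (WA₂.ι ≫ a₂) (c.π.app _) := by
    have := sqA.paste_vert hA₂
    rwa [← Category.assoc, hjA] at this
  have pV : IsPullback gV ((A ⊓ V).ι ≫ f) (WV₂.ι ≫ v₂) (c.π.app _) := by
    have := sqV.paste_vert hV₂
    rwa [← Category.assoc, hjV] at this
  obtain ⟨l, φ, W₃, zA, zV, w₃, s, _, hzA, hzV, hsA, hsV, hs⟩ := exists_common_model hc _ _ _ pA pV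
  obtain ⟨qA, hqA, hA₃⟩ := isPullback_map_stage φ hA₂
  obtain ⟨qV, hqV, hV₃⟩ := isPullback_map_stage φ hV₂
  let A₃ := pullback a₂ (D.map φ)
  let V₃ := pullback v₂ (D.map φ)
  haveI : CompactSpace A₃ := compactSpace_pullback_map φ a₂
  haveI : CompactSpace V₃ := compactSpace_pullback_map φ v₂
  haveI : QuasiSeparatedSpace A₃ := quasiSeparatedSpace_pullback_map φ a₂
  haveI : QuasiSeparatedSpace V₃ := quasiSeparatedSpace_pullback_map φ v₂
  let ιA : W₃ ⟶ A₃ := pullback.lift (zA ≫ WA₂.ι) w₃ (by rw [Category.assoc]; exact hzA.w)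
  let ιV : W₃ ⟶ V₃ := pullback.lift (zV ≫ WV₂.ι) w₃ (by rw [Category.assoc]; exact hzV.w)
  have sqιA : IsPullback zA ιA WA₂.ι (pullback.fst a₂ (D.map φ)) := by
    refine IsPullback.of_bot ?_ (pullback.lift_fst _ _ _).symm (IsPullback.of_hasPullback a₂ (D.map φ))
    rw [pullback.lift_snd]
    exact hzA
  have sqιV : IsPullback zV ιV WV₂.ι (pullback.fst v₂ (D.map φ)) := by
    refine IsPullback.of_bot ?_ (pullback.lift_fst _ _ _).symm (IsPullback.of_hasPullback v₂ (D.map φ))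
    rw [pullback.lift_snd]
    exact hzV
  haveI : IsOpenImmersion ιA := MorphismProperty.of_isPullback sqιA inferInstance
  haveI : IsOpenImmersion ιV := MorphismProperty.of_isPullback sqιV inferInstance
  have hWA₃ : jWA ≫ qA = s ≫ ιA := by
    apply pullback.hom_ext
    · rw [Category.assoc, hqA, Category.assoc, pullback.lift_fst, ← Category.assoc s, hsA]
      exact sqA.w.symm
    · rw [Category.assoc, Category.assoc, pullback.lift_snd, hA₃.w, hs.w]
      simp only [Category.assoc, reassoc_of% hjA]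
  have hWV₃ : jWV ≫ qV = s ≫ ιV := by
    apply pullback.hom_ext
    · rw [Category.assoc, hqV, Category.assoc, pullback.lift_fst, ← Category.assoc s, hsV]
      exact sqV.w.symm
    · rw [Category.assoc, Category.assoc, pullback.lift_snd, hV₃.w, hs.w]
      simp only [Category.assoc, reassoc_of% hjV]
  have hrangeV : jWV.opensRange = qV ⁻¹ᵁ ιV.opensRange := by
    rw [opensRange_of_isPullback sqιV, Scheme.Opens.opensRange_ι, ← Scheme.Hom.comp_preimage, hqV, hWVe₂]
  have hrangeA : jWA.opensRange = qA ⁻¹ᵁ ιA.opensRange := by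
    rw [opensRange_of_isPullback sqιA, Scheme.Opens.opensRange_ι, ← Scheme.Hom.comp_preimage, hqA, hWAe₂]
  let Z := pushout ιA ιV
  let inA : A₃ ⟶ Z := pushout.inl ιA ιV
  let inV : V₃ ⟶ Z := pushout.inr ιA ιV
  haveI : IsOpenImmersion inA := inferInstanceAs (IsOpenImmersion (colimit.ι (span ιA ιV) WalkingSpan.left))
  haveI : IsOpenImmersion inV := inferInstanceAs (IsOpenImmersion (colimit.ι (span ιA ιV) WalkingSpan.right))
  have hinter : ∀ (a : A₃) (b : V₃), inA a = inV b → ∃ w : W₃, ιA w = a ∧ ιV w = b := by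
    intro a b h
    obtain ⟨k, fi, fj, x, h1, h2⟩ :=
      (Scheme.IsLocallyDirected.ι_eq_ι_iff (span ιA ιV) (i := WalkingSpan.left) (j := WalkingSpan.right)).1 h
    rcases fi with _ | _
    · exact nomatch fj
    · rcases fj with _ | _
      exact ⟨x, h1, h2⟩
  have hcover : ∀ y : Z, (∃ a, inA a = y) ∨ ∃ b, inV b = y := by
    intro y
    obtain ⟨k, x, hx⟩ := Scheme.IsLocallyDirected.ι_jointly_surjective (span ιA ιV) y
    rcases k with _ | (_ | _)
    · refine Or.inl ⟨ιA x, ?_⟩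
      rw [← hx, ← Scheme.Hom.comp_apply]
      exact congrArg (fun m : W₃ ⟶ Z => m x) (colimit.w (span ιA ιV) WalkingSpan.Hom.fst)
    · exact Or.inl ⟨x, hx⟩
    · exact Or.inr ⟨x, hx⟩
  let z : Z ⟶ D.obj l := pushout.desc (pullback.snd a₂ (D.map φ)) (pullback.snd v₂ (D.map φ))
    (by simp [ιA, ιV])
  let U : Bool → X.Opens := fun b => cond b A V
  let 𝒬 := Scheme.Opens.iSupOpenCover U
  let qq : ∀ b, (U b : Scheme.{u}) ⟶ Z := fun b => match b with
    | true => qA ≫ inA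
    | false => qV ≫ inV
  have hcond : jWA ≫ qA ≫ inA = jWV ≫ qV ≫ inV := by
    rw [reassoc_of% hWA₃, reassoc_of% hWV₃]
    exact congrArg (s ≫ ·) pushout.condition
  have hcompat : ∀ b b', pullback.fst (𝒬.f b) (𝒬.f b') ≫ qq b = pullback.snd (𝒬.f b) (𝒬.f b') ≫ qq b' := by
    intro b b'
    have h := isPullback_opens_inf_le (le_iSup U b) (le_iSup U b')
    rw [← cancel_epi h.isoPullback.hom]
    change h.isoPullback.hom ≫ pullback.fst (X.homOfLE (le_iSup U b)) (X.homOfLE (le_iSup U b')) ≫ qq b =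
      h.isoPullback.hom ≫ pullback.snd (X.homOfLE (le_iSup U b)) (X.homOfLE (le_iSup U b')) ≫ qq b'
    rw [← Category.assoc, ← Category.assoc, IsPullback.isoPullback_hom_fst, IsPullback.isoPullback_hom_snd]
    cases b <;> cases b'
    · rfl
    · change X.homOfLE (inf_le_left : V ⊓ A ≤ V) ≫ qV ≫ inV = X.homOfLE (inf_le_right : V ⊓ A ≤ A) ≫ qA ≫ inA
      rw [← Scheme.homOfLE_homOfLE X (inf_comm V A).le (inf_le_right : A ⊓ V ≤ V),
        ← Scheme.homOfLE_homOfLE X (inf_comm V A).le (inf_le_left : A ⊓ V ≤ A), Category.assoc, Category.assoc]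
      exact congrArg (_ ≫ ·) hcond.symm
    · exact hcond
    · rfl
  let qQ : ((⨆ b, U b : X.Opens) : Scheme.{u}) ⟶ Z := 𝒬.glueMorphisms qq hcompat
  have hqQ : ∀ b, X.homOfLE (le_iSup U b) ≫ qQ = qq b := fun b => 𝒬.ι_glueMorphisms qq hcompat b
  have hpt : ∀ (b : Bool) (x : ↥(U b)), qQ (X.homOfLE (le_iSup U b) x) = qq b x := fun b x => by
    rw [← Scheme.Hom.comp_apply, hqQ]
  have htop : ∀ y : ↥(⨆ b, U b : X.Opens), ∃ b, ∃ x : ↥(U b), X.homOfLE (le_iSup U b) x = y := fun y => by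
    obtain ⟨b, hb⟩ := TopologicalSpace.Opens.mem_iSup.mp y.2
    exact ⟨b, ⟨y.1, hb⟩, Subtype.ext (by simp)⟩
  have sqQA : IsPullback qA (X.homOfLE (le_iSup U true)) inA qQ := by
    refine IsOpenImmersion.isPullback qA (X.homOfLE (le_iSup U true)) inA qQ (hqQ true) ?_
    ext y
    constructor
    · rintro ⟨a, ha⟩
      obtain ⟨b, x, rfl⟩ := htop y
      rw [hpt] at ha
      cases b
      · obtain ⟨w, -, hw⟩ := hinter a (qV x) ha
        obtain ⟨v, hv⟩ : x ∈ jWV.opensRange := hrangeV.ge ⟨w, hw⟩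
        exact ⟨jWA v, by
          rw [← hv]
          exact congrArg (fun m : W ⟶ _ => m v) (show jWA ≫ X.homOfLE (le_iSup U true) = jWV ≫ X.homOfLE (le_iSup U false) from
            (Scheme.homOfLE_homOfLE X _ _).trans (Scheme.homOfLE_homOfLE X _ _).symm)⟩
      · exact ⟨x, rfl⟩
    · rintro ⟨x, rfl⟩
      exact ⟨qA x, (hpt true x).symm⟩
  have sqQV : IsPullback qV (X.homOfLE (le_iSup U false)) inV qQ := by
    refine IsOpenImmersion.isPullback qV (X.homOfLE (le_iSup U false)) inV qQ (hqQ false) ?_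
    ext y
    constructor
    · rintro ⟨a, ha⟩
      obtain ⟨b, x, rfl⟩ := htop y
      rw [hpt] at ha
      cases b
      · exact ⟨x, rfl⟩
      · obtain ⟨w, hw, -⟩ := hinter (qA x) a ha.symm
        obtain ⟨v, hv⟩ : x ∈ jWA.opensRange := hrangeA.ge ⟨w, hw⟩
        exact ⟨jWV v, by
          rw [← hv]
          exact congrArg (fun m : W ⟶ _ => m v) (show jWV ≫ X.homOfLE (le_iSup U false) = jWA ≫ X.homOfLE (le_iSup U true) from
            (Scheme.homOfLE_homOfLE X _ _).trans (Scheme.homOfLE_homOfLE X _ _).symm)⟩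
    · rintro ⟨x, rfl⟩
      exact ⟨qV x, (hpt false x).symm⟩
  haveI : LocallyOfFinitePresentation (inA ≫ z) := by
    rw [show inA ≫ z = pullback.snd a₂ (D.map φ) from pushout.inl_desc _ _ _]; infer_instance
  haveI : LocallyOfFinitePresentation (inV ≫ z) := by
    rw [show inV ≫ z = pullback.snd v₂ (D.map φ) from pushout.inr_desc _ _ _]; infer_instance
  let XZ : Bool → Scheme.{u} := fun b => match b with
    | true => A₃
    | false => V₃
  let fZ : ∀ b, XZ b ⟶ Z := fun b => match b with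
    | true => inA
    | false => inV
  haveI : ∀ b, IsOpenImmersion (fZ b) := fun b => match b with
    | true => inferInstanceAs (IsOpenImmersion inA)
    | false => inferInstanceAs (IsOpenImmersion inV)
  let 𝒵 : Z.OpenCover := Scheme.Cover.mkOfCovers Bool XZ fZ
    (fun y => (hcover y).elim (fun ⟨a, ha⟩ => ⟨true, a, ha⟩) fun ⟨b, hb⟩ => ⟨false, b, hb⟩)
    (fun b => inferInstance)
  have hlfp : LocallyOfFinitePresentation z := IsZariskiLocalAtSource.of_openCover 𝒵 fun b => match b with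
    | true => inferInstanceAs (LocallyOfFinitePresentation (inA ≫ z))
    | false => inferInstanceAs (LocallyOfFinitePresentation (inV ≫ z))
  have hRA : IsCompact (inA.opensRange : Set Z) := isCompact_range inA.continuous
  have hRV : IsCompact (inV.opensRange : Set Z) := isCompact_range inV.continuous
  have hZc : CompactSpace Z := ⟨by
    have : (inA.opensRange : Set Z) ∪ inV.opensRange = Set.univ :=
      Set.eq_univ_of_forall fun y => (hcover y).imp (fun ⟨a, ha⟩ => ⟨a, ha⟩) fun ⟨b, hb⟩ => ⟨b, hb⟩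
    rw [← this]; exact hRA.union hRV⟩
  have hqsA : IsQuasiSeparated (inA.opensRange : Set Z) := by
    rw [Scheme.Hom.coe_opensRange, ← Set.image_univ]
    exact (isQuasiSeparated_univ (α := A₃)).image_of_isEmbedding inA.isOpenEmbedding.isEmbedding
  have hqsV : IsQuasiSeparated (inV.opensRange : Set Z) := by
    rw [Scheme.Hom.coe_opensRange, ← Set.image_univ]
    exact (isQuasiSeparated_univ (α := V₃)).image_of_isEmbedding inV.isOpenEmbedding.isEmbedding
  have hRW : IsCompact ((inA.opensRange : Set Z) ∩ inV.opensRange) := by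
    have : (inA.opensRange : Set Z) ∩ inV.opensRange = Set.range (ιA ≫ inA) := by
      ext y
      refine ⟨?_, ?_⟩
      · rintro ⟨⟨a, rfl⟩, ⟨b, hb⟩⟩
        obtain ⟨w, hw, -⟩ := hinter a b hb.symm
        exact ⟨w, by rw [Scheme.Hom.comp_apply, hw]⟩
      · rintro ⟨w, rfl⟩
        exact ⟨⟨ιA w, rfl⟩, ⟨ιV w, by rw [← Scheme.Hom.comp_apply, ← pushout.condition]⟩⟩
    rw [this]; exact isCompact_range (ιA ≫ inA).continuous
  let R : Bool → Z.Opens := fun b => cond b inA.opensRange inV.opensRange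
  have hqsR : ∀ b, IsQuasiSeparated (R b : Set Z) := fun b => match b with
    | true => hqsA
    | false => hqsV
  let ι := Σ b : Bool, {O : Z.Opens // IsAffineOpen O ∧ O ≤ R b}
  let UZ : ι → Z.Opens := fun o => o.2.1
  have hUZ : IsOpenCover UZ := by
    refine top_le_iff.1 fun y _ => ?_
    obtain ⟨b, hb⟩ : ∃ b, y ∈ R b := (hcover y).elim (fun ⟨a, ha⟩ => ⟨true, a, ha⟩) fun ⟨b, hb⟩ => ⟨false, b, hb⟩
    obtain ⟨_, ⟨O, hO, rfl⟩, hyO, hOR⟩ := Z.isBasis_affineOpens.exists_subset_of_mem_open hb (R b).2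
    exact TopologicalSpace.Opens.mem_iSup.2 ⟨⟨b, O, hO, hOR⟩, hyO⟩
  have hcross : ∀ (O O' : Z.Opens), IsAffineOpen O → IsAffineOpen O' → O ≤ inA.opensRange →
      O' ≤ inV.opensRange → IsCompact ((O : Set Z) ∩ O') := by
    intro O O' hO hO' h h'
    have h1 : IsCompact ((O : Set Z) ∩ ((inA.opensRange : Set Z) ∩ inV.opensRange)) :=
      hqsA _ _ h O.2 hO.isCompact Set.inter_subset_left (inA.opensRange.2.inter inV.opensRange.2) hRW
    have h2 := hqsV _ (O' : Set Z) (Set.inter_subset_right.trans Set.inter_subset_right)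
      (O.2.inter (inA.opensRange.2.inter inV.opensRange.2)) h1 h' O'.2 hO'.isCompact
    convert h2 using 1
    ext y
    exact ⟨fun hy => ⟨⟨hy.1, h hy.1, h' hy.2⟩, hy.2⟩, fun hy => ⟨hy.1.1, hy.2⟩⟩
  have hZq : QuasiSeparatedSpace Z := by
    refine Scheme.quasiSeparatedSpace_of_isOpenCover UZ hUZ (fun o => o.2.2.1) fun o o' => ?_
    obtain ⟨b, O, hO, h⟩ := o
    obtain ⟨b', O', hO', h'⟩ := o'
    cases b <;> cases b'
    · exact hqsV _ _ h O.2 hO.isCompact h' O'.2 hO'.isCompact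
    · exact Set.inter_comm (O' : Set Z) O ▸ hcross O' O hO' hO h' h
    · exact hcross O O' hO hO' h h'
    · exact hqsA _ _ h O.2 hO.isCompact h' O'.2 hO'.isCompact
  have hmain : IsPullback qQ ((⨆ b, U b : X.Opens).ι ≫ f) z (c.π.app l) := by
    refine Scheme.isPullback_of_openCover qQ _ z _ 𝒵 fun b => ?_
    cases b
    · change IsPullback (pullback.snd qQ inV) (pullback.fst qQ inV ≫ _) (inV ≫ z) _
      have h0 : IsPullback qV (X.homOfLE (le_iSup U false) ≫ (⨆ b, U b : X.Opens).ι ≫ f) (inV ≫ z) (c.π.app l) := by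
        rw [show inV ≫ z = pullback.snd v₂ (D.map φ) from pushout.inr_desc _ _ _, Scheme.homOfLE_ι_assoc]
        exact hV₃
      exact h0.of_iso sqQV.flip.isoPullback (Iso.refl _) (Iso.refl _) (Iso.refl _)
        (by simp) (by simp) (by simp) (by simp)
    · change IsPullback (pullback.snd qQ inA) (pullback.fst qQ inA ≫ _) (inA ≫ z) _
      have h0 : IsPullback qA (X.homOfLE (le_iSup U true) ≫ (⨆ b, U b : X.Opens).ι ≫ f) (inA ≫ z) (c.π.app l) := by
        rw [show inA ≫ z = pullback.snd a₂ (D.map φ) from pushout.inl_desc _ _ _, Scheme.homOfLE_ι_assoc]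
        exact hA₃
      exact h0.of_iso sqQA.flip.isoPullback (Iso.refl _) (Iso.refl _) (Iso.refl _)
        (by simp) (by simp) (by simp) (by simp)
  have heq : (⨆ b, U b : X.Opens) = A ⊔ V := iSup_bool_eq
  rw [← heq]
  exact ⟨l, Z, z, qQ, hlfp, hZc, hZq, hmain⟩

/-- A scheme of finite presentation over the limit comes from a stage (EGA IV 8.8.2 (ii)). -/
theorem hasModel_of_finitePresentation (hc : IsLimit c) [∀ i, QuasiSeparatedSpace (D.obj i)] {X : Scheme.{u}}
    (f : X ⟶ c.pt) [LocallyOfFinitePresentation f] [CompactSpace X] [QuasiSeparatedSpace X] :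
    HasModel c f := by
  let G : Set X.Opens := {V | IsAffineOpen V ∧ ∃ (i : I) (U : (D.obj i).Opens), IsAffineOpen U ∧
    V ≤ f ⁻¹ᵁ c.π.app i ⁻¹ᵁ U}
  have hG : TopologicalSpace.Opens.IsBasis G := by
    refine TopologicalSpace.Opens.isBasis_iff_nbhd.mpr fun {O x} hx => ?_
    obtain ⟨i⟩ := IsCofiltered.nonempty (C := I)
    obtain ⟨_, ⟨U, hU, rfl⟩, hxU, -⟩ :=
      (D.obj i).isBasis_affineOpens.exists_subset_of_mem_open (Set.mem_univ (c.π.app i (f x))) isOpen_univ
    obtain ⟨_, ⟨V, hV, rfl⟩, hxV, hVO⟩ := X.isBasis_affineOpens.exists_subset_of_mem_open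
      (show x ∈ O ⊓ f ⁻¹ᵁ c.π.app i ⁻¹ᵁ U from ⟨hx, hxU⟩) (O ⊓ f ⁻¹ᵁ c.π.app i ⁻¹ᵁ U).2
    exact ⟨V, ⟨hV, i, U, hU, fun y hy => (hVO hy).2⟩, hxV, fun y hy => (hVO hy).1⟩
  obtain ⟨s, hs, hsf, heq⟩ := hG.exists_finite_of_isCompact (U := ⊤) isCompact_univ
  have key : ∀ s : Set X.Opens, s.Finite → s ⊆ G →
      IsCompact (↑(sSup s) : Set X) ∧ HasModel c ((sSup s).ι ≫ f) := fun s hsf => by
    refine hsf.induction_on _ (fun _ => ?_) fun {V t} _ _ ih hsub => ?_
    · rw [sSup_empty]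
      exact ⟨by simp, hasModel_bot f⟩
    · obtain ⟨h1, h2⟩ := ih fun _ h => hsub (Set.mem_insert_of_mem V h)
      obtain ⟨hV, i, U, hU, hVU⟩ := hsub (Set.mem_insert V t)
      rw [sSup_insert]
      exact ⟨by rw [TopologicalSpace.Opens.coe_sup]; exact hV.isCompact.union h1,
        hasModel_sup hc f V _ hV.isCompact h1 (hasModel_affineOpen hc f hU hV hVU) h2⟩
  have hm := (key s hsf hs).2
  rw [← heq] at hm
  obtain ⟨i, P, p, q, h1, h2, h3, h4⟩ := hm
  refine ⟨i, P, p, (Scheme.topIso X).inv ≫ q, h1, h2, h3, ?_⟩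
  exact h4.of_iso (Scheme.topIso X) (Iso.refl _) (Iso.refl _) (Iso.refl _) (by simp) (by simp) (by simp) (by simp)

end Groth.Agent.LimH13
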