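import Groth.Agent.Lib.LimH13.ArrowModel
import Groth.Agent.Lib.FibreTop.FiniteFactor
import Mathlib.AlgebraicGeometry.PullbackCarrier
import Mathlib.AlgebraicGeometry.Morphisms.ClosedImmersion
import Mathlib.AlgebraicGeometry.Morphisms.Immersion

/-!
# Immersions into schemes of finite presentation over an arbitrary base
-/

universe u

open CategoryTheory Limits AlgebraicGeometry Opposite TopologicalSpace

set_option backward.isDefEq.respectTransparency false
set_option backward.isDefEq.respectTransparency.types false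
set_option linter.style.haveILetI false

noncomputable section

namespace Groth.Agent.LimH13

/-- Sections over the preimage of an open come from a stage. -/
theorem exists_stage_section {I : Type u} [SmallCategory I] [IsCofiltered I] (D : I ⥤ Scheme.{u})
    (c : Cone D) (hc : IsLimit c) [∀ {i j} (f : i ⟶ j), IsAffineHom (D.map f)] (i : I)
    (V : (D.obj i).Opens) (hV : IsAffineOpen V) (a : Γ(c.pt, c.π.app i ⁻¹ᵁ V)) :
    ∃ (j : I) (φ : j ⟶ i) (h : Γ(D.obj j, D.map φ ⁻¹ᵁ V)),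
      (c.π.app j).appLE (D.map φ ⁻¹ᵁ V) (c.π.app i ⁻¹ᵁ V)
        (by rw [← Scheme.Hom.comp_preimage, c.w]) h = a := by
  haveI : ∀ j : Over i, IsAffine ((opensDiagram D i V).obj j) := fun j => hV.preimage _
  obtain ⟨j, t, ht⟩ := exists_appTop_π_eq_of_isLimit (opensDiagram D i V) (opensCone D c i V)
    (isLimitOpensCone D c hc i V) ((c.π.app i ⁻¹ᵁ V).topIso.inv a)
  refine ⟨j.left, j.hom, (D.map j.hom ⁻¹ᵁ V).topIso.hom t, ?_⟩
  have e0 : c.π.app i ⁻¹ᵁ V ≤ c.π.app j.left ⁻¹ᵁ (D.map j.hom ⁻¹ᵁ V) := by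
    rw [← Scheme.Hom.comp_preimage, c.w]
  have h1 : ((c.π.app j.left).resLE (D.map j.hom ⁻¹ᵁ V) (c.π.app i ⁻¹ᵁ V) e0).app ⊤ t =
      (c.π.app i ⁻¹ᵁ V).topIso.inv a := ht.symm
  rw [Scheme.Hom.resLE_app_top] at h1
  exact (c.π.app i ⁻¹ᵁ V).topIso.symm.commRingCatIsoToRingEquiv.injective h1

variable {I : Type u} [SmallCategory I] [IsCofiltered I] (D : I ⥤ Scheme.{u})
  (c : Cone D) {S : Scheme.{u}} (f : c.pt ⟶ S)

/-- At some stage an affine piece becomes a closed subscheme of a product with the base. -/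
theorem exists_stage_closed_piece (hc : IsLimit c) [∀ {i j} (a : i ⟶ j), IsAffineHom (D.map a)]
    [∀ i, QuasiSeparatedSpace (D.obj i)]
    [LocallyOfFiniteType f] (U : c.pt.Opens) (hU : IsAffineOpen U) (V : S.Opens) (hV : IsAffineOpen V)
    (hUV : U ≤ f ⁻¹ᵁ V) :
    ∃ j, ∀ (k : I) (_ : k ⟶ j), ∃ (Uk : (D.obj k).Opens) (e : c.π.app k ⁻¹ᵁ Uk = U),
      IsAffineOpen Uk ∧
      IsClosedImmersion (pullback.lift (f := Uk.ι ≫ specULiftZIsTerminal.from (D.obj k))
        (g := V.ι ≫ specULiftZIsTerminal.from S)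
        ((c.π.app k).resLE Uk U e.ge) (f.resLE V U hUV) (specULiftZIsTerminal.hom_ext _ _)) := by
  classical
  obtain ⟨i, W, hW, hWU⟩ := exists_isAffineOpen_preimage_eq D c hc U hU
  subst hWU
  obtain ⟨s, hs⟩ : ∃ s : Finset Γ(c.pt, c.π.app i ⁻¹ᵁ W), ∀ a, a ∈ Subring.closure
      (Set.range (f.appLE V (c.π.app i ⁻¹ᵁ W) hUV).hom ∪ (s : Set _)) := by
    letI := (f.appLE V (c.π.app i ⁻¹ᵁ W) hUV).hom.toAlgebra
    obtain ⟨⟨s, hs⟩⟩ : Algebra.FiniteType Γ(S, V) Γ(c.pt, c.π.app i ⁻¹ᵁ W) :=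
      f.finiteType_appLE hV hU hUV
    refine ⟨s, fun a => ?_⟩
    have h := congrArg Subalgebra.toSubring hs
    rw [Algebra.adjoin_eq_ring_closure, Algebra.top_toSubring] at h
    exact h.ge (Subring.mem_top a)
  choose jj φ t ht using fun a : s => exists_stage_section D c hc i W hW a.1
  obtain ⟨m, fm, hm⟩ := IsCofiltered.inf_exists ((Finset.univ.image jj) ∪ {i})
    (Finset.univ.image fun a : s => ⟨jj a, i, Finset.mem_union_left _ (Finset.mem_image_of_mem _ (Finset.mem_univ a)),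
      Finset.mem_union_right _ (Finset.mem_singleton_self _), φ a⟩)
  refine ⟨m, fun k h => ?_⟩
  let g : k ⟶ i := h ≫ fm (Finset.mem_union_right _ (Finset.mem_singleton_self _))
  let Uk : (D.obj k).Opens := D.map g ⁻¹ᵁ W
  have e : c.π.app k ⁻¹ᵁ Uk = c.π.app i ⁻¹ᵁ W := by rw [← Scheme.Hom.comp_preimage, c.w]
  have hUk : IsAffineOpen Uk := hW.preimage _
  refine ⟨Uk, e, hUk, ?_⟩
  haveI : IsAffine Uk.toScheme := hUk
  haveI : IsAffine V.toScheme := hV
  haveI : IsAffine (c.π.app i ⁻¹ᵁ W).toScheme := hU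
  let b := pullback.lift (f := Uk.ι ≫ specULiftZIsTerminal.from (D.obj k))
    (g := V.ι ≫ specULiftZIsTerminal.from S)
    ((c.π.app k).resLE Uk _ e.ge) (f.resLE V _ hUV) (specULiftZIsTerminal.hom_ext _ _)
  change IsClosedImmersion b
  refine IsClosedImmersion.of_surjective_of_isAffine b ?_
  let ι := (c.π.app i ⁻¹ᵁ W).topIso.commRingCatIsoToRingEquiv
  intro y
  have hmemπ : ∀ z : Γ(D.obj k, Uk),
      ι.symm ((c.π.app k).appLE Uk (c.π.app i ⁻¹ᵁ W) e.ge z) ∈ b.appTop.hom.range := by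
    intro z
    have h1 := congrArg (fun ψ => ψ.hom (Uk.topIso.inv z)) (congrArg Scheme.Hom.appTop (pullback.lift_fst
      (f := Uk.ι ≫ specULiftZIsTerminal.from (D.obj k)) (g := V.ι ≫ specULiftZIsTerminal.from S)
      ((c.π.app k).resLE Uk _ e.ge) (f.resLE V _ hUV) (specULiftZIsTerminal.hom_ext _ _)))
    rw [Scheme.Hom.comp_appTop] at h1
    refine ⟨_, h1.trans ?_⟩
    change ((c.π.app k).resLE Uk _ e.ge).app ⊤ (Uk.topIso.inv z) = _
    rw [Scheme.Hom.resLE_app_top]
    change (c.π.app i ⁻¹ᵁ W).topIso.inv ((c.π.app k).appLE Uk _ e.ge (Uk.topIso.hom (Uk.topIso.inv z))) = _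
    exact congrArg _ (congrArg _ (Uk.topIso.symm.commRingCatIsoToRingEquiv.symm_apply_apply z))
  have hmemf : ∀ z : Γ(S, V), ι.symm (f.appLE V _ hUV z) ∈ b.appTop.hom.range := by
    intro z
    have h1 := congrArg (fun ψ => ψ.hom (V.topIso.inv z)) (congrArg Scheme.Hom.appTop (pullback.lift_snd
      (f := Uk.ι ≫ specULiftZIsTerminal.from (D.obj k)) (g := V.ι ≫ specULiftZIsTerminal.from S)
      ((c.π.app k).resLE Uk _ e.ge) (f.resLE V _ hUV) (specULiftZIsTerminal.hom_ext _ _)))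
    rw [Scheme.Hom.comp_appTop] at h1
    refine ⟨_, h1.trans ?_⟩
    change (f.resLE V _ hUV).app ⊤ (V.topIso.inv z) = _
    rw [Scheme.Hom.resLE_app_top]
    change (c.π.app i ⁻¹ᵁ W).topIso.inv (f.appLE V _ hUV (V.topIso.hom (V.topIso.inv z))) = _
    exact congrArg _ (congrArg _ (V.topIso.symm.commRingCatIsoToRingEquiv.symm_apply_apply z))
  have hall : ∀ a, ι.symm a ∈ b.appTop.hom.range := by
    have hle : Subring.closure (Set.range (f.appLE V (c.π.app i ⁻¹ᵁ W) hUV).hom ∪ (s : Set _)) ≤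
        (b.appTop.hom.range).comap ι.symm.toRingHom := by
      refine Subring.closure_le.mpr ?_
      rintro a (⟨z, rfl⟩ | ha)
      · exact hmemf z
      · let a' : s := ⟨a, ha⟩
        let gk : k ⟶ jj a' :=
          h ≫ fm (Finset.mem_union_left _ (Finset.mem_image_of_mem _ (Finset.mem_univ a')))
        have hgk : gk ≫ φ a' = g := by
          simp only [gk, g, Category.assoc]
          congr 1
          exact hm _ _ (Finset.mem_image_of_mem _ (Finset.mem_univ a'))
        have := hmemπ ((D.map gk).appLE (D.map (φ a') ⁻¹ᵁ W) Uk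
          (by rw [← Scheme.Hom.comp_preimage, ← D.map_comp, hgk]) (t a'))
        have h3 := congrArg (fun ψ => ψ.hom (t a')) (Scheme.Hom.appLE_comp_appLE (c.π.app k) (D.map gk)
          (D.map (φ a') ⁻¹ᵁ W) Uk (c.π.app i ⁻¹ᵁ W)
          (by rw [← Scheme.Hom.comp_preimage, ← D.map_comp, hgk]) e.ge)
        change ι.symm a ∈ b.appTop.hom.range
        rw [show a = a'.1 from rfl, ← ht a']
        convert this using 2
        refine Eq.trans ?_ h3.symm
        congr! 3
        exact (c.w gk).symm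
    exact fun a => hle (hs a)
  obtain ⟨z, hz⟩ := hall (ι y)
  exact ⟨z, hz.trans (ι.symm_apply_apply y)⟩

/-- An immersion into a finitely presented scheme over the base. -/
theorem exists_immersion_fp {X S : Scheme.{u}} (f : X ⟶ S) [LocallyOfFiniteType f] [CompactSpace X]
    [QuasiSeparatedSpace X] :
    ∃ (X' : Scheme.{u}) (f' : X' ⟶ S) (j : X ⟶ X'), LocallyOfFinitePresentation f' ∧ QuasiCompact f' ∧
      QuasiSeparated f' ∧ IsImmersion j ∧ j ≫ f' = f := by
  classical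
  obtain ⟨Y, g, hYc, hY, hg⟩ := hasZModel X
  haveI := hY.quasiSeparatedSpace
  haveI : IsFiltered (SubAlg.Idx (RelSpec.QCAlg.directImage g)) := isFiltered_of_directed_le_nonempty _
  let D := SubAlg.affDiag g
  let c := SubAlg.affCone g
  have hc : IsLimit c := SubAlg.isLimitAffCone g
  haveI : ∀ {i j} (a : i ⟶ j), IsAffineHom (D.map a) := fun a => SubAlg.isAffineHom_affDiag_map g a
  have hLFT : ∀ j, LFTZ (D.obj j) := fun j =>
    @LFTZ.of_comp _ _ hY j.unop.alg.π (SubAlg.locallyOfFiniteType_π j.unop.ft)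
  haveI : ∀ i, QuasiSeparatedSpace (D.obj i) := fun i => (hLFT i).quasiSeparatedSpace
  haveI : ∀ i, CompactSpace (D.obj i) := fun i => SubAlg.compactSpace_affDiag g i
  have hex : ∀ x : X, ∃ (U : X.Opens) (V : S.Opens), IsAffineOpen U ∧ IsAffineOpen V ∧ x ∈ U ∧ U ≤ f ⁻¹ᵁ V := by
    intro x
    obtain ⟨V, hV, hxV, -⟩ := exists_isAffineOpen_mem_and_subset (x := f x) (U := ⊤) trivial
    obtain ⟨U, hU, hxU, hUV⟩ := exists_isAffineOpen_mem_and_subset (x := x) (U := f ⁻¹ᵁ V) hxV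
    exact ⟨U, V, hU, hV, hxU, hUV⟩
  choose U V hU hV hxU hUV using hex
  obtain ⟨s, hs⟩ := (isCompact_univ (X := X)).elim_finite_subcover (fun x => (U x : Set X))
    (fun x => (U x).2) (fun x _ => Set.mem_iUnion.mpr ⟨x, hxU x⟩)
  choose jj hjj using fun x : s =>
    exists_stage_closed_piece D c (S := S) f hc (U x.1) (hU x.1) (V x.1) (hV x.1) (hUV x.1)
  obtain ⟨m₀⟩ := IsCofiltered.nonempty (C := (SubAlg.Idx (RelSpec.QCAlg.directImage g))ᵒᵖ)
  obtain ⟨m, hm⟩ := IsCofiltered.inf_objs_exists (insert m₀ (Finset.univ.image jj))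
  choose Uk e hUk hcl using fun x : s =>
    hjj x m (hm (Finset.mem_insert_of_mem (Finset.mem_image_of_mem _ (Finset.mem_univ x)))).some
  let a := specULiftZIsTerminal.from (D.obj m)
  let a' := specULiftZIsTerminal.from S
  let b : X ⟶ pullback a a' := pullback.lift (c.π.app m) f (specULiftZIsTerminal.hom_ext _ _)
  haveI : LocallyOfFiniteType a := hLFT m
  haveI : IsNoetherianRing (ULift.{u} ℤ) := isNoetherianRing_of_ringEquiv ℤ ULift.ringEquiv.symm
  haveI := locallyOfFinitePresentation_of_noetherian a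
  refine ⟨pullback a a', pullback.snd a a', b, inferInstance, inferInstance, inferInstance, ?_,
    pullback.lift_snd _ _ _⟩
  let q : ∀ x : s, pullback ((Uk x).ι ≫ a) ((V x.1).ι ≫ a') ⟶ pullback a a' := fun x =>
    pullback.map _ _ _ _ (Uk x).ι (V x.1).ι (𝟙 _) (by simp) (by simp)
  have hqr : ∀ x : s, Set.range (q x) =
      pullback.fst a a' ⁻¹' (Uk x : Set (D.obj m)) ∩ pullback.snd a a' ⁻¹' (V x.1 : Set S) := fun x => by
    rw [Scheme.Pullback.range_map, Scheme.Opens.range_ι, Scheme.Opens.range_ι]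
  let O : s → (pullback a a').Opens := fun x => pullback.fst a a' ⁻¹ᵁ Uk x ⊓ pullback.snd a a' ⁻¹ᵁ V x.1
  have hpre : ∀ x : s, b ⁻¹ᵁ O x = U x.1 := fun x => by
    rw [Scheme.Hom.preimage_inf, ← Scheme.Hom.comp_preimage, ← Scheme.Hom.comp_preimage,
      pullback.lift_fst, pullback.lift_snd, inf_eq_left.mpr ((e x).le.trans (hUV x.1))]
    exact e x
  refine FibreTop.isImmersion_of_restrict b O (fun x => ?_) fun x => ?_
  · obtain ⟨y, hy, hxy⟩ := Set.mem_iUnion₂.mp (hs (Set.mem_univ x))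
    refine ⟨⟨y, hy⟩, ?_⟩
    change x ∈ b ⁻¹ᵁ O ⟨y, hy⟩
    rw [hpre]
    exact hxy
  · haveI := hcl x
    let l := pullback.lift (f := (Uk x).ι ≫ a) (g := (V x.1).ι ≫ a')
      ((c.π.app m).resLE (Uk x) (U x.1) (e x).ge) (f.resLE (V x.1) (U x.1) (hUV x.1))
      (specULiftZIsTerminal.hom_ext _ _)
    have hl : (U x.1).ι ≫ b = l ≫ q x := by
      apply pullback.hom_ext <;> simp [b, l, q]
    haveI : IsImmersion ((b ⁻¹ᵁ O x).ι ≫ b) := by
      rw [hpre x, hl]
      infer_instance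
    haveI : IsImmersion (b ∣_ O x ≫ (O x).ι) := by
      rw [morphismRestrict_ι]
      assumption
    exact IsImmersion.of_comp _ (O x).ι

end Groth.Agent.LimH13
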