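import Groth.Agent.Lib.LimH13.ModelChart
import Mathlib.AlgebraicGeometry.Limits

/-!
# Quasi-compact quasi-separated schemes are affine over schemes of finite type over the integers
-/

universe u

open CategoryTheory Limits AlgebraicGeometry Opposite TopologicalSpace

set_option backward.isDefEq.respectTransparency false
set_option backward.isDefEq.respectTransparency.types false
set_option backward.defeqAttrib.useBackward true

noncomputable section

namespace Groth.Agent.LimH13

/-- There is an affine morphism to a scheme of finite type over the integers. -/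
def HasZModel (X : Scheme.{u}) : Prop :=
  ∃ (Y : Scheme.{u}) (g : X ⟶ Y), CompactSpace Y ∧ LFTZ Y ∧ IsAffineHom g

theorem HasZModel.of_isIso {X X' : Scheme.{u}} (h : HasZModel X) (f : X' ⟶ X) [IsIso f] :
    HasZModel X' := by
  obtain ⟨Y, g, h1, h2, h3⟩ := h
  exact ⟨Y, f ≫ g, h1, h2, inferInstance⟩

theorem hasZModel_of_isAffine (X : Scheme.{u}) [IsAffine X] : HasZModel X := by
  refine ⟨Spec (.of (ULift.{u} ℤ)), specULiftZIsTerminal.from X, inferInstance, ?_, inferInstance⟩
  rw [LFTZ, show Limits.IsTerminal.from specULiftZIsTerminal (Spec (.of (ULift.{u} ℤ))) = 𝟙 _ from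
    specULiftZIsTerminal.hom_ext _ _]
  infer_instance

theorem isAffineHom_restrict_of {X Y Z U : Scheme.{u}} (m : X ⟶ Z) (o : Y ⟶ Z) [IsOpenImmersion o]
    (i : U ⟶ X) [IsOpenImmersion i] (g : U ⟶ Y) [IsAffineHom g] (eq : i ≫ m = g ≫ o)
    (hr : m ⁻¹ᵁ o.opensRange = i.opensRange) : IsAffineHom (m ∣_ o.opensRange) := by
  have hr' : Set.range (m ⁻¹ᵁ o.opensRange).ι = Set.range i := by
    rw [Scheme.Opens.range_ι, hr]
    rfl
  have : m ∣_ o.opensRange = (IsOpenImmersion.isoOfRangeEq _ i hr').hom ≫ g ≫ o.isoOpensRange.hom := by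
    rw [← cancel_mono o.opensRange.ι, morphismRestrict_ι, Category.assoc, Category.assoc,
      Scheme.Hom.isoOpensRange_hom_ι, ← eq, IsOpenImmersion.isoOfRangeEq_hom_fac_assoc]
  rw [this]
  infer_instance

section Pushout

variable {W Y T : Scheme.{u}} (i : W ⟶ Y) (j : W ⟶ T) [IsOpenImmersion i] [IsOpenImmersion j]

instance isOpenImmersion_pushout_inl : IsOpenImmersion (pushout.inl i j) :=
  inferInstanceAs (IsOpenImmersion (colimit.ι (span i j) WalkingSpan.left))

instance isOpenImmersion_pushout_inr : IsOpenImmersion (pushout.inr i j) :=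
  inferInstanceAs (IsOpenImmersion (colimit.ι (span i j) WalkingSpan.right))

theorem exists_of_inl_eq_inr {y : Y} {t : T} (h : pushout.inl i j y = pushout.inr i j t) :
    ∃ w, i w = y ∧ j w = t := by
  have h' : colimit.ι (span i j) WalkingSpan.left y = colimit.ι (span i j) WalkingSpan.right t := h
  obtain ⟨k, fi, fj, w, h1, h2⟩ := (Scheme.IsLocallyDirected.ι_eq_ι_iff (span i j)).mp h'
  rcases k with _ | (_ | _)
  · obtain rfl : fi = WalkingSpan.Hom.fst := Subsingleton.elim _ _
    obtain rfl : fj = WalkingSpan.Hom.snd := Subsingleton.elim _ _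
    exact ⟨w, h1, h2⟩
  · cases fj
  · cases fi

theorem range_inl_sup_range_inr :
    (pushout.inl i j).opensRange ⊔ (pushout.inr i j).opensRange = ⊤ := by
  refine top_le_iff.mp fun z _ => ?_
  obtain ⟨k, zk, hk⟩ := Scheme.IsLocallyDirected.ι_jointly_surjective (span i j) z
  rcases k with _ | (_ | _)
  · refine Or.inl ⟨i zk, ?_⟩
    rw [← hk]
    refine (Scheme.Hom.comp_apply i (pushout.inl i j) zk).symm.trans ?_
    exact congrArg (fun φ => φ zk) (colimit.w (span i j) WalkingSpan.Hom.fst)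
  · exact Or.inl ⟨zk, hk⟩
  · exact Or.inr ⟨zk, hk⟩

theorem compactSpace_pushout [CompactSpace Y] [CompactSpace T] : CompactSpace (pushout i j :) := by
  refine ⟨?_⟩
  have : (Set.univ : Set (pushout i j :)) = Set.range (pushout.inl i j) ∪ Set.range (pushout.inr i j) := by
    refine (Set.eq_univ_of_forall fun z => ?_).symm
    exact (range_inl_sup_range_inr i j).ge (show z ∈ (⊤ : (pushout i j :).Opens) from trivial)
  rw [this]
  exact (isCompact_range (pushout.inl i j).continuous).union (isCompact_range (pushout.inr i j).continuous)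

theorem lftz_pushout (hY : LFTZ Y) (hT : LFTZ T) : LFTZ (pushout i j :) := by
  refine (IsZariskiLocalAtSource.iff_of_iSup_eq_top (P := @LocallyOfFiniteType)
    (fun b : Bool => cond b (pushout.inl i j).opensRange (pushout.inr i j).opensRange) ?_).mpr fun b => ?_
  · rw [iSup_bool_eq]
    exact range_inl_sup_range_inr i j
  · cases b
    · change LocallyOfFiniteType ((pushout.inr i j).opensRange.ι ≫ _)
      haveI : LocallyOfFiniteType (Limits.IsTerminal.from specULiftZIsTerminal T) := hT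
      rw [show (pushout.inr i j).opensRange.ι ≫ Limits.IsTerminal.from specULiftZIsTerminal _ =
        (pushout.inr i j).isoOpensRange.inv ≫ Limits.IsTerminal.from specULiftZIsTerminal T from
        specULiftZIsTerminal.hom_ext _ _]
      infer_instance
    · change LocallyOfFiniteType ((pushout.inl i j).opensRange.ι ≫ _)
      haveI : LocallyOfFiniteType (Limits.IsTerminal.from specULiftZIsTerminal Y) := hY
      rw [show (pushout.inl i j).opensRange.ι ≫ Limits.IsTerminal.from specULiftZIsTerminal _ =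
        (pushout.inl i j).isoOpensRange.inv ≫ Limits.IsTerminal.from specULiftZIsTerminal Y from
        specULiftZIsTerminal.hom_ext _ _]
      infer_instance

end Pushout

theorem isLocalization_away_restrict {X : Scheme.{u}} (U V : X.Opens) (hV : IsAffineOpen V)
    (a : Γ(X, V)) (ha : X.basicOpen a ≤ U) :
    @IsLocalization.Away Γ(X, V) _ a Γ(U, U.toScheme.basicOpen ((U.ι.app V).hom a)) _
      (U.ι.app V ≫ U.toScheme.presheaf.map
        (homOfLE (U.toScheme.basicOpen_le ((U.ι.app V).hom a))).op).hom.toAlgebra := by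
  have hpre : U.ι ⁻¹ᵁ X.basicOpen a = U.toScheme.basicOpen ((U.ι.app V).hom a) :=
    Scheme.preimage_basicOpen _ _
  let φ : Γ(X, X.basicOpen a) ⟶ Γ(U, U.toScheme.basicOpen ((U.ι.app V).hom a)) :=
    U.ι.appLE _ _ hpre.ge
  haveI : IsIso φ := by
    haveI : IsIso (U.ι.app (X.basicOpen a)) :=
      Scheme.Hom.isIso_app _ _ (by rw [Scheme.Opens.opensRange_ι]; exact ha)
    have : φ = U.ι.app (X.basicOpen a) ≫ U.toScheme.presheaf.map (eqToHom hpre.symm).op := rfl
    rw [this]
    infer_instance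
  letI := (X.presheaf.map (homOfLE (X.basicOpen_le a)).op).hom.toAlgebra
  haveI : IsLocalization.Away a Γ(X, X.basicOpen a) := hV.isLocalization_basicOpen a
  letI := (U.ι.app V ≫ U.toScheme.presheaf.map
        (homOfLE (U.toScheme.basicOpen_le ((U.ι.app V).hom a))).op).hom.toAlgebra
  refine IsLocalization.isLocalization_of_algEquiv (S := Γ(X, X.basicOpen a)) (Submonoid.powers a)
    (AlgEquiv.ofRingEquiv (f := (asIso φ).commRingCatIsoToRingEquiv) fun x => ?_)
  change (X.presheaf.map (homOfLE (X.basicOpen_le a)).op ≫ φ).hom x = _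
  rw [Scheme.Hom.map_appLE]
  rfl

/-- Adding an affine open. -/
theorem hasZModel_step {X : Scheme.{u}} [QuasiSeparatedSpace X] (U V : X.Opens) (hsup : U ⊔ V = ⊤)
    (hUc : IsCompact (U : Set X)) (hV : IsAffineOpen V) (hU : HasZModel U.toScheme) : HasZModel X := by
  classical
  obtain ⟨Y₀, g₀, hY₀c, hY₀, hg₀⟩ := hU
  have hUV : IsCompact ((U : Set X) ∩ V) :=
    QuasiSeparatedSpace.inter_isCompact U.1 V.1 U.2 hUc V.2 hV.isCompact
  have hb : ∀ x : ((U : Set X) ∩ V : Set X), ∃ f : Γ(X, V), X.basicOpen f ≤ U ∧ x.1 ∈ X.basicOpen f := by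
    rintro ⟨x, hxU, hxV⟩
    exact hV.exists_basicOpen_le ⟨x, hxU⟩ hxV
  choose f hfU hfx using hb
  obtain ⟨t, ht⟩ := hUV.elim_finite_subcover (fun x => (X.basicOpen (f x) : Set X))
    (fun x => (X.basicOpen (f x)).2) (fun x hx => Set.mem_iUnion.mpr ⟨⟨x, hx⟩, hfx ⟨x, hx⟩⟩)
  let κ : Type u := {x // x ∈ t}
  let a : κ → Γ(X, V) := fun k => f k.1
  let W : U.toScheme.Opens := U.ι ⁻¹ᵁ V
  let q : Γ(X, V) ⟶ Γ(U, W) := U.ι.app V
  have hqpre : ∀ k, U.toScheme.basicOpen (q.hom (a k)) = U.ι ⁻¹ᵁ X.basicOpen (a k) := fun k =>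
    (Scheme.preimage_basicOpen _ _).symm
  have hWc : IsCompact (W : Set U.toScheme) := by
    rw [U.ι.isOpenEmbedding.isInducing.isCompact_iff]
    have : U.ι '' (W : Set U.toScheme) = (U : Set X) ∩ V := by
      change U.ι '' (U.ι ⁻¹' (V : Set X)) = _
      rw [Set.image_preimage_eq_range_inter, Scheme.Opens.range_ι]
    rw [this]
    exact hUV
  have haff : ∀ k, IsAffineOpen (U.toScheme.basicOpen (q.hom (a k))) := fun k => by
    rw [hqpre, ← U.ι.isAffineOpen_iff_of_isOpenImmersion, Scheme.Hom.image_preimage_eq_opensRange_inf,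
      Scheme.Opens.opensRange_ι, inf_eq_right.mpr (hfU k.1)]
    exact hV.basicOpen _
  obtain ⟨Y, hYc, hY, g, hg, W', e, h, hh⟩ :=
    exists_refinement hY₀ g₀ W hWc (fun k => q.hom (a k)) haff
  let W'' : Y.Opens := ⨆ k, Y.basicOpen (h k)
  have hle : W'' ≤ W' := iSup_le fun k => Y.basicOpen_le (h k)
  have e'' : g ⁻¹ᵁ W'' = W := by
    refine le_antisymm ((g.preimage_mono hle).trans e.le) fun x hx => ?_
    obtain ⟨k, hk⟩ := Set.mem_iUnion₂.mp (ht (show U.ι x ∈ (U : Set X) ∩ V from ⟨x.2, hx⟩)) |>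
      fun ⟨y, hy, hxy⟩ => (⟨⟨y, hy⟩, hxy⟩ : ∃ k : κ, U.ι x ∈ X.basicOpen (a k))
    have hx' : x ∈ g ⁻¹ᵁ Y.basicOpen (h k) := by
      rw [← basicOpen_appLE_of_eq g W' W e (h k), (hh k).1, hqpre]
      exact hk
    exact Opens.mem_iSup.mpr ⟨k, hx'⟩
  let h'' : κ → Γ(Y, W'') := fun k => Y.presheaf.map (homOfLE hle).op (h k)
  have hbo : ∀ k, Y.basicOpen (h'' k) = Y.basicOpen (h k) := fun k => by
    rw [Scheme.basicOpen_res, inf_eq_right]
    exact le_iSup (fun k => Y.basicOpen (h k)) k
  obtain ⟨R, θA, j, ek, hR, hj, hjeq, hθ, hjr⟩ := exists_chart hY g W'' W e'' h''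
    (fun k => by rw [hbo]; exact (hh k).2) (by simp only [hbo]; rfl) q a
    (fun k => by
      rw [← (hh k).1]
      exact congrArg (fun φ => φ.hom (h k)) (Scheme.Hom.map_appLE g e''.ge (homOfLE hle).op))
    (fun k => isLocalization_away_restrict U V hV (a k) (hfU k.1))
  let L := pushout.inl W''.ι j
  let Rr := pushout.inr W''.ι j
  let mV : V.toScheme ⟶ Spec R := V.toSpecΓ ≫ Spec.map θA
  let gW : W.toScheme ⟶ W''.toScheme := g.resLE W'' W e''.ge
  let v : W.toScheme ⟶ V.toScheme := U.ι.resLE V W le_rfl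
  have hmix : W.ι ≫ g ≫ L = v ≫ mV ≫ Rr := by
    have h1 : gW ≫ j = v ≫ mV := by
      rw [hjeq]
      change _ = U.ι.resLE V W le_rfl ≫ V.toSpecΓ ≫ Spec.map θA
      rw [reassoc_of% (resLE_toSpecΓ U.ι V W le_rfl), ← Scheme.Hom.app_eq_appLE]
    rw [← reassoc_of% h1, ← pushout.condition, ← Category.assoc gW, Scheme.Hom.resLE_comp_ι,
      Category.assoc]
  have hcov : IsOpenCover (fun b : Bool => cond b U V) := by
    change iSup _ = ⊤
    rw [iSup_bool_eq]
    exact hsup
  let 𝒰 := X.openCoverOfIsOpenCover (fun b : Bool => cond b U V) hcov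
  let mm : ∀ b : Bool, 𝒰.X b ⟶ pushout W''.ι j :=
    fun b => match b with
      | true => g ≫ L
      | false => mV ≫ Rr
  have hmixed : ∀ {T : Scheme.{u}} (p : T ⟶ U.toScheme) (p' : T ⟶ V.toScheme) (hp : p ≫ U.ι = p' ≫ V.ι),
      p ≫ g ≫ L = p' ≫ mV ≫ Rr := by
    intro T p p' hp
    have hrange : Set.range p ⊆ Set.range W.ι := by
      rintro _ ⟨x, rfl⟩
      rw [Scheme.Opens.range_ι]
      change U.ι (p x) ∈ V
      rw [← Scheme.Hom.comp_apply, hp, Scheme.Hom.comp_apply]
      exact (p' x).2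
    let l := IsOpenImmersion.lift W.ι p hrange
    have hl : l ≫ W.ι = p := IsOpenImmersion.lift_fac ..
    have hl' : l ≫ v = p' := by
      rw [← cancel_mono V.ι, Category.assoc, Scheme.Hom.resLE_comp_ι, ← Category.assoc, hl, hp]
    rw [← hl, Category.assoc, hmix, ← hl']
    exact (Category.assoc _ _ _).symm
  let m : X ⟶ pushout W''.ι j := 𝒰.glueMorphisms mm (fun b b' => by
    cases b <;> cases b'
    · rw [show pullback.fst (𝒰.f false) (𝒰.f false) = pullback.snd (𝒰.f false) (𝒰.f false) from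
        (cancel_mono (𝒰.f false)).mp pullback.condition]
    · exact (hmixed _ _ pullback.condition.symm).symm
    · exact hmixed _ _ pullback.condition
    · rw [show pullback.fst (𝒰.f true) (𝒰.f true) = pullback.snd (𝒰.f true) (𝒰.f true) from
        (cancel_mono (𝒰.f true)).mp pullback.condition])
  have hmU : U.ι ≫ m = g ≫ L := Scheme.Cover.ι_glueMorphisms 𝒰 mm _ true
  have hmV : V.ι ≫ m = mV ≫ Rr := Scheme.Cover.ι_glueMorphisms 𝒰 mm _ false
  have hcase : ∀ x : X, x ∈ U ∨ x ∈ V := fun x => hsup.ge (show x ∈ (⊤ : X.Opens) from trivial)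
  have hrL : m ⁻¹ᵁ L.opensRange = U.ι.opensRange := by
    rw [Scheme.Opens.opensRange_ι]
    refine le_antisymm (fun x hx => ?_) fun x hx => ?_
    · rcases hcase x with hxU | hxV
      · exact hxU
      obtain ⟨y, hy⟩ := hx
      have h1 : m x = Rr (mV ⟨x, hxV⟩) := by
        rw [← Scheme.Hom.comp_apply, ← hmV, Scheme.Hom.comp_apply]
        rfl
      obtain ⟨w, -, hw⟩ := exists_of_inl_eq_inr W''.ι j (hy.trans h1)
      have hz : mV ⟨x, hxV⟩ ∈ Set.range j := ⟨w, hw⟩
      rw [hjr, Set.mem_iUnion] at hz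
      obtain ⟨k, hk⟩ := hz
      have hk' : (⟨x, hxV⟩ : V.toScheme) ∈ mV ⁻¹ᵁ specD R (ek k) := hk
      rw [Scheme.Hom.comp_preimage,
        show Spec.map θA ⁻¹ᵁ specD R (ek k) = PrimeSpectrum.basicOpen (θA.hom (ek k)) from rfl, hθ,
        V.toSpecΓ_preimage_basicOpen] at hk'
      exact hfU k.1 hk'
    · refine ⟨g ⟨x, hx⟩, ?_⟩
      rw [← Scheme.Hom.comp_apply, ← hmU, Scheme.Hom.comp_apply]
      rfl
  have hrR : m ⁻¹ᵁ Rr.opensRange = V.ι.opensRange := by
    rw [Scheme.Opens.opensRange_ι]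
    refine le_antisymm (fun x hx => ?_) fun x hx => ?_
    · rcases hcase x with hxU | hxV
      swap
      · exact hxV
      obtain ⟨z, hz⟩ := hx
      have h1 : m x = L (g ⟨x, hxU⟩) := by
        rw [← Scheme.Hom.comp_apply, ← hmU, Scheme.Hom.comp_apply]
        rfl
      obtain ⟨w, hw, -⟩ := exists_of_inl_eq_inr W''.ι j (hz.trans h1).symm
      have hxW : (⟨x, hxU⟩ : U.toScheme) ∈ g ⁻¹ᵁ W'' := by
        change g ⟨x, hxU⟩ ∈ W''
        rw [← hw]
        exact w.2
      rw [e''] at hxW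
      exact hxW
    · refine ⟨mV ⟨x, hx⟩, ?_⟩
      rw [← Scheme.Hom.comp_apply, ← hmV, Scheme.Hom.comp_apply]
      rfl
  refine ⟨pushout W''.ι j, m, compactSpace_pushout W''.ι j, lftz_pushout W''.ι j hY hR,
    IsZariskiLocalAtTarget.of_iSup_eq_top (fun b : Bool => cond b L.opensRange Rr.opensRange)
      (by rw [iSup_bool_eq]; exact range_inl_sup_range_inr W''.ι j) fun b => ?_⟩
  cases b
  · haveI : IsAffine V.toScheme := hV
    exact isAffineHom_restrict_of m Rr V.ι mV hmV hrR
  · exact isAffineHom_restrict_of m L U.ι g hmU hrL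

/-- Every quasi-compact quasi-separated scheme has a model. -/
theorem hasZModel (X : Scheme.{u}) [CompactSpace X] [QuasiSeparatedSpace X] : HasZModel X := by
  refine HasZModel.of_isIso ?_ X.topIso.inv
  refine compact_open_induction_on (P := fun S : X.Opens => HasZModel S.toScheme) ⊤ isCompact_univ ?_ ?_
  · haveI : IsAffine (⊥ : X.Opens).toScheme := isAffineOpen_bot X
    exact hasZModel_of_isAffine _
  · intro S hS V hP
    let O : X.Opens := S ⊔ V.1
    haveI : QuasiSeparatedSpace O.toScheme := quasiSeparatedSpace_of_quasiSeparated O.ι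
    have hle : S ≤ O := le_sup_left
    refine hasZModel_step (O.ι ⁻¹ᵁ S) (O.ι ⁻¹ᵁ V.1) ?_ ?_ ?_ ?_
    · rw [← Scheme.Hom.preimage_sup]
      exact O.ι_preimage_self
    · rw [O.ι.isOpenEmbedding.isInducing.isCompact_iff]
      have : O.ι '' ((O.ι ⁻¹ᵁ S : O.toScheme.Opens) : Set O.toScheme) = (S : Set X) := by
        change O.ι '' (O.ι ⁻¹' (S : Set X)) = _
        rw [Set.image_preimage_eq_range_inter, Scheme.Opens.range_ι]
        exact Set.inter_eq_right.mpr hle
      rw [this]
      exact hS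
    · rw [← O.ι.isAffineOpen_iff_of_isOpenImmersion, Scheme.Hom.image_preimage_eq_opensRange_inf,
        Scheme.Opens.opensRange_ι, inf_eq_right.mpr le_sup_right]
      exact V.2
    · have hr : Set.range (O.ι ⁻¹ᵁ S).ι = Set.range (X.homOfLE hle) := by
        rw [Scheme.Opens.range_ι]
        exact congrArg SetLike.coe (Scheme.opensRange_homOfLE hle).symm
      exact hP.of_isIso (IsOpenImmersion.isoOfRangeEq _ _ hr).hom

end Groth.Agent.LimH13
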