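import Groth.Agent.Lib.LimH13.Eventually
import Mathlib.AlgebraicGeometry.Morphisms.Immersion

/-!
# Structure maps of a limit of schemes over a base: affine, separated, closed immersion, immersion
-/

universe u

set_option backward.isDefEq.respectTransparency false
set_option backward.defeqAttrib.useBackward true
set_option linter.style.haveILetI false

open CategoryTheory CategoryTheory.Limits AlgebraicGeometry

namespace Groth.Agent.LimH13

open Groth.Agent.Descend

variable {I : Type u} [SmallCategory I] [IsCofiltered I] {S : Scheme.{u}} {D : I ⥤ Scheme.{u}}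
  {t : D ⟶ (Functor.const I).obj S} {c : Cone D}

/-- The composites to the base do not depend on the stage. -/
lemma π_comp_eq (i j : I) : c.π.app i ≫ t.app i = c.π.app j ≫ t.app j := by
  have h1 : ∀ {m : I} (b : IsCofiltered.min i j ⟶ m),
      c.π.app m ≫ t.app m = c.π.app (IsCofiltered.min i j) ≫ t.app (IsCofiltered.min i j) :=
    fun b => by rw [← t_nat D t b, ← c.w b, Category.assoc]
  exact (h1 (IsCofiltered.minToLeft i j)).trans (h1 (IsCofiltered.minToRight i j)).symm

/-- The constant cone on a connected index category is a limit. -/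
noncomputable def constCone (S : Scheme.{u}) : Cone ((Functor.const I).obj S) :=
  ⟨S, 𝟙 _⟩

/-- The constant cone on a connected index category is a limit. -/
noncomputable def isLimitConstCone (S : Scheme.{u}) : IsLimit (constCone (I := I) S) where
  lift s := s.π.app (IsCofiltered.nonempty (C := I)).some
  fac s i := by
    let i₁ := (IsCofiltered.nonempty (C := I)).some
    have h1 : ∀ {m : I} (b : IsCofiltered.min i i₁ ⟶ m),
        s.π.app (IsCofiltered.min i i₁) = s.π.app m :=
      fun b => by simpa using (s.w b)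
    have e1 := h1 (IsCofiltered.minToRight i i₁)
    have e2 := h1 (IsCofiltered.minToLeft i i₁)
    simpa [constCone] using e1.symm.trans e2
  uniq s m hm := by simpa [constCone] using hm _

/-- If the limit is closed in the base, so is some member of the system. -/
theorem exists_isClosedImmersion_structureMap [CompactSpace S] [QuasiSeparatedSpace S]
    (hc : IsLimit c) [∀ (i j : I) (a : i ⟶ j), IsClosedImmersion (D.map a)]
    [∀ i, CompactSpace (D.obj i)] [∀ i, QuasiSeparatedSpace (D.obj i)]
    [∀ i, LocallyOfFiniteType (t.app i)] (i₀ : I) [IsClosedImmersion (c.π.app i₀ ≫ t.app i₀)] :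
    ∃ i, IsClosedImmersion (t.app i) := by
  haveI : ∀ {i j : I} (a : i ⟶ j), IsAffineHom (D.map a) := fun a => inferInstance
  haveI : ∀ i, IsAffineHom ((𝟙 ((Functor.const I).obj S) :) |>.app i) := fun i => by
    simp only [NatTrans.id_app]; infer_instance
  refine exists_isClosedImmersion_app t (𝟙 _) hc (isLimitConstCone S) (fun {i j} a => ?_)
    (c.π.app i₀ ≫ t.app i₀) (fun i => by simpa [constCone] using π_comp_eq i₀ i)
  haveI : IsIso (((Functor.const I).obj S).map a) := inferInstanceAs (IsIso (𝟙 S))
  haveI : IsClosedImmersion (graphMap t a ≫ pullback.fst _ _) := by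
    rw [graphMap_fst]; infer_instance
  exact IsClosedImmersion.of_comp (graphMap t a) (pullback.fst _ _)

/-- If the limit is affine over the base, so is some member of the system. -/
theorem exists_isAffineHom_structureMap [CompactSpace S] [QuasiSeparatedSpace S]
    (hc : IsLimit c) [∀ {i j : I} (a : i ⟶ j), IsAffineHom (D.map a)]
    [∀ i, CompactSpace (D.obj i)] [∀ i, QuasiSeparatedSpace (D.obj i)] (i₀ : I)
    [IsAffineHom (c.π.app i₀ ≫ t.app i₀)] :
    ∃ i₁, ∀ (i : I) (_ : i ⟶ i₁), IsAffineHom (t.app i) := by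
  obtain ⟨s, hs⟩ := isCompact_univ.elim_finite_subcover (fun U : S.affineOpens => (U.1 : Set S))
    (fun U => U.1.2) (by
      intro x _
      obtain ⟨_, ⟨U, hU, rfl⟩, hx, -⟩ :=
        S.isBasis_affineOpens.exists_subset_of_mem_open (Set.mem_univ x) isOpen_univ
      exact Set.mem_iUnion.2 ⟨⟨U, hU⟩, hx⟩)
  haveI : ∀ i, QuasiCompact (t.app i) := fun i =>
    haveI : QuasiSeparatedSpace (((Functor.const I).obj S).obj i) := ‹QuasiSeparatedSpace S›
    inferInstance
  have key : ∀ U : s, ∃ j, IsAffineOpen (t.app j ⁻¹ᵁ U.1.1) := by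
    intro U
    obtain ⟨j, V, hV, hVe⟩ := exists_isAffineOpen_preimage_eq D c hc
      (c.π.app i₀ ⁻¹ᵁ t.app i₀ ⁻¹ᵁ U.1.1) (by
        rw [← Scheme.Hom.comp_preimage]; exact U.1.2.preimage _)
    obtain ⟨k, a, hk⟩ := exists_map_preimage_eq_map_preimage D c hc hV.isCompact
      (QuasiCompact.isCompact_preimage (f := t.app j) _ U.1.1.2 U.1.2.isCompact) (by
        refine hVe.trans ?_
        rw [← Scheme.Hom.comp_preimage, ← Scheme.Hom.comp_preimage, π_comp_eq i₀ j])
    refine ⟨k, ?_⟩
    rw [← Scheme.Hom.comp_preimage (D.map a), t_nat] at hk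
    rw [← hk]
    exact hV.preimage _
  choose j hj using key
  classical
  obtain ⟨k, hk⟩ := IsCofiltered.inf_objs_exists (Finset.univ.image j)
  refine ⟨k, fun i a => isAffineHom_of_forall_exists_isAffineOpen _ fun x => ?_⟩
  obtain ⟨U, hUs, hxU⟩ := Set.mem_iUnion₂.1 (hs (Set.mem_univ x))
  obtain ⟨b⟩ := hk (Finset.mem_image_of_mem j (Finset.mem_univ ⟨U, hUs⟩))
  refine ⟨U.1, hxU, U.2, ?_⟩
  rw [← t_nat D t (a ≫ b), Scheme.Hom.comp_preimage]
  exact (hj ⟨U, hUs⟩).preimage _

section Separated

variable (D t)

/-- The system of self products over the base. -/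
noncomputable def sqDiagram : I ⥤ Scheme.{u} where
  obj i := pullback (t.app i) (t.app i)
  map {i j} a := pullback.map _ _ _ _ (D.map a) (D.map a) (𝟙 _)
    (by rw [t_nat]; exact Category.comp_id _) (by rw [t_nat]; exact Category.comp_id _)
  map_id i := by apply pullback.hom_ext <;> simp
  map_comp a b := by apply pullback.hom_ext <;> simp

/-- The diagonals. -/
noncomputable def sqDiag : D ⟶ sqDiagram D t where
  app i := pullback.diagonal (t.app i)
  naturality i j a := by apply pullback.hom_ext <;> simp [sqDiagram]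

variable (c)

/-- The self product of the limit as a cone. -/
noncomputable def sqCone (i₀ : I) : Cone (sqDiagram D t) where
  pt := pullback (c.π.app i₀ ≫ t.app i₀) (c.π.app i₀ ≫ t.app i₀)
  π :=
    { app := fun i => pullback.map _ _ _ _ (c.π.app i) (c.π.app i) (𝟙 _)
        ((Category.comp_id _).trans (π_comp_eq i₀ i)) ((Category.comp_id _).trans (π_comp_eq i₀ i))
      naturality := fun i j a => by
        apply pullback.hom_ext <;> simp [sqDiagram] }

/-- The two projections of a cone on the self products. -/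
noncomputable def sqProj (s : Cone (sqDiagram D t)) (b : Bool) : Cone D where
  pt := s.pt
  π :=
    { app := fun i => s.π.app i ≫ if b then pullback.fst _ _ else pullback.snd _ _
      naturality := fun i j a => by
        have h := s.w a
        rw [← h]
        cases b <;> simp [sqDiagram] }

/-- The self product of the limit is the limit of the self products. -/
noncomputable def isLimitSqCone (hc : IsLimit c) (i₀ : I) : IsLimit (sqCone D t c i₀) where
  lift s := pullback.lift (hc.lift (sqProj D t s true)) (hc.lift (sqProj D t s false)) (by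
    rw [hc.fac_assoc, hc.fac_assoc]
    simp [sqProj, pullback.condition])
  fac s i := by
    apply pullback.hom_ext <;> simp [sqCone, sqProj, hc.fac]
  uniq s m hm := by
    apply pullback.hom_ext
    · rw [pullback.lift_fst]
      refine hc.uniq (sqProj D t s true) _ fun i => ?_
      rw [show (sqProj D t s true).π.app i = s.π.app i ≫ pullback.fst _ _ from rfl, ← hm i]
      simp [sqCone]
    · rw [pullback.lift_snd]
      refine hc.uniq (sqProj D t s false) _ fun i => ?_
      rw [show (sqProj D t s false).π.app i = s.π.app i ≫ pullback.snd _ _ from rfl, ← hm i]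
      simp [sqCone]

variable {D t c}

/-- If the limit is separated over the base, so is some member of the system. -/
theorem exists_isSeparated_structureMap [QuasiSeparatedSpace S]
    (hc : IsLimit c) [∀ {i j : I} (a : i ⟶ j), IsAffineHom (D.map a)]
    [∀ i, CompactSpace (D.obj i)] [∀ i, QuasiSeparatedSpace (D.obj i)] (i₀ : I)
    [IsSeparated (c.π.app i₀ ≫ t.app i₀)] :
    ∃ i₁, ∀ (i : I) (_ : i ⟶ i₁), IsSeparated (t.app i) := by
  let F := Over.forget i₀
  let t' : F ⋙ D ⟶ (Functor.const (Over i₀)).obj S := Functor.whiskerLeft F t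
  let c' : Cone (F ⋙ D) := c.whisker F
  have hc' : IsLimit c' := (Functor.Initial.isLimitWhiskerEquiv F c).symm hc
  haveI : ∀ {k l : Over i₀} (a : k ⟶ l), IsAffineHom ((F ⋙ D).map a) := fun a =>
    ‹∀ {i j : I} (a : i ⟶ j), IsAffineHom (D.map a)› a.left
  haveI : ∀ k, CompactSpace ((F ⋙ D).obj k) := fun k => inferInstanceAs (CompactSpace (D.obj _))
  haveI : ∀ k, QuasiSeparatedSpace ((F ⋙ D).obj k) := fun k =>
    inferInstanceAs (QuasiSeparatedSpace (D.obj _))
  let k₀ : Over i₀ := Over.mk (𝟙 i₀)
  let eE : sqDiagram (F ⋙ D) t' ⟶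
      (Functor.const (Over i₀)).obj (pullback (t.app i₀) (t.app i₀)) :=
    { app := fun k => pullback.map _ _ _ _ (D.map k.hom) (D.map k.hom) (𝟙 _)
        ((Category.comp_id _).trans (t_nat D t k.hom).symm)
        ((Category.comp_id _).trans (t_nat D t k.hom).symm)
      naturality := fun k l a => by
        apply pullback.hom_ext <;>
          simp [sqDiagram, F, t', ← D.map_comp, Over.w a] }
  haveI : ∀ k, IsAffineHom (eE.app k) := fun k =>
    MorphismProperty.pullbackMap (P := @IsAffineHom)
      (‹∀ {i j : I} (a : i ⟶ j), IsAffineHom (D.map a)› k.hom)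
      (‹∀ {i j : I} (a : i ⟶ j), IsAffineHom (D.map a)› k.hom) (by
        exact (t_nat D t k.hom).symm) (by exact (t_nat D t k.hom).symm)
  haveI : QuasiCompact (t.app i₀) :=
    haveI : QuasiSeparatedSpace (((Functor.const I).obj S).obj i₀) := ‹QuasiSeparatedSpace S›
    inferInstance
  haveI : QuasiSeparated (t.app i₀) := inferInstance
  haveI : CompactSpace ↥(pullback (t.app i₀) (t.app i₀)) :=
    QuasiCompact.compactSpace_of_compactSpace (pullback.fst (t.app i₀) (t.app i₀))
  haveI : QuasiSeparatedSpace ↥(pullback (t.app i₀) (t.app i₀)) :=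
    quasiSeparatedSpace_of_quasiSeparated (pullback.fst (t.app i₀) (t.app i₀))
  haveI : ∀ k, LocallyOfFiniteType ((sqDiag (F ⋙ D) t').app k) := fun k =>
    inferInstanceAs (LocallyOfFiniteType (pullback.diagonal (t'.app k)))
  haveI : IsSeparated (c'.π.app k₀ ≫ t'.app k₀) := ‹IsSeparated (c.π.app i₀ ≫ t.app i₀)›
  have hcl : ∀ {k l : Over i₀} (a : k ⟶ l), IsClosedImmersion (graphMap (sqDiag (F ⋙ D) t') a) := by
    intro k l a
    let φ : pullback ((sqDiag (F ⋙ D) t').app l) ((sqDiagram (F ⋙ D) t').map a) ⟶
        pullback ((F ⋙ D).map a) ((F ⋙ D).map a) :=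
      pullback.lift (pullback.snd _ _ ≫ pullback.fst _ _) (pullback.snd _ _ ≫ pullback.snd _ _) (by
        have h := pullback.condition (f := (sqDiag (F ⋙ D) t').app l)
          (g := (sqDiagram (F ⋙ D) t').map a)
        have h1 := congrArg (· ≫ pullback.fst (t'.app l) (t'.app l)) h
        have h2 := congrArg (· ≫ pullback.snd (t'.app l) (t'.app l)) h
        simp [sqDiag, sqDiagram] at h1 h2
        simp only [Category.assoc]
        exact h1.symm.trans h2)
    haveI : Mono φ := ⟨fun u v huv => by
      have h1 := congrArg (· ≫ pullback.fst _ _) huv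
      have h2 := congrArg (· ≫ pullback.snd _ _) huv
      simp [φ] at h1 h2
      have h3 : u ≫ pullback.snd _ _ = v ≫ pullback.snd _ _ := by
        apply pullback.hom_ext <;> simp [h1, h2]
      apply pullback.hom_ext
      · have e : pullback.fst ((sqDiag (F ⋙ D) t').app l) ((sqDiagram (F ⋙ D) t').map a) =
            pullback.snd _ _ ≫ ((sqDiagram (F ⋙ D) t').map a) ≫ pullback.fst _ _ := by
          rw [← pullback.condition_assoc]
          simp [sqDiag]
        rw [e, reassoc_of% h3]
      · exact h3⟩
    haveI : IsClosedImmersion (graphMap (sqDiag (F ⋙ D) t') a ≫ φ) := by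
      have : graphMap (sqDiag (F ⋙ D) t') a ≫ φ = pullback.diagonal ((F ⋙ D).map a) := by
        apply pullback.hom_ext <;>
          simp only [φ, Category.assoc, pullback.lift_fst, pullback.lift_snd, graphMap_snd_assoc] <;>
          simp [sqDiag]
      rw [this]; infer_instance
    exact IsClosedImmersion.of_comp (graphMap (sqDiag (F ⋙ D) t') a) φ
  obtain ⟨k, hk⟩ := exists_isClosedImmersion_app (sqDiag (F ⋙ D) t') eE hc'
    (isLimitSqCone (F ⋙ D) t' c' hc' k₀) hcl
    (pullback.diagonal (c'.π.app k₀ ≫ t'.app k₀)) (fun l => by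
      apply pullback.hom_ext <;> simp [sqDiag, sqCone])
  haveI : IsSeparated (t.app k.left) := ⟨hk⟩
  refine ⟨k.left, fun i a => ?_⟩
  rw [← t_nat D t a]
  infer_instance

end Separated

/-- If the limit is immersed in the base, so is some member of the system. -/
theorem exists_isImmersion_structureMap [QuasiSeparatedSpace S]
    (hc : IsLimit c) [∀ (i j : I) (a : i ⟶ j), IsClosedImmersion (D.map a)]
    [∀ i, CompactSpace (D.obj i)] [∀ i, QuasiSeparatedSpace (D.obj i)]
    [∀ i, LocallyOfFiniteType (t.app i)] (i₀ : I) [IsImmersion (c.π.app i₀ ≫ t.app i₀)] :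
    ∃ i₁, ∀ (i : I) (_ : i ⟶ i₁), IsImmersion (t.app i) := by
  haveI : ∀ {i j : I} (a : i ⟶ j), IsAffineHom (D.map a) := fun a => inferInstance
  haveI : CompactSpace c.pt := Scheme.compactSpace_of_isLimit D c hc
  let u : c.pt ⟶ S := c.π.app i₀ ≫ t.app i₀
  obtain ⟨s, hs⟩ := (isCompact_range u.continuous).elim_finite_subcover
    (fun U : {U : S.affineOpens // U.1 ≤ u.coborderRange} => (U.1.1 : Set S))
    (fun U => U.1.1.2) (by
      rintro _ ⟨x, rfl⟩
      obtain ⟨_, ⟨U, hU, rfl⟩, hx, hle⟩ :=
        S.isBasis_affineOpens.exists_subset_of_mem_open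
          (show u x ∈ (u.coborderRange : Set S) from subset_coborder ⟨x, rfl⟩)
          u.coborderRange.2
      exact Set.mem_iUnion.2 ⟨⟨⟨U, hU⟩, hle⟩, hx⟩)
  let U : S.Opens := ⨆ V ∈ s, V.1.1
  have hUc : IsCompact (U : Set S) := by
    simp only [U, TopologicalSpace.Opens.coe_iSup]
    exact s.isCompact_biUnion fun V _ => V.1.2.isCompact
  have hUle : U ≤ u.coborderRange := iSup₂_le fun V _ => V.2
  have hru : Set.range u ⊆ Set.range U.ι := by
    rw [Scheme.Opens.range_ι]
    simpa only [U, TopologicalSpace.Opens.coe_iSup] using hs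
  obtain ⟨i₁, a₁, hi₁⟩ := exists_map_eq_top D c hc (i := i₀) (t.app i₀ ⁻¹ᵁ U) (by
    rw [eq_top_iff]
    intro x _
    have := hru ⟨x, rfl⟩
    rw [Scheme.Opens.range_ι] at this
    exact this)
  have hr : ∀ k : Over i₁, Set.range (t.app k.left) ⊆ Set.range U.ι := by
    intro k
    rintro _ ⟨x, rfl⟩
    rw [Scheme.Opens.range_ι, ← t_nat D t (k.hom ≫ a₁), D.map_comp, Category.assoc,
      Scheme.Hom.comp_apply]
    exact hi₁.ge (Set.mem_univ _)
  haveI : CompactSpace U.toScheme := isCompact_iff_compactSpace.mp hUc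
  haveI : QuasiSeparatedSpace U.toScheme := U.ι.isOpenEmbedding.quasiSeparatedSpace
  let F := Over.forget i₁
  let t' : F ⋙ D ⟶ (Functor.const (Over i₁)).obj U.toScheme :=
    { app := fun k => IsOpenImmersion.lift U.ι (t.app k.left) (hr k)
      naturality := fun k l a => by
        rw [← cancel_mono U.ι]
        simp [F] }
  haveI : ∀ (k l : Over i₁) (a : k ⟶ l), IsClosedImmersion ((F ⋙ D).map a) := fun k l a =>
    ‹∀ (i j : I) (a : i ⟶ j), IsClosedImmersion (D.map a)› _ _ a.left
  haveI : ∀ k, CompactSpace ((F ⋙ D).obj k) := fun k => inferInstanceAs (CompactSpace (D.obj _))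
  haveI : ∀ k, QuasiSeparatedSpace ((F ⋙ D).obj k) := fun k =>
    inferInstanceAs (QuasiSeparatedSpace (D.obj _))
  haveI : ∀ k, LocallyOfFiniteType (t'.app k) := fun k => by
    haveI : LocallyOfFiniteType (t'.app k ≫ U.ι) := by
      simp only [t', IsOpenImmersion.lift_fac]; infer_instance
    exact locallyOfFiniteType_of_comp _ U.ι
  let k₀ : Over i₁ := Over.mk (𝟙 i₁)
  let c' : Cone (F ⋙ D) := c.whisker F
  haveI : IsClosedImmersion (c'.π.app k₀ ≫ t'.app k₀) := by
    have h : (c'.π.app k₀ ≫ t'.app k₀) ≫ S.homOfLE hUle = u.liftCoborder := by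
      rw [← cancel_mono u.coborderRange.ι]
      simp only [Category.assoc, Scheme.homOfLE_ι, t', IsOpenImmersion.lift_fac, F, c',
        Scheme.Hom.liftCoborder_ι]
      exact π_comp_eq _ _
    haveI : IsClosedImmersion ((c'.π.app k₀ ≫ t'.app k₀) ≫ S.homOfLE hUle) := by
      rw [h]; infer_instance
    exact IsClosedImmersion.of_comp _ (S.homOfLE hUle)
  obtain ⟨k, hk⟩ := exists_isClosedImmersion_structureMap (t := t')
    ((Functor.Initial.isLimitWhiskerEquiv F c).symm hc) k₀
  refine ⟨k.left, fun i a => ?_⟩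
  rw [← t_nat D t a, ← IsOpenImmersion.lift_fac U.ι (t.app k.left) (hr k)]
  haveI : IsClosedImmersion (IsOpenImmersion.lift U.ι (t.app k.left) (hr k)) := hk
  infer_instance

end Groth.Agent.LimH13
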