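import Groth.Agent.Lib.LimH13.ProperSys
import Groth.Agent.Lib.LimH13.Struct

/-!
# Properness descends
-/

universe u

open CategoryTheory Limits AlgebraicGeometry Groth.Agent.Descend

set_option backward.isDefEq.respectTransparency false
set_option backward.isDefEq.respectTransparency.types false
set_option linter.style.haveILetI false

noncomputable section

namespace Groth.Agent.LimH13

variable {J : Type u} [SmallCategory J] [IsCofiltered J]

/-- Properness of a base change to a limit is attained at a stage. -/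
theorem exists_isProper {X₀ Y₀ : Scheme.{u}} (f : X₀ ⟶ Y₀) [IsSeparated f] [LocallyOfFiniteType f]
    [CompactSpace X₀] [QuasiSeparatedSpace X₀] [CompactSpace Y₀] [QuasiSeparatedSpace Y₀]
    {E : J ⥤ Scheme.{u}} (t : E ⟶ (Functor.const J).obj Y₀) [∀ k, IsAffineHom (t.app k)] {e : Cone E}
    {q : e.pt ⟶ Y₀} {P : Scheme.{u}} {p : P ⟶ X₀} {r : P ⟶ e.pt} (he : IsLimit e)
    (hq : ∀ k, e.π.app k ≫ t.app k = q) (hP : IsPullback p r f q) [IsProper r] :
    ∃ k, IsProper (pullback.snd f (t.app k)) := by
  let DX := pbDiagram E t f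
  let h : DX ⟶ E := pbSnd E t f
  let cX := pbCone E t f e hq hP
  haveI : ∀ {i j : J} (a : i ⟶ j), IsAffineHom (E.map a) := fun a => isAffineHom_map E t a
  haveI : ∀ i, LocallyOfFiniteType (h.app i) := fun i =>
    MorphismProperty.pullback_snd f (t.app i) inferInstance
  have hcl : ∀ {i j : J} (a : i ⟶ j), IsClosedImmersion (graphMap h a) := fun {i j} a => by
    have hp := pbMap_isPullback E t f a
    have e1 : graphMap h a = hp.isoPullback.hom := by
      apply pullback.hom_ext
      · rw [graphMap_fst]; exact hp.isoPullback_hom_fst.symm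
      · rw [graphMap_snd]; exact hp.isoPullback_hom_snd.symm
    rw [e1]
    infer_instance
  obtain ⟨i₀⟩ := IsCofiltered.nonempty (C := J)
  haveI : IsSeparated (h.app i₀) := MorphismProperty.pullback_snd f (t.app i₀) inferInstance
  haveI : IsProper (r : cX.pt ⟶ e.pt) := ‹IsProper r›
  obtain ⟨i, -, hi⟩ := exists_isProper_app h t (pbIsLimit E t f e hq hP he) he hcl i₀ r
    (fun i => (pbCone_snd E t f e hq hP i).symm)
  exact ⟨i, hi i (𝟙 i)⟩

variable {I : Type u} [SmallCategory I] [IsCofiltered I]

/-- A proper map to a limit is proper to every sufficiently small stage. -/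
theorem exists_isProper_toStage (S : Scheme.{u}) (D : I ⥤ Scheme.{u}) (t : D ⟶ (Functor.const I).obj S)
    (c : Cone D) (hc : IsLimit c) [∀ {i j : I} (a : i ⟶ j), IsAffineHom (D.map a)]
    [∀ i, CompactSpace (D.obj i)] [∀ i, QuasiSeparatedSpace (D.obj i)] (i₀ : I)
    {Y : Scheme.{u}} (h : Y ⟶ c.pt) [IsProper h] [LocallyOfFiniteType (h ≫ c.π.app i₀ ≫ t.app i₀)] :
    ∃ i₁ : I, ∀ (i : I) (_ : i ⟶ i₁), IsProper (h ≫ c.π.app i) := by
  let F := Over.forget i₀
  let c' := c.whisker F
  have hc' : IsLimit c' := (Functor.Initial.isLimitWhiskerEquiv F c).symm hc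
  haveI : IsAffineHom (c.π.app i₀) := isAffineHom_π_app _ c hc i₀
  haveI : CompactSpace c.pt := QuasiCompact.compactSpace_of_compactSpace (c.π.app i₀)
  haveI : QuasiSeparatedSpace c.pt := quasiSeparatedSpace_of_quasiSeparated (c.π.app i₀)
  haveI : CompactSpace Y := QuasiCompact.compactSpace_of_compactSpace h
  haveI : QuasiSeparatedSpace Y := quasiSeparatedSpace_of_quasiSeparated h
  haveI : IsConnected (Over i₀) := IsCofiltered.isConnected _
  let DX : Over i₀ ⥤ Scheme.{u} := (Functor.const (Over i₀)).obj Y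
  let hh : DX ⟶ F ⋙ D :=
    { app := fun k => h ≫ c.π.app k.left
      naturality := fun k l a => by
        dsimp [DX]
        rw [Category.id_comp, Category.assoc]
        exact congrArg _ (c.w a.left).symm }
  haveI : ∀ {k l : Over i₀} (a : k ⟶ l), IsAffineHom ((F ⋙ D).map a) := fun a =>
    inferInstanceAs (IsAffineHom (D.map a.left))
  haveI : ∀ k, LocallyOfFiniteType (hh.app k) := fun k => by
    haveI : LocallyOfFiniteType (hh.app k ≫ t.app k.left) := by
      rw [show hh.app k ≫ t.app k.left = h ≫ c.π.app i₀ ≫ t.app i₀ by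
        change (h ≫ c.π.app k.left) ≫ t.app k.left = _
        rw [Category.assoc]; exact congrArg _ (π_comp_eq (c := c) (t := t) k.left i₀)]
      infer_instance
    exact locallyOfFiniteType_of_comp (hh.app k) (t.app k.left)
  have hcl : ∀ {k l : Over i₀} (a : k ⟶ l), IsClosedImmersion (graphMap hh a) := fun {k l} a => by
    haveI : IsClosedImmersion (graphMap hh a ≫ pullback.fst _ _) := by
      rw [graphMap_fst]
      change IsClosedImmersion (𝟙 Y)
      infer_instance
    exact IsClosedImmersion.of_comp (graphMap hh a) (pullback.fst _ _)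
  let k₀ : Over i₀ := Over.mk (𝟙 i₀)
  haveI : IsSeparated (hh.app k₀) := inferInstanceAs (IsSeparated (h ≫ c.π.app i₀))
  haveI : IsProper (h : (constCone (I := Over i₀) Y).pt ⟶ c'.pt) := ‹IsProper h›
  haveI : ∀ {k l : Over i₀} (a : k ⟶ l), IsAffineHom (DX.map a) := fun a => inferInstanceAs (IsAffineHom (𝟙 Y))
  haveI : ∀ k, CompactSpace (DX.obj k) := fun _ => ‹CompactSpace Y›
  haveI : ∀ k, QuasiSeparatedSpace (DX.obj k) := fun _ => ‹QuasiSeparatedSpace Y›
  obtain ⟨k, -, hk⟩ := exists_isProper_app hh (overT D i₀) (isLimitConstCone Y) hc' hcl k₀ h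
    (fun k => by change h ≫ c.π.app k.left = 𝟙 Y ≫ h ≫ c.π.app k.left; rw [Category.id_comp])
  exact ⟨k.left, fun i a => hk (Over.mk (a ≫ k.hom)) (Over.homMk a)⟩

end Groth.Agent.LimH13
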