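import Groth.Agent.S2079
import Groth.Agent.S2074
import Groth.Agent.Lib.LimH13.ImmersionFP
import Groth.Agent.Lib.LimH13.DescendFP
import Groth.Agent.Lib.LimH13.ModelGlue
import Groth.Agent.Lib.LimH13.AffineSpec

/-!
# Scheme-theoretic images in a limit
-/

universe u

open CategoryTheory Limits AlgebraicGeometry Opposite TopologicalSpace Groth.Agent.LimH13

set_option backward.isDefEq.respectTransparency false
set_option backward.isDefEq.respectTransparency.types false
set_option linter.style.haveILetI false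

noncomputable section

namespace Groth.Agent.LimH13.Img

variable {I : Type u} [SmallCategory I] (D : I ⥤ Scheme.{u}) (c : Cone D) {X : Scheme.{u}} (j : X ⟶ c.pt)

/-- The image of `X` at a stage. -/
abbrev stage (k : I) : (D.obj k).IdealSheafData := (j ≫ c.π.app k).ker

theorem stage_le {k l : I} (a : k ⟶ l) :
    (stage D c j l).subschemeι.ker ≤ ((stage D c j k).subschemeι ≫ D.map a).ker := by
  rw [Scheme.IdealSheafData.ker_subschemeι, ← Scheme.IdealSheafData.map_ker,
    Scheme.IdealSheafData.ker_subschemeι, Scheme.IdealSheafData.map_ker, Category.assoc, c.w]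

/-- The transition morphisms of the images. -/
def trans {k l : I} (a : k ⟶ l) : (stage D c j k).subscheme ⟶ (stage D c j l).subscheme :=
  IsClosedImmersion.lift (stage D c j l).subschemeι ((stage D c j k).subschemeι ≫ D.map a) (stage_le D c j a)

@[reassoc (attr := simp)]
theorem trans_ι {k l : I} (a : k ⟶ l) :
    trans D c j a ≫ (stage D c j l).subschemeι = (stage D c j k).subschemeι ≫ D.map a :=
  IsClosedImmersion.lift_fac _ _ _

/-- The system of images. -/
def diag : I ⥤ Scheme.{u} where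
  obj k := (stage D c j k).subscheme
  map a := trans D c j a
  map_id k := by rw [← cancel_mono (stage D c j k).subschemeι]; simp
  map_comp {k l m} a b := by rw [← cancel_mono (stage D c j m).subschemeι]; simp

/-- The inclusion into the original system. -/
def ι : diag D c j ⟶ D where
  app k := (stage D c j k).subschemeι
  naturality _ _ a := trans_ι D c j a

theorem isAffineHom_map [∀ {k l} (a : k ⟶ l), IsAffineHom (D.map a)] {k l : I} (a : k ⟶ l) :
    IsAffineHom ((diag D c j).map a) := by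
  haveI : IsAffineHom (trans D c j a ≫ (stage D c j l).subschemeι) := by
    rw [trans_ι]; infer_instance
  exact IsAffineHom.of_comp (trans D c j a) (stage D c j l).subschemeι

/-- The cone of images. -/
def cone : Cone (diag D c j) where
  pt := X
  π :=
    { app := fun k => (j ≫ c.π.app k).toImage
      naturality := fun k l a => by
        change 𝟙 X ≫ _ = _ ≫ trans D c j a
        rw [← cancel_mono (stage D c j l).subschemeι]
        change (𝟙 X ≫ (j ≫ c.π.app l).toImage) ≫ (j ≫ c.π.app l).imageι =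
          ((j ≫ c.π.app k).toImage ≫ trans D c j a) ≫ (stage D c j l).subschemeι
        rw [Category.id_comp, Scheme.Hom.toImage_imageι, Category.assoc, trans_ι]
        change j ≫ c.π.app l = (j ≫ c.π.app k).toImage ≫ (j ≫ c.π.app k).imageι ≫ D.map a
        rw [Scheme.Hom.toImage_imageι_assoc, Category.assoc, c.w] }

omit [SmallCategory I] in
theorem app_appLE_eq_zero {T Y Z : Scheme.{u}} (u : T ⟶ Y) (π : Y ⟶ Z) (W : Z.Opens) (V : Y.Opens)
    (e : π ⁻¹ᵁ W = V) (b : Γ(Z, W)) :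
    u.app V (π.appLE W V e.ge b) = 0 ↔ (u ≫ π).app W b = 0 := by
  subst e
  rw [Scheme.Hom.appLE_eq_app]
  simp only [Scheme.Hom.comp_app]
  rfl

variable [IsCofiltered I]

theorem ker_le (hc : IsLimit c) [∀ {k l} (a : k ⟶ l), IsAffineHom (D.map a)] [IsClosedImmersion j]
    (i₀ : I) {T : Scheme.{u}} (w : T ⟶ c.pt) [QuasiCompact w]
    (hw : ∀ k, (stage D c j k) ≤ (w ≫ c.π.app k).ker) : j.ker ≤ w.ker := by
  haveI : ∀ k, IsAffineHom (c.π.app k) := fun k => isAffineHom_π_app _ c hc k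
  refine Scheme.IdealSheafData.le_of_iSup_eq_top
    (fun W : (D.obj i₀).affineOpens => (⟨c.π.app i₀ ⁻¹ᵁ W.1, W.2.preimage _⟩ : c.pt.affineOpens))
    (by
      refine top_le_iff.1 fun x _ => ?_
      obtain ⟨W, hW, hxW, -⟩ := exists_isAffineOpen_mem_and_subset (x := c.π.app i₀ x) (U := ⊤) trivial
      exact Opens.mem_iSup.2 ⟨⟨W, hW⟩, hxW⟩) ?_
  intro W a ha
  obtain ⟨l, φ, b, hb⟩ := exists_stage_section D c hc i₀ W.1 W.2 a
  let Wl : (D.obj l).affineOpens := ⟨D.map φ ⁻¹ᵁ W.1, W.2.preimage _⟩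
  have e : c.π.app l ⁻¹ᵁ Wl.1 = c.π.app i₀ ⁻¹ᵁ W.1 := by
    rw [← Scheme.Hom.comp_preimage, c.w]
  rw [Scheme.Hom.ker_apply, RingHom.mem_ker] at ha ⊢
  have hb1 : b ∈ (stage D c j l).ideal Wl := by
    rw [Scheme.Hom.ker_apply, RingHom.mem_ker]
    exact (app_appLE_eq_zero j (c.π.app l) Wl.1 _ e b).1 (hb.symm ▸ ha)
  have hb2 := Scheme.Hom.ideal_ker_le (w ≫ c.π.app l) Wl (hw l Wl hb1)
  rw [← hb]
  exact (app_appLE_eq_zero w (c.π.app l) Wl.1 _ e b).2 hb2

theorem exists_lift (hc : IsLimit c) [∀ {k l} (a : k ⟶ l), IsAffineHom (D.map a)] [IsClosedImmersion j]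
    [QuasiSeparatedSpace c.pt] (i₀ : I) {T : Scheme.{u}} (w : T ⟶ c.pt)
    (hw : ∀ k, (stage D c j k) ≤ (w ≫ c.π.app k).ker) : ∃ v : T ⟶ X, v ≫ j = w := by
  have h : ∀ i, ∃ v : T.affineCover.X i ⟶ X, v ≫ j = T.affineCover.f i ≫ w := fun i => by
    haveI : QuasiCompact (T.affineCover.f i ≫ w) := quasiCompact_of_compactSpace _
    refine ⟨IsClosedImmersion.lift j _ (ker_le D c j hc i₀ _ fun k => ?_), IsClosedImmersion.lift_fac _ _ _⟩
    rw [Category.assoc]
    exact (hw k).trans (Scheme.Hom.le_ker_comp _ _)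
  choose v hv using h
  refine ⟨T.affineCover.glueMorphisms v fun i i' => ?_, ?_⟩
  · rw [← cancel_mono j, Category.assoc, Category.assoc, hv, hv, pullback.condition_assoc]
  · refine Scheme.Cover.hom_ext T.affineCover _ _ fun i => ?_
    rw [Scheme.Cover.ι_glueMorphisms_assoc, hv]

/-- The limit of the images is the closed subscheme. -/
def isLimit (hc : IsLimit c) [∀ {k l} (a : k ⟶ l), IsAffineHom (D.map a)] [IsClosedImmersion j]
    [QuasiSeparatedSpace c.pt] (i₀ : I) : IsLimit (cone D c j) :=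
  IsLimit.ofExistsUnique fun s => by
    let s' : Cone D :=
      { pt := s.pt
        π := s.π ≫ ι D c j }
    have hw : ∀ k, (stage D c j k) ≤ (hc.lift s' ≫ c.π.app k).ker := fun k => by
      rw [hc.fac]
      refine le_trans (ge_of_eq (Scheme.IdealSheafData.ker_subschemeι _)) ?_
      exact Scheme.Hom.le_ker_comp (s.π.app k) (stage D c j k).subschemeι
    obtain ⟨v, hv⟩ := exists_lift D c j hc i₀ (hc.lift s') hw
    have hπ : ∀ k, (cone D c j).π.app k ≫ (stage D c j k).subschemeι = j ≫ c.π.app k := fun k =>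
      Scheme.Hom.toImage_imageι _
    refine ⟨v, fun k => ?_, fun v' hv' => ?_⟩
    · rw [← cancel_mono (stage D c j k).subschemeι, Category.assoc, hπ, reassoc_of% hv]
      exact hc.fac s' k
    · rw [← cancel_mono j, hv]
      refine hc.hom_ext fun k => ?_
      rw [hc.fac, Category.assoc, ← hπ, ← Category.assoc, hv' k]
      rfl

end Groth.Agent.LimH13.Img

namespace Groth.Agent.LimH13

/-- A proper morphism is a limit of proper morphisms, given the base as a limit. -/
theorem exists_proper_system {I : Type u} [SmallCategory I] [IsCofiltered I] (D : I ⥤ Scheme.{u})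
    (c : Cone D) (hc : IsLimit c) [∀ {i j} (a : i ⟶ j), IsAffineHom (D.map a)] [∀ i, CompactSpace (D.obj i)]
    [∀ i, QuasiSeparatedSpace (D.obj i)] [CompactSpace c.pt] [QuasiSeparatedSpace c.pt]
    {X : Scheme.{u}} (f : X ⟶ c.pt) [IsProper f] :
    ∃ (J : Type u) (_ : SmallCategory J) (_ : IsCofiltered J) (F : J ⥤ I) (DX : J ⥤ Scheme.{u})
      (φ : DX ⟶ F ⋙ D) (cX : Cone DX) (_ : IsLimit cX) (_ : IsLimit (c.whisker F)) (eX : cX.pt ≅ X),
      (∀ (k l : J) (a : k ⟶ l), IsAffineHom (DX.map a)) ∧ (∀ k, IsProper (φ.app k)) ∧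
      ∀ k, cX.π.app k ≫ φ.app k = eX.hom ≫ f ≫ c.π.app (F.obj k) := by
  obtain ⟨J₀, _, _, D₀, c₀, hc₀, e₀, -, h₀⟩ := Groth.Agent.S2079.result f
  obtain ⟨k₀⟩ := IsCofiltered.nonempty (C := J₀)
  obtain ⟨hcl, hprop, hfp⟩ := h₀ k₀
  haveI := hprop
  haveI := hfp
  haveI : CompactSpace (D₀.obj k₀).left := QuasiCompact.compactSpace_of_compactSpace (D₀.obj k₀).hom
  haveI : QuasiSeparatedSpace (D₀.obj k₀).left := quasiSeparatedSpace_of_quasiSeparated (D₀.obj k₀).hom
  let jX : X ⟶ (D₀.obj k₀).left := e₀.inv.left ≫ (c₀.π.app k₀).left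
  haveI : IsIso e₀.inv.left := inferInstanceAs (IsIso ((Over.forget _).mapIso e₀).inv)
  haveI : IsClosedImmersion jX := inferInstanceAs (IsClosedImmersion (e₀.inv.left ≫ _))
  have hjX : jX ≫ (D₀.obj k₀).hom = f := by
    rw [Category.assoc, Over.w (c₀.π.app k₀)]
    exact Over.w e₀.inv
  obtain ⟨i, P, p, q, hp, hPc, hPq, hP⟩ := hasModel_of_finitePresentation hc (D₀.obj k₀).hom
  haveI := hp
  haveI := hPc
  haveI := hPq
  haveI : ∀ (a b : I) (h : a ⟶ b), IsAffineHom (D.map h) := fun _ _ h => inferInstance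
  obtain ⟨i₁, φ, Xi, Yi, fi, gi, pY, pX, hY', hX', hfi⟩ :=
    Groth.Agent.S2074.result D c hc i p (𝟙 (D.obj i)) (D₀.obj k₀).hom (𝟙 c.pt) (c.π.app i) q
      (IsPullback.of_vert_isIso ⟨by simp⟩) hP
  haveI := hfi
  haveI : IsIso gi := hY'.isIso_snd_of_isIso
  haveI : IsProper (fi ≫ gi) := inferInstance
  have hP₁ : IsPullback pX (fi ≫ gi) p (D.map φ) := by
    have h := hX'.paste_vert hY'
    rwa [Category.comp_id] at h
  have hw : q ≫ p = ((D₀.obj k₀).hom ≫ c.π.app i₁) ≫ D.map φ := by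
    rw [Category.assoc, c.w]; exact hP.w
  let q₁ : (D₀.obj k₀).left ⟶ Xi := hP₁.lift q ((D₀.obj k₀).hom ≫ c.π.app i₁) hw
  have hq₁ : IsPullback q₁ (D₀.obj k₀).hom (fi ≫ gi) (c.π.app i₁) := by
    refine IsPullback.of_right ?_ (hP₁.lift_snd _ _ hw) hP₁
    rw [hP₁.lift_fst, c.w]
    exact hP
  let F := Over.forget i₁
  let t := Descend.overT D i₁
  let E := Descend.pbDiagram (F ⋙ D) t (fi ≫ gi)
  have hc' : IsLimit (c.whisker F) := (Functor.Initial.isLimitWhiskerEquiv F c).symm hc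
  have hq : ∀ k, (c.whisker F).π.app k ≫ t.app k = c.π.app i₁ := fun k => c.w k.hom
  let e := Descend.pbCone (F ⋙ D) t (fi ≫ gi) (c.whisker F) hq hq₁
  have he : IsLimit e := Descend.pbIsLimit (F ⋙ D) t (fi ≫ gi) (c.whisker F) hq hq₁ hc'
  haveI : ∀ {k l : Over i₁} (a : k ⟶ l), IsAffineHom (E.map a) := fun a =>
    inferInstanceAs (IsAffineHom ((Descend.pbDiagram (F ⋙ D) t (fi ≫ gi)).map a))
  haveI : QuasiSeparatedSpace e.pt := inferInstanceAs (QuasiSeparatedSpace (D₀.obj k₀).left)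
  haveI : IsClosedImmersion (jX : X ⟶ e.pt) := ‹IsClosedImmersion jX›
  let φ' : Img.diag E e jX ⟶ F ⋙ D := Img.ι E e jX ≫ Descend.pbSnd (F ⋙ D) t (fi ≫ gi)
  refine ⟨Over i₁, inferInstance, inferInstance, F, Img.diag E e jX, φ', Img.cone E e jX,
    Img.isLimit E e jX he (Over.mk (𝟙 i₁)), hc', Iso.refl _,
    fun k l a => Img.isAffineHom_map E e jX a, fun k => ?_, fun k => ?_⟩
  · change IsProper ((Img.stage E e jX k).subschemeι ≫ pullback.snd (fi ≫ gi) (t.app k))
    haveI : IsProper (pullback.snd (fi ≫ gi) (t.app k)) := MorphismProperty.pullback_snd _ _ inferInstance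
    infer_instance
  · change (jX ≫ e.π.app k).toImage ≫ (jX ≫ e.π.app k).imageι ≫ pullback.snd (fi ≫ gi) (t.app k) =
      𝟙 X ≫ f ≫ c.π.app k.left
    rw [Scheme.Hom.toImage_imageι_assoc, Category.assoc, Descend.pbCone_snd, reassoc_of% hjX, Category.id_comp]
    rfl

end Groth.Agent.LimH13
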