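import Groth.Agent.Lib.LimH13.Top
import Mathlib.AlgebraicGeometry.Morphisms.Flat
import Mathlib.RingTheory.Flat.EquationalCriterion

/-!
# Local rings of a limit of schemes with affine transition maps

The stalk of the limit at a point is the filtered colimit of the stalks of the stages.
-/

universe u

set_option backward.isDefEq.respectTransparency false
set_option backward.defeqAttrib.useBackward true
set_option linter.style.haveILetI false

open CategoryTheory CategoryTheory.Limits AlgebraicGeometry TopologicalSpace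

namespace Groth.Agent.LimH13

variable {I : Type u} [SmallCategory I] {D : I ⥤ Scheme.{u}} {c : Cone D}

lemma map_π_apply {j i : I} (a : j ⟶ i) (x : c.pt) : D.map a (c.π.app j x) = c.π.app i x :=
  congrArg (fun m => m x) (c.w a)

/-- The transition map of stalks along the images of a point of the limit. -/
noncomputable def stageStalkMap (x : c.pt) {j i : I} (a : j ⟶ i) :
    (D.obj i).presheaf.stalk (c.π.app i x) ⟶ (D.obj j).presheaf.stalk (c.π.app j x) :=
  ((D.obj i).presheaf.stalkCongr (.of_eq (map_π_apply a x).symm)).hom ≫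
    (D.map a).stalkMap (c.π.app j x)

@[reassoc]
lemma germ_stageStalkMap (x : c.pt) {j i : I} (a : j ⟶ i) (U : (D.obj i).Opens)
    (hU : c.π.app i x ∈ U) :
    (D.obj i).presheaf.germ U _ hU ≫ stageStalkMap x a =
      (D.map a).app U ≫ (D.obj j).presheaf.germ (D.map a ⁻¹ᵁ U) _
        (show D.map a (c.π.app j x) ∈ U by rw [map_π_apply a x]; exact hU) := by
  simp [stageStalkMap, Scheme.Hom.germ_stalkMap]

@[reassoc]
lemma stageStalkMap_stalkMap (x : c.pt) {j i : I} (a : j ⟶ i) :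
    stageStalkMap x a ≫ (c.π.app j).stalkMap x = (c.π.app i).stalkMap x := by
  refine TopCat.Presheaf.stalk_hom_ext _ fun U hU => ?_
  rw [germ_stageStalkMap_assoc, Scheme.Hom.germ_stalkMap, Scheme.Hom.germ_stalkMap]
  have h : c.π.app j ≫ D.map a = c.π.app i := c.w a
  rw [← Category.assoc, ← Scheme.Hom.comp_app, Scheme.Hom.congr_app h U, Category.assoc]
  simp

lemma flat_stageStalkMap (x : c.pt) {j i : I} (a : j ⟶ i) [Flat (D.map a)] :
    (stageStalkMap x a).hom.Flat := by
  rw [stageStalkMap, CommRingCat.hom_comp]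
  exact RingHom.Flat.comp
    (RingHom.Flat.of_bijective (ConcreteCategory.bijective_of_isIso
      ((D.obj i).presheaf.stalkCongr (.of_eq (map_π_apply a x).symm)).hom))
    (Flat.stalkMap _ _)

@[reassoc]
lemma stageStalkMap_comp (x : c.pt) {k j i : I} (b : k ⟶ j) (a : j ⟶ i) :
    stageStalkMap x a ≫ stageStalkMap x b = stageStalkMap x (b ≫ a) := by
  refine TopCat.Presheaf.stalk_hom_ext _ fun U hU => ?_
  rw [germ_stageStalkMap_assoc, germ_stageStalkMap, germ_stageStalkMap,
    Scheme.Hom.congr_app (D.map_comp b a) U, Scheme.Hom.comp_app]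
  simp

variable [IsCofiltered I] [∀ {i j : I} (a : i ⟶ j), IsAffineHom (D.map a)]

/-- Sections over the preimage of an affine open come from a stage. -/
lemma exists_section_of_isLimit (hc : IsLimit c) {i : I} (V : (D.obj i).Opens)
    (hV : IsAffineOpen V) (r : Γ(c.pt, c.π.app i ⁻¹ᵁ V)) :
    ∃ (j : I) (a : j ⟶ i) (s : Γ(D.obj j, D.map a ⁻¹ᵁ V))
      (e : c.π.app i ⁻¹ᵁ V ≤ c.π.app j ⁻¹ᵁ (D.map a ⁻¹ᵁ V)),
      (c.π.app j).appLE (D.map a ⁻¹ᵁ V) (c.π.app i ⁻¹ᵁ V) e s = r := by
  have (j : _) : IsAffine ((opensDiagram D i V).op.obj j).unop := hV.preimage _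
  have (j : _) : IsAffine ((opensDiagram D i V).obj j) := hV.preimage _
  obtain ⟨⟨j⟩, s, hs⟩ := (Types.jointly_surjective_of_isColimit (isColimitOfPreserves
    (Scheme.Γ ⋙ forget _) (isLimitOpensCone D c hc i V).op) ((c.π.app i ⁻¹ᵁ V).topIso.inv r))
  obtain ⟨s, rfl⟩ := (D.map j.hom ⁻¹ᵁ V).topIso.symm.commRingCatIsoToRingEquiv.surjective s
  have h : c.π.app j.left ⁻¹ᵁ D.map j.hom ⁻¹ᵁ V = c.π.app i ⁻¹ᵁ V := congr($(c.w j.hom) ⁻¹ᵁ V)
  refine ⟨j.left, j.hom, s, h.ge, Eq.symm ?_⟩
  convert!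
    show r = ((Scheme.Opens.topIso _).inv ≫ ((opensCone D c i V).π.app j).appTop ≫
        (Scheme.Opens.topIso _).hom) s from
      (c.π.app i ⁻¹ᵁ V).topIso.commRingCatIsoToRingEquiv.symm_apply_eq.mp hs.symm using 3
  simp [Scheme.Hom.app_eq_appLE, Scheme.Hom.resLE_appLE]

/-- Every germ on the limit comes from a stage. -/
lemma exists_stalkMap_eq (hc : IsLimit c) (x : c.pt) (z : c.pt.presheaf.stalk x) :
    ∃ (j : I) (w : (D.obj j).presheaf.stalk (c.π.app j x)), (c.π.app j).stalkMap x w = z := by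
  obtain ⟨_, hx, ⟨i, V, hV, rfl⟩, r, rfl⟩ :=
    TopCat.Presheaf.exists_mem_germ_eq_of_isBasis (isBasis_preimage_isAffineOpen D c hc) _ x z
  obtain ⟨j, a, s, e, rfl⟩ := exists_section_of_isLimit hc V hV r
  refine ⟨j, (D.obj j).presheaf.germ _ _ (e hx) s, ?_⟩
  rw [Scheme.Hom.germ_stalkMap_apply, Scheme.Hom.appLE, CommRingCat.comp_apply]
  exact (TopCat.Presheaf.germ_res_apply _ _ _ _ _).symm

/-- A germ vanishing on the limit vanishes at a stage. -/
lemma exists_stageStalkMap_eq_zero (hc : IsLimit c) (x : c.pt) {i : I}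
    (w : (D.obj i).presheaf.stalk (c.π.app i x)) (hw : (c.π.app i).stalkMap x w = 0) :
    ∃ (j : I) (a : j ⟶ i), stageStalkMap x a w = 0 := by
  obtain ⟨U, hxU, s, rfl⟩ := TopCat.Presheaf.exists_germ_eq _ w
  rw [Scheme.Hom.germ_stalkMap_apply] at hw
  obtain ⟨W, hxW, iU, iV, hW⟩ := TopCat.Presheaf.germ_eq _ x hxU
    (show x ∈ (⊤ : c.pt.Opens) from trivial) ((c.π.app i).app U s) 0 (hw.trans (map_zero _).symm)
  obtain ⟨_, ⟨_, ⟨i₁, V, hV, rfl⟩, rfl⟩, hxV, hVW⟩ :=
    (isBasis_preimage_isAffineOpen D c hc).exists_subset_of_mem_open hxW W.2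
  let k := IsCofiltered.min i i₁
  let a : k ⟶ i := IsCofiltered.minToLeft i i₁
  let b : k ⟶ i₁ := IsCofiltered.minToRight i i₁
  have hxk : c.π.app k x ∈ D.map a ⁻¹ᵁ U ⊓ D.map b ⁻¹ᵁ V :=
    ⟨show D.map a (c.π.app k x) ∈ U by rw [map_π_apply a x]; exact hxU,
      show D.map b (c.π.app k x) ∈ V by rw [map_π_apply b x]; exact hxV⟩
  obtain ⟨_, ⟨T, hT, rfl⟩, hxT, hTle⟩ :=
    (D.obj k).isBasis_affineOpens.exists_subset_of_mem_open hxk (D.map a ⁻¹ᵁ U ⊓ D.map b ⁻¹ᵁ V).2
  have hTU : T ≤ D.map a ⁻¹ᵁ U := fun y hy => (hTle hy).1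
  have hTW : c.π.app k ⁻¹ᵁ T ≤ W := fun y hy => hVW (by
    show c.π.app i₁ y ∈ V
    rw [← map_π_apply b y]
    exact (hTle hy).2)
  obtain ⟨j, d, hd⟩ := exists_app_map_eq_zero_of_isLimit D c hc hT.isCompact
    ((D.map a).appLE U T hTU s) (by
      rw [Scheme.Hom.app_eq_appLE, ← CommRingCat.comp_apply, Scheme.Hom.appLE_comp_appLE]
      have h : c.π.app k ≫ D.map a = c.π.app i := c.w a
      have h2 := congrArg (c.pt.presheaf.map (homOfLE hTW).op) hW
      rw [map_zero, map_zero] at h2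
      erw [← CommRingCat.comp_apply, ← Functor.map_comp] at h2
      simp only [h]
      exact h2)
  refine ⟨j, d ≫ a, ?_⟩
  rw [← CommRingCat.comp_apply, germ_stageStalkMap]
  have hxT' : c.π.app j x ∈ D.map d ⁻¹ᵁ T := by
    show D.map d (c.π.app j x) ∈ T
    rw [map_π_apply d x]; exact hxT
  have hle : D.map d ⁻¹ᵁ T ≤ D.map (d ≫ a) ⁻¹ᵁ U := by
    rw [D.map_comp, Scheme.Hom.comp_preimage]
    exact Scheme.Hom.preimage_mono _ hTU
  rw [CommRingCat.comp_apply, ← (D.obj j).presheaf.germ_res_apply (homOfLE hle) _ hxT']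
  have : (D.map (d ≫ a)).app U ≫ (D.obj j).presheaf.map (homOfLE hle).op =
      (D.map a).appLE U T hTU ≫ (D.map d).app T := by
    rw [← Scheme.Hom.appLE, Scheme.Hom.app_eq_appLE (f := D.map d), Scheme.Hom.appLE_comp_appLE]
    simp only [D.map_comp]
  have h3 : (D.obj j).presheaf.map (homOfLE hle).op ((D.map (d ≫ a)).app U s) =
      (D.map d).app T ((D.map a).appLE U T hTU s) := congrArg (fun m => m s) this
  rw [h3, hd, map_zero]

/-- A germ equal to another on the limit is equal to it at a stage. -/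
lemma exists_stageStalkMap_eq (hc : IsLimit c) (x : c.pt) {i : I}
    (w w' : (D.obj i).presheaf.stalk (c.π.app i x))
    (hw : (c.π.app i).stalkMap x w = (c.π.app i).stalkMap x w') :
    ∃ (j : I) (a : j ⟶ i), stageStalkMap x a w = stageStalkMap x a w' := by
  obtain ⟨j, a, h⟩ := exists_stageStalkMap_eq_zero hc x (w - w') (by
    rw [map_sub, sub_eq_zero]; exact hw)
  exact ⟨j, a, sub_eq_zero.1 ((map_sub (stageStalkMap x a).hom w w').symm.trans h)⟩

/-- Finitely many germs come from a common stage below a given one. -/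
lemma exists_stalkMap_eq_finset (hc : IsLimit c) (x : c.pt) (i : I) {ι : Type*} [Fintype ι]
    (z : ι → c.pt.presheaf.stalk x) :
    ∃ (j : I) (_ : j ⟶ i) (w : ι → (D.obj j).presheaf.stalk (c.π.app j x)),
      ∀ l, (c.π.app j).stalkMap x (w l) = z l := by
  classical
  choose k w hw using fun l => exists_stalkMap_eq hc x (z l)
  obtain ⟨j, hj⟩ := IsCofiltered.inf_objs_exists (insert i (Finset.univ.image k))
  let a : ∀ l, j ⟶ k l := fun l =>
    (hj (Finset.mem_insert_of_mem (Finset.mem_image_of_mem k (Finset.mem_univ l)))).some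
  refine ⟨j, (hj (Finset.mem_insert_self _ _)).some, fun l => stageStalkMap x (a l) (w l),
    fun l => ?_⟩
  rw [← CommRingCat.comp_apply, stageStalkMap_stalkMap]
  exact hw l

/-- Flat transition maps give flat projections. -/
theorem flat_π (hc : IsLimit c) (i : I) (hf : ∀ (j : I) (φ : j ⟶ i), Flat (D.map φ)) :
    Flat (c.π.app i) := by
  refine Flat.of_stalkMap (c.π.app i) fun x => ?_
  algebraize [((c.π.app i).stalkMap x).hom]
  show Module.Flat _ _
  rw [Module.Flat.iff_forall_isTrivialRelation]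
  intro l f y hrel
  obtain ⟨j, a, w, hw⟩ := exists_stalkMap_eq_finset hc x i y
  have h0 : (c.π.app j).stalkMap x (∑ r, stageStalkMap x a (f r) * w r) = 0 := by
    rw [map_sum, ← hrel]
    refine Finset.sum_congr rfl fun r _ => ?_
    rw [map_mul, ← CommRingCat.comp_apply, stageStalkMap_stalkMap, hw r]
    rfl
  obtain ⟨k, b, hb⟩ := exists_stageStalkMap_eq_zero hc x _ h0
  haveI := hf k (b ≫ a)
  let σ := stageStalkMap x (b ≫ a)
  have hflat : σ.hom.Flat := flat_stageStalkMap x (b ≫ a)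
  have hσ : ∀ t, stageStalkMap x b (stageStalkMap x a t) = σ t := fun t => by
    rw [← CommRingCat.comp_apply, stageStalkMap_comp]
  rw [map_sum] at hb
  simp only [map_mul, hσ] at hb
  algebraize [σ.hom]
  obtain ⟨κ, g, z, hz, hzero⟩ := Module.Flat.isTrivialRelation_of_sum_smul_eq_zero
    (R := (D.obj i).presheaf.stalk (c.π.app i x))
    (M := (D.obj k).presheaf.stalk (c.π.app k x)) (f := f)
    (x := fun r => stageStalkMap x b (w r)) hb
  refine ⟨κ, g, fun q => (c.π.app k).stalkMap x (z q), fun r => ?_, hzero⟩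
  rw [← hw r, ← stageStalkMap_stalkMap x b, CommRingCat.comp_apply,
    show stageStalkMap x b (w r) = ∑ q, g r q • z q from hz r, map_sum]
  refine Finset.sum_congr rfl fun q _ => ?_
  rw [Algebra.smul_def, Algebra.smul_def, map_mul]
  congr 1
  exact congrArg (fun m => m (g r q)) (stageStalkMap_stalkMap x (b ≫ a))

end Groth.Agent.LimH13
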