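import Groth.Agent.Lib.LimH13.ModelGlue
import Mathlib.AlgebraicGeometry.Morphisms.FinitePresentation
import Mathlib.CategoryTheory.Filtered.Final

/-!
# A morphism is a limit of morphisms between schemes of finite type over the integers
-/

universe u

open CategoryTheory Limits AlgebraicGeometry Opposite TopologicalSpace

set_option backward.isDefEq.respectTransparency false
set_option backward.isDefEq.respectTransparency.types false
set_option backward.defeqAttrib.useBackward true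

noncomputable section

namespace Groth.Agent.LimH13

theorem locallyOfFinitePresentation_of_noetherian {X Y : Scheme.{u}} (f : X ⟶ Y) [IsLocallyNoetherian Y]
    [LocallyOfFiniteType f] : LocallyOfFinitePresentation f where
  finitePresentation_appLE := fun {U} hU {V} hV e =>
    haveI := IsLocallyNoetherian.component_noetherian (X := Y) ⟨U, hU⟩
    RingHom.FinitePresentation.of_finiteType.mp (f.finiteType_appLE hU hV e)

/-- Maps out of the spectrum of a subalgebra are detected on the spectrum of the algebra. -/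
theorem hom_ext_of_injective {W Y T : Scheme.{u}} {A B : RelSpec.QCAlg W} {φ : B ⟶ A}
    (hφ : SubAlg.Inj φ) (h : W ⟶ Y) (p : T ⟶ Y) [IsAffineHom p] (u v : B.spec ⟶ T)
    (hu : u ≫ p = B.π ≫ h) (hv : v ≫ p = B.π ≫ h)
    (heq : RelSpec.QCAlg.specMap φ ≫ u = RelSpec.QCAlg.specMap φ ≫ v) : u = v := by
  have key : ∀ z : B.spec, ∃ P : W.affineOpens, z ∈ B.π ⁻¹ᵁ P.1 ∧ ∃ V : Y.affineOpens, P.1 ≤ h ⁻¹ᵁ V.1 := by
    intro z
    obtain ⟨V, hV, hzV, -⟩ := exists_isAffineOpen_mem_and_subset (x := h (B.π z)) (U := ⊤) trivial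
    obtain ⟨P, hP, hzP, hPV⟩ := exists_isAffineOpen_mem_and_subset (x := B.π z) (U := h ⁻¹ᵁ V) hzV
    exact ⟨⟨P, hP⟩, hzP, ⟨V, hV⟩, hPV⟩
  choose P hzP V hPV using key
  refine Scheme.Cover.hom_ext (B.spec.openCoverOfIsOpenCover (fun z => B.π ⁻¹ᵁ (P z).1)
    (top_le_iff.mp fun z _ => Opens.mem_iSup.mpr ⟨z, hzP z⟩)) _ _ fun z => ?_
  change (B.π ⁻¹ᵁ (P z).1).ι ≫ u = (B.π ⁻¹ᵁ (P z).1).ι ≫ v
  let ι := B.ι (P z).1 (P z).2
  suffices hι : ι ≫ u = ι ≫ v by
    have hr : Set.range (B.π ⁻¹ᵁ (P z).1).ι = Set.range ι := by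
      rw [Scheme.Opens.range_ι, B.π_preimage (P z).1 (P z).2]
      rfl
    rw [← IsOpenImmersion.isoOfRangeEq_hom_fac _ ι hr, Category.assoc, hι, Category.assoc]
  let Tv : T.Opens := p ⁻¹ᵁ (V z).1
  haveI : IsAffine Tv.toScheme := (V z).2.preimage p
  have hrange : ∀ w : B.spec ⟶ T, w ≫ p = B.π ≫ h → Set.range (ι ≫ w) ⊆ Set.range Tv.ι := by
    rintro w hw _ ⟨x, rfl⟩
    rw [Scheme.Opens.range_ι]
    change p (w (ι x)) ∈ (V z).1
    rw [← Scheme.Hom.comp_apply w p, hw, Scheme.Hom.comp_apply]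
    refine hPV z ?_
    change ι x ∈ B.π ⁻¹ᵁ (P z).1
    rw [B.π_preimage (P z).1 (P z).2]
    exact ⟨x, rfl⟩
  let lu := IsOpenImmersion.lift Tv.ι (ι ≫ u) (hrange u hu)
  let lv := IsOpenImmersion.lift Tv.ι (ι ≫ v) (hrange v hv)
  suffices hl : lu = lv by
    rw [← IsOpenImmersion.lift_fac Tv.ι (ι ≫ u) (hrange u hu),
      ← IsOpenImmersion.lift_fac Tv.ι (ι ≫ v) (hrange v hv)]
    exact congrArg (· ≫ Tv.ι) hl
  have hA : Spec.map (φ.hom.app (op (P z).1)) ≫ lu = Spec.map (φ.hom.app (op (P z).1)) ≫ lv := by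
    rw [← cancel_mono Tv.ι, Category.assoc, Category.assoc, IsOpenImmersion.lift_fac,
      IsOpenImmersion.lift_fac, ← Category.assoc, ← Category.assoc,
      ← RelSpec.QCAlg.ι_specMap (P z).1 (P z).2 φ, Category.assoc, Category.assoc, heq]
  rw [← cancel_mono Tv.toScheme.isoSpec.hom]
  obtain ⟨ψ, hψ⟩ := Spec.map_surjective (lu ≫ Tv.toScheme.isoSpec.hom)
  obtain ⟨ψ', hψ'⟩ := Spec.map_surjective (lv ≫ Tv.toScheme.isoSpec.hom)
  rw [← hψ, ← hψ']
  congr 1
  have h2 : ψ ≫ φ.hom.app (op (P z).1) = ψ' ≫ φ.hom.app (op (P z).1) := by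
    apply Spec.map_injective
    rw [Spec.map_comp, Spec.map_comp, hψ, hψ', reassoc_of% hA]
  ext x
  exact hφ (P z).1 (ConcreteCategory.congr_hom h2 x)

variable {X S : Scheme.{u}} (f : X ⟶ S)

/-- An affine morphism from `X` compatible with a model of `S`. -/
theorem exists_compatible_model [CompactSpace X] [QuasiSeparatedSpace X] {Y : Scheme.{u}}
    [CompactSpace Y] (hY : LFTZ Y) (g : S ⟶ Y) :
    ∃ (W : Scheme.{u}) (_ : CompactSpace W) (w : X ⟶ W) (h : W ⟶ Y),
      LFTZ W ∧ IsAffineHom w ∧ w ≫ h = f ≫ g := by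
  obtain ⟨Y₁, g₁, hY₁c, hY₁, hg₁⟩ := hasZModel X
  haveI := hY₁.quasiSeparatedSpace
  haveI : IsFiltered (SubAlg.Idx (RelSpec.QCAlg.directImage g₁)) := isFiltered_of_directed_le_nonempty _
  haveI : ∀ {i j} (a : i ⟶ j), IsAffineHom ((SubAlg.affDiag g₁).map a) :=
    fun a => SubAlg.isAffineHom_affDiag_map g₁ a
  let t : SubAlg.affDiag g₁ ⟶ (Functor.const _).obj (Spec (.of (ULift.{u} ℤ))) :=
    { app := fun i => specULiftZIsTerminal.from _
      naturality := fun i j a => specULiftZIsTerminal.hom_ext _ _ }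
  haveI : LocallyOfFiniteType (specULiftZIsTerminal.from Y) := hY
  haveI : IsNoetherianRing (ULift.{u} ℤ) := isNoetherianRing_of_ringEquiv ℤ ULift.ringEquiv.symm
  haveI := locallyOfFinitePresentation_of_noetherian (specULiftZIsTerminal.from Y)
  obtain ⟨k, u', hu', -⟩ := Scheme.exists_π_app_comp_eq_of_locallyOfFinitePresentation
    (SubAlg.affDiag g₁) t (specULiftZIsTerminal.from Y) (SubAlg.affCone g₁)
    (SubAlg.isLimitAffCone g₁) (f ≫ g) (by ext i; exact specULiftZIsTerminal.hom_ext _ _)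
  exact ⟨_, inferInstance, (SubAlg.affCone g₁).π.app k, u',
    @LFTZ.of_comp _ _ hY₁ k.unop.alg.π (SubAlg.locallyOfFiniteType_π k.unop.ft),
    SubAlg.isAffineHom_affCone_π g₁ k, hu'⟩

section System

variable {Y W : Scheme.{u}} (g : S ⟶ Y) [IsAffineHom g] (w : X ⟶ W) [IsAffineHom w] (h : W ⟶ Y)

/-- Compatibility of a pair of stages. -/
def Compat (i : SubAlg.Idx (RelSpec.QCAlg.directImage g))
    (k : SubAlg.Idx (RelSpec.QCAlg.directImage w)) : Prop :=
  ∃ φ : k.alg.spec ⟶ i.alg.spec, φ ≫ i.alg.π = k.alg.π ≫ h ∧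
    (SubAlg.toSpec w ≫ RelSpec.QCAlg.specMap k.incl) ≫ φ =
      f ≫ SubAlg.toSpec g ≫ RelSpec.QCAlg.specMap i.incl

/-- Compatible pairs. -/
def Pairs : Type u :=
  {p : SubAlg.Idx (RelSpec.QCAlg.directImage g) × SubAlg.Idx (RelSpec.QCAlg.directImage w) //
    Compat f g w h p.1 p.2}

instance : Preorder (Pairs f g w h) := inferInstanceAs (Preorder (Subtype _))

variable {f g w h}

/-- The morphism of a compatible pair. -/
def Pairs.hom (p : Pairs f g w h) : p.1.2.alg.spec ⟶ p.1.1.alg.spec := p.2.choose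

theorem Pairs.hom_π (p : Pairs f g w h) : p.hom ≫ p.1.1.alg.π = p.1.2.alg.π ≫ h :=
  p.2.choose_spec.1

theorem Pairs.hom_comp (p : Pairs f g w h) :
    (SubAlg.toSpec w ≫ RelSpec.QCAlg.specMap p.1.2.incl) ≫ p.hom =
      f ≫ SubAlg.toSpec g ≫ RelSpec.QCAlg.specMap p.1.1.incl :=
  p.2.choose_spec.2

theorem Pairs.hom_w {p q : Pairs f g w h} (hle : p ≤ q) :
    RelSpec.QCAlg.specMap (SubAlg.Idx.trans hle.2) ≫ p.hom =
      q.hom ≫ RelSpec.QCAlg.specMap (SubAlg.Idx.trans hle.1) := by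
  refine hom_ext_of_injective q.1.2.inj h p.1.1.alg.π _ _ ?_ ?_ ?_
  · rw [Category.assoc, p.hom_π, ← Category.assoc, RelSpec.QCAlg.specMap_π]
  · rw [Category.assoc, RelSpec.QCAlg.specMap_π, q.hom_π]
  · haveI := SubAlg.isIso_toSpec w
    rw [← cancel_epi (SubAlg.toSpec w), ← Category.assoc (RelSpec.QCAlg.specMap _) _ p.hom,
      ← SubAlg.specMap_comp, SubAlg.Idx.trans_incl, ← Category.assoc, p.hom_comp,
      ← Category.assoc (SubAlg.toSpec w), ← Category.assoc (SubAlg.toSpec w ≫ _), q.hom_comp,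
      Category.assoc, Category.assoc, ← SubAlg.specMap_comp, SubAlg.Idx.trans_incl]

variable [CompactSpace W] [CompactSpace Y] [QuasiSeparatedSpace Y] [QuasiSeparatedSpace W]
  [IsLocallyNoetherian Y]

variable (f g w h)

theorem exists_compat (hfg : w ≫ h = f ≫ g) (i : SubAlg.Idx (RelSpec.QCAlg.directImage g)) :
    ∃ k, Compat f g w h i k := by
  haveI : IsFiltered (SubAlg.Idx (RelSpec.QCAlg.directImage w)) := isFiltered_of_directed_le_nonempty _
  haveI : ∀ {i j} (a : i ⟶ j), IsAffineHom ((SubAlg.affDiag w).map a) :=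
    fun a => SubAlg.isAffineHom_affDiag_map w a
  haveI : LocallyOfFiniteType i.alg.π := SubAlg.locallyOfFiniteType_π i.ft
  haveI := locallyOfFinitePresentation_of_noetherian i.alg.π
  let t : SubAlg.affDiag w ⟶ (Functor.const _).obj Y :=
    { app := fun k => k.unop.alg.π ≫ h
      naturality := fun a b e => by
        change RelSpec.QCAlg.specMap _ ≫ b.unop.alg.π ≫ h = (a.unop.alg.π ≫ h) ≫ 𝟙 Y
        rw [← Category.assoc, RelSpec.QCAlg.specMap_π, Category.comp_id] }
  obtain ⟨k, φ, h1, h2⟩ := Scheme.exists_π_app_comp_eq_of_locallyOfFinitePresentation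
    (SubAlg.affDiag w) t i.alg.π (SubAlg.affCone w) (SubAlg.isLimitAffCone w)
    (f ≫ SubAlg.toSpec g ≫ RelSpec.QCAlg.specMap i.incl) (by
      ext k
      change (SubAlg.affCone w).π.app k ≫ k.unop.alg.π ≫ h = (_ ≫ _ ≫ _) ≫ i.alg.π
      rw [← Category.assoc, SubAlg.affCone_π, hfg, Category.assoc, Category.assoc,
        RelSpec.QCAlg.specMap_π, SubAlg.toSpec_π])
  exact ⟨k.unop, φ, h2, h1⟩

variable {f g w h}

omit [IsLocallyNoetherian Y] in
theorem compat_mono {i : SubAlg.Idx (RelSpec.QCAlg.directImage g)}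
    {k k' : SubAlg.Idx (RelSpec.QCAlg.directImage w)} (hc : Compat f g w h i k) (hle : k ≤ k') :
    Compat f g w h i k' := by
  obtain ⟨φ, h1, h2⟩ := hc
  refine ⟨RelSpec.QCAlg.specMap (SubAlg.Idx.trans hle) ≫ φ, ?_, ?_⟩
  · rw [Category.assoc, h1, ← Category.assoc, RelSpec.QCAlg.specMap_π]
  · rw [← Category.assoc, Category.assoc (SubAlg.toSpec w), ← SubAlg.specMap_comp,
      SubAlg.Idx.trans_incl, h2]

variable (hfg : w ≫ h = f ≫ g)

include hfg in
theorem exists_pair_ge (i : SubAlg.Idx (RelSpec.QCAlg.directImage g))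
    (k : SubAlg.Idx (RelSpec.QCAlg.directImage w)) :
    ∃ p : Pairs f g w h, i ≤ p.1.1 ∧ k ≤ p.1.2 := by
  obtain ⟨k₀, hk₀⟩ := exists_compat f g w h hfg i
  obtain ⟨k', h1, h2⟩ := exists_ge_ge k₀ k
  exact ⟨⟨(i, k'), compat_mono hk₀ h1⟩, le_rfl, h2⟩

include hfg in
theorem nonempty_pairs : Nonempty (Pairs f g w h) :=
  ⟨(exists_pair_ge hfg (Classical.arbitrary _) (Classical.arbitrary _)).choose⟩

include hfg in
theorem isDirected_pairs : IsDirected (Pairs f g w h) (fun a b => a ≤ b) := by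
  refine ⟨fun p q => ?_⟩
  obtain ⟨i, hi, hi'⟩ := exists_ge_ge p.1.1 q.1.1
  obtain ⟨k, hk, hk'⟩ := exists_ge_ge p.1.2 q.1.2
  obtain ⟨r, hri, hrk⟩ := exists_pair_ge hfg i k
  exact ⟨r, ⟨hi.trans hri, hk.trans hrk⟩, ⟨hi'.trans hri, hk'.trans hrk⟩⟩

theorem monotone_fst : Monotone fun p : Pairs f g w h => p.1.1 := fun _ _ hpq => hpq.1

theorem monotone_snd : Monotone fun p : Pairs f g w h => p.1.2 := fun _ _ hpq => hpq.2

/-- The system of targets. -/
def diagS : (Pairs f g w h)ᵒᵖ ⥤ Scheme.{u} :=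
  (monotone_fst (f := f) (g := g) (w := w) (h := h)).functor.op ⋙ SubAlg.affDiag g

/-- The system of sources. -/
def diagX : (Pairs f g w h)ᵒᵖ ⥤ Scheme.{u} :=
  (monotone_snd (f := f) (g := g) (w := w) (h := h)).functor.op ⋙ SubAlg.affDiag w

/-- The morphisms between the systems. -/
def diagHom : diagX (f := f) (g := g) (w := w) (h := h) ⟶ diagS where
  app p := p.unop.hom
  naturality _ _ a := Pairs.hom_w a.unop.le

/-- The cone of targets. -/
def coneS : Cone (diagS (f := f) (g := g) (w := w) (h := h)) :=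
  (SubAlg.affCone g).whisker (monotone_fst (f := f) (g := g) (w := w) (h := h)).functor.op

/-- The cone of sources. -/
def coneX : Cone (diagX (f := f) (g := g) (w := w) (h := h)) :=
  (SubAlg.affCone w).whisker (monotone_snd (f := f) (g := g) (w := w) (h := h)).functor.op

theorem cone_comp (p : (Pairs f g w h)ᵒᵖ) :
    coneX.π.app p ≫ diagHom.app p = f ≫ coneS.π.app p :=
  p.unop.hom_comp

include hfg in
theorem final_fst : (monotone_fst (f := f) (g := g) (w := w) (h := h)).functor.Final := by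
  haveI : IsDirectedOrder (Pairs f g w h) := isDirected_pairs hfg
  haveI := nonempty_pairs hfg
  exact monotone_fst.final_functor_iff.mpr fun i => by
    obtain ⟨p, hp, -⟩ := exists_pair_ge hfg i (Classical.arbitrary _)
    exact ⟨p, hp⟩

include hfg in
theorem final_snd : (monotone_snd (f := f) (g := g) (w := w) (h := h)).functor.Final := by
  haveI : IsDirectedOrder (Pairs f g w h) := isDirected_pairs hfg
  haveI := nonempty_pairs hfg
  exact monotone_snd.final_functor_iff.mpr fun k => by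
    obtain ⟨p, -, hp⟩ := exists_pair_ge hfg (Classical.arbitrary _) k
    exact ⟨p, hp⟩

/-- The targets have limit `S`. -/
def isLimitConeS : IsLimit (coneS (f := f) (g := g) (w := w) (h := h)) :=
  haveI := final_fst hfg
  (Functor.Initial.isLimitWhiskerEquiv _ _).symm (SubAlg.isLimitAffCone g)

/-- The sources have limit `X`. -/
def isLimitConeX : IsLimit (coneX (f := f) (g := g) (w := w) (h := h)) :=
  haveI := final_snd hfg
  (Functor.Initial.isLimitWhiskerEquiv _ _).symm (SubAlg.isLimitAffCone w)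

end System

end Groth.Agent.LimH13
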