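import Groth.Agent.Lib.ModM1.QCAlgGen
import Groth.Agent.Lib.TensorMod.IdealMod
import Mathlib.AlgebraicGeometry.IdealSheaf.Subscheme
import Mathlib.AlgebraicGeometry.Morphisms.ClosedImmersion
import Mathlib.AlgebraicGeometry.Morphisms.FinitePresentation
import Mathlib.CategoryTheory.Filtered.Basic

/-!
# Ideal sheaves are directed suprema of ideal sheaves of finite type
-/

universe u

open CategoryTheory Limits AlgebraicGeometry Opposite TopologicalSpace

set_option backward.isDefEq.respectTransparency false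
set_option backward.isDefEq.respectTransparency.types false
set_option linter.style.haveILetI false

noncomputable section

namespace Groth.Agent.LimH13

variable {Y : Scheme.{u}}

/-- An ideal sheaf is of finite type. -/
def IFG (J : Y.IdealSheafData) : Prop := ∀ U : Y.affineOpens, (J.ideal U).FG

theorem ifg_bot : IFG (⊥ : Y.IdealSheafData) := fun U => by
  rw [Scheme.IdealSheafData.ideal_bot]
  exact Submodule.fg_bot

theorem IFG.sup {J J' : Y.IdealSheafData} (h : IFG J) (h' : IFG J') : IFG (J ⊔ J') := fun U => by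
  rw [Scheme.IdealSheafData.ideal_sup]
  exact Submodule.FG.sup (h U) (h' U)

section Range

variable {P : Y.Modules} (ψ : P ⟶ Coh.structureModule Y)

/-- A section of the structure module as a function. -/
abbrev toFun {U : Y.Opens} (t : Γ(P, U)) : Γ(Y, U) := ψ.app U t

/-- The sections of the image over an open. -/
def rangeIdealAux (U : Y.Opens) : Ideal Γ(Y, U) where
  carrier := Set.range (toFun ψ (U := U))
  zero_mem' := ⟨0, map_zero (ψ.app U).hom⟩
  add_mem' := by
    rintro _ _ ⟨a, rfl⟩ ⟨b, rfl⟩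
    exact ⟨a + b, map_add (ψ.app U).hom a b⟩
  smul_mem' := by
    rintro c _ ⟨a, rfl⟩
    exact ⟨c • a, Scheme.Modules.Hom.app_smul ψ c a⟩

theorem toFun_res {U V : Y.Opens} (h : V ≤ U) (t : Γ(P, U)) :
    toFun ψ (M1.mres P h t) = M1.ores h (toFun ψ t) :=
  M1.map_app_eq ψ h t

theorem rangeIdealAux_map (hP : Coh.IsQCoh P) (U : Y.affineOpens) (g : Γ(Y, U.1)) :
    (rangeIdealAux ψ U.1).map (M1.ores (Y.basicOpen_le g)).hom = rangeIdealAux ψ (Y.basicOpen g) := by
  haveI := hP
  refine le_antisymm ?_ ?_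
  · rw [Ideal.map_le_iff_le_comap]
    rintro _ ⟨t, rfl⟩
    exact ⟨M1.mres P (Y.basicOpen_le g) t, toFun_res ψ _ t⟩
  · rintro _ ⟨t, rfl⟩
    obtain ⟨k, t₀, ht⟩ := M1.exists_pow_smul_eq_res_affine P U.2 g t
    have h1 := congrArg (toFun ψ (U := Y.basicOpen g)) ht
    rw [toFun_res] at h1
    have hu : IsUnit (M1.ores (Y.basicOpen_le g) g ^ k) :=
      (RingedSpace.isUnit_res_basicOpen Y.toRingedSpace g).pow k
    refine (Ideal.unit_mul_mem_iff_mem _ hu).mp ?_
    have h2 : M1.ores (Y.basicOpen_le g) g ^ k * toFun ψ t =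
        toFun ψ (M1.ores (Y.basicOpen_le g) g ^ k • t) :=
      (Scheme.Modules.Hom.app_smul ψ (M1.ores (Y.basicOpen_le g) g ^ k) t).symm
    rw [h2]
    have h3 : M1.ores (Y.basicOpen_le g) (toFun ψ t₀) ∈
        (rangeIdealAux ψ U.1).map (M1.ores (Y.basicOpen_le g)).hom :=
      Ideal.mem_map_of_mem _ ⟨t₀, rfl⟩
    rw [h1] at h3
    exact h3

/-- The image ideal sheaf. -/
def rangeIdeal (hP : Coh.IsQCoh P) : Y.IdealSheafData where
  ideal U := rangeIdealAux ψ U.1
  map_ideal_basicOpen U g := rangeIdealAux_map ψ hP U g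

theorem ifg_rangeIdeal (hP : Coh.IsQCoh P) (hP' : CohB1.IsFT P) : IFG (rangeIdeal ψ hP) := fun U => by
  classical
  haveI := M1.finite_sections hP hP' U.2
  obtain ⟨s, hs⟩ := Module.Finite.fg_top (R := Γ(Y, U.1)) (M := Γ(P, U.1))
  refine ⟨s.image (toFun ψ), le_antisymm (Submodule.span_le.mpr ?_) ?_⟩
  · intro x hx
    obtain ⟨t, -, rfl⟩ := Finset.mem_image.mp hx
    exact ⟨t, rfl⟩
  · rintro _ ⟨t, rfl⟩
    have ht : t ∈ Submodule.span Γ(Y, U.1) (s : Set Γ(P, U.1)) := hs ▸ Submodule.mem_top
    induction ht using Submodule.span_induction with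
    | mem x hx => exact Submodule.subset_span (Finset.mem_image_of_mem _ hx)
    | zero =>
      rw [show toFun ψ (0 : Γ(P, U.1)) = 0 from map_zero (ψ.app U.1).hom]
      exact zero_mem _
    | add a b _ _ ha hb =>
      rw [show toFun ψ (a + b) = toFun ψ a + toFun ψ b from map_add (ψ.app U.1).hom a b]
      exact add_mem ha hb
    | smul r a _ ha =>
      rw [show toFun ψ (r • a) = r • toFun ψ a from Scheme.Modules.Hom.app_smul ψ r a]
      exact Submodule.smul_mem _ r ha

end Range

variable [CompactSpace Y] [QuasiSeparatedSpace Y]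

/-- A finite type ideal sheaf inside a given one through a given section. -/
theorem exists_ifg_through (J : Y.IdealSheafData) (U : Y.affineOpens) (s : Γ(Y, U.1))
    (hs : s ∈ J.ideal U) :
    ∃ J' : Y.IdealSheafData, IFG J' ∧ J' ≤ J ∧ s ∈ J'.ideal U := by
  obtain ⟨a, ha⟩ : s ∈ Set.range (M2.idealIncl J (U := U.1)) := by
    rw [M2.range_idealIncl J U]
    exact hs
  obtain ⟨q, hq, hq', b, hb⟩ := M1.Sub.exists_through_section (M2.isQCoh_idealMod J) U a
  refine ⟨rangeIdeal (q.i ≫ ClSub.idealModι J) hq, ifg_rangeIdeal _ hq hq', ?_, ⟨b, ?_⟩⟩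
  · intro V
    rintro _ ⟨t, rfl⟩
    exact (M2.range_idealIncl J V).le ⟨q.i.app V.1 t, rfl⟩
  · rw [← ha, ← hb]
    rfl

/-- Every ideal sheaf is the supremum of the finite type ideal sheaves inside it. -/
theorem le_of_forall_ifg {J K : Y.IdealSheafData} (h : ∀ J', IFG J' → J' ≤ J → J' ≤ K) : J ≤ K := by
  intro U s hs
  obtain ⟨J', h1, h2, h3⟩ := exists_ifg_through J U s hs
  exact h J' h1 h2 U h3

/-- The finite type ideal sheaves inside a given one. -/
def FGIdx (J : Y.IdealSheafData) : Type u := {J' : Y.IdealSheafData // IFG J' ∧ J' ≤ J}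

instance (J : Y.IdealSheafData) : Preorder (FGIdx J) := inferInstanceAs (Preorder (Subtype _))

instance (J : Y.IdealSheafData) : Nonempty (FGIdx J) := ⟨⟨⊥, ifg_bot, bot_le⟩⟩

omit [CompactSpace Y] [QuasiSeparatedSpace Y] in
theorem isDirected_fgIdx (J : Y.IdealSheafData) : IsDirected (FGIdx J) (fun a b => a ≤ b) :=
  ⟨fun a b => ⟨⟨a.1 ⊔ b.1, a.2.1.sup b.2.1, sup_le a.2.2 b.2.2⟩, Subtype.coe_le_coe.mp le_sup_left,
    Subtype.coe_le_coe.mp le_sup_right⟩⟩

omit [CompactSpace Y] [QuasiSeparatedSpace Y] in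
theorem locallyOfFinitePresentation_subschemeι {J : Y.IdealSheafData} (hJ : IFG J) :
    LocallyOfFinitePresentation J.subschemeι := by
  refine IsZariskiLocalAtSource.of_openCover J.subschemeCover.openCover fun U => ?_
  change LocallyOfFinitePresentation (J.subschemeCover.f U ≫ J.subschemeι)
  rw [Scheme.IdealSheafData.subschemeCover_map_subschemeι]
  haveI : LocallyOfFinitePresentation (Spec.map (CommRingCat.ofHom (Ideal.Quotient.mk (J.ideal U)))) := by
    rw [LocallyOfFinitePresentation.SpecMap_iff]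
    refine RingHom.FinitePresentation.of_surjective _ Ideal.Quotient.mk_surjective ?_
    simpa using hJ U
  delta Scheme.IdealSheafData.glueDataObjι
  infer_instance

/-- The system of finitely presented closed subschemes containing a given one. -/
def fgDiag (J : Y.IdealSheafData) : (FGIdx J)ᵒᵖ ⥤ Over Y :=
  (Monotone.functor (f := fun a : FGIdx J => a.1) fun _ _ h => h).op ⋙
    Scheme.IdealSheafData.subschemeFunctor Y

variable {X : Scheme.{u}} (ι : X ⟶ Y) [IsClosedImmersion ι]

/-- The cone from a closed subscheme. -/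
def fgCone : Cone (fgDiag ι.ker) where
  pt := Over.mk ι
  π :=
    { app := fun a => Over.homMk (IsClosedImmersion.lift a.unop.1.subschemeι ι (by
          rw [Scheme.IdealSheafData.ker_subschemeι]
          exact a.unop.2.2)) (IsClosedImmersion.lift_fac _ _ _)
      naturality := fun a b h => by
        refine Over.OverMorphism.ext ((cancel_mono b.unop.1.subschemeι).mp ?_)
        simp only [Over.comp_left, Over.homMk_left, Category.assoc]
        change 𝟙 _ ≫ _ = IsClosedImmersion.lift a.unop.1.subschemeι ι _ ≫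
          Scheme.IdealSheafData.inclusion h.unop.le ≫ b.unop.1.subschemeι
        rw [Category.id_comp, IsClosedImmersion.lift_fac, Scheme.IdealSheafData.inclusion_subschemeι,
          IsClosedImmersion.lift_fac] }

omit [IsClosedImmersion ι] [CompactSpace Y] [QuasiSeparatedSpace Y] in
theorem isClosedImmersion_lift {T Z : Scheme.{u}} (g : T ⟶ Y) (i : Z ⟶ Y) [IsClosedImmersion g]
    [IsClosedImmersion i] (H : i.ker ≤ g.ker) : IsClosedImmersion (IsClosedImmersion.lift i g H) := by
  haveI : IsClosedImmersion (IsClosedImmersion.lift i g H ≫ i) := by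
    rw [IsClosedImmersion.lift_fac]
    infer_instance
  exact IsClosedImmersion.of_comp _ i

theorem isClosedImmersion_fgCone_π (a : (FGIdx ι.ker)ᵒᵖ) :
    IsClosedImmersion ((fgCone ι).π.app a).left :=
  isClosedImmersion_lift ι _ _

theorem ker_le_of_cone (s : Cone (fgDiag ι.ker)) : ι.ker ≤ s.pt.hom.ker := by
  refine le_of_forall_ifg fun J' h1 h2 => ?_
  let a : (FGIdx ι.ker)ᵒᵖ := op ⟨J', h1, h2⟩
  have hw : (s.π.app a).left ≫ J'.subschemeι = s.pt.hom := Over.w (s.π.app a)
  calc J' = J'.subschemeι.ker := (Scheme.IdealSheafData.ker_subschemeι J').symm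
    _ ≤ _ := Scheme.Hom.le_ker_comp (s.π.app a).left J'.subschemeι
    _ = s.pt.hom.ker := by rw [hw]

/-- A closed subscheme is the limit of the finitely presented closed subschemes containing it. -/
def isLimitFGCone : IsLimit (fgCone ι) where
  lift s := Over.homMk (IsClosedImmersion.lift ι s.pt.hom (ker_le_of_cone ι s))
    (IsClosedImmersion.lift_fac _ _ _)
  fac s a := by
    refine Over.OverMorphism.ext ((cancel_mono a.unop.1.subschemeι).mp ?_)
    simp only [fgCone, Over.comp_left, Over.homMk_left, Category.assoc, IsClosedImmersion.lift_fac]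
    exact (Over.w (s.π.app a)).symm
  uniq s m _ := by
    refine Over.OverMorphism.ext ((cancel_mono ι).mp ?_)
    simp only [Over.homMk_left, IsClosedImmersion.lift_fac]
    exact Over.w m

theorem fgDiag_props (J : Y.IdealSheafData) (a : (FGIdx J)ᵒᵖ) :
    IsClosedImmersion ((fgDiag J).obj a).hom ∧ LocallyOfFinitePresentation ((fgDiag J).obj a).hom :=
  ⟨inferInstanceAs (IsClosedImmersion a.unop.1.subschemeι),
    locallyOfFinitePresentation_subschemeι a.unop.2.1⟩

omit [CompactSpace Y] [QuasiSeparatedSpace Y] in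
theorem isClosedImmersion_fgDiag_map (J : Y.IdealSheafData) {a b : (FGIdx J)ᵒᵖ} (h : a ⟶ b) :
    IsClosedImmersion ((fgDiag J).map h).left :=
  inferInstanceAs (IsClosedImmersion (Scheme.IdealSheafData.inclusion h.unop.le))

end Groth.Agent.LimH13
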