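import Groth.Agent.Lib.LimH13.IdealSys
import Mathlib.AlgebraicGeometry.IdealSheaf.Functorial

/-!
# Kernels of finitely presented closed immersions
-/

universe u

open CategoryTheory Limits AlgebraicGeometry Opposite TopologicalSpace

set_option backward.isDefEq.respectTransparency false
set_option backward.isDefEq.respectTransparency.types false
set_option linter.style.haveILetI false

namespace Groth.Agent.LimH13

theorem ker_fg_of_surjective {A B : Type u} [CommRing A] [CommRing B] (φ : A →+* B)
    (hs : Function.Surjective φ) (hf : φ.FinitePresentation) : (RingHom.ker φ).FG := by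
  letI := φ.toAlgebra
  haveI : Algebra.FinitePresentation A B := hf
  have h := Algebra.FinitePresentation.ker_fG_of_surjective (Algebra.ofId A B) hs
  exact h

theorem ifg_ker {X Y : Scheme.{u}} (f : X ⟶ Y) [IsClosedImmersion f] [LocallyOfFinitePresentation f] :
    IFG f.ker := fun U => by
  rw [Scheme.Hom.ker_apply]
  have h1 := LocallyOfFinitePresentation.finitePresentation_appLE (f := f) U.2 (U.2.preimage f) le_rfl
  rw [← Scheme.Hom.app_eq_appLE] at h1
  exact ker_fg_of_surjective _ (f.app_surjective U U.2) h1

theorem ker_eq_of_isPullback {Z Z' X Y : Scheme.{u}} {g : Z ⟶ X} {p : Z ⟶ Z'} {q : X ⟶ Y} {i : Z' ⟶ Y}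
    [IsClosedImmersion i] (h : IsPullback g p q i) : i.ker.comap q = g.ker := by
  haveI : IsClosedImmersion g := MorphismProperty.of_isPullback h.flip inferInstance
  rw [← Scheme.IdealSheafData.ker_fst_of_isClosedImmersion i q, ← h.isoPullback_inv_fst,
    Scheme.Hom.ker_comp_of_isIso]

end Groth.Agent.LimH13
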