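import Mathlib.AlgebraicGeometry.AffineTransitionLimit
import Mathlib.AlgebraicGeometry.Stalk
import Mathlib.CategoryTheory.Filtered.Final
import Mathlib.CategoryTheory.Limits.Preserves.Opposites
import Mathlib.Topology.Category.TopCat.OpenNhds

/-!
# The spectrum of a local ring is the limit of the affine neighbourhoods of the point
-/

universe u

open CategoryTheory Limits AlgebraicGeometry Opposite TopologicalSpace

set_option backward.isDefEq.respectTransparency false
set_option backward.isDefEq.respectTransparency.types false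
set_option linter.style.haveILetI false

noncomputable section

namespace Groth.Agent.LimH13.Nhd

variable {S : Scheme.{u}} (s : S) (V : S.affineOpens)

/-- Basic opens of `V` around `s`. -/
def Idx : Type u := {h : Γ(S, V.1) // s ∈ S.basicOpen h}

instance : Preorder (Idx s V) := Preorder.lift fun h => OrderDual.toDual (S.basicOpen h.1)

theorem le_iff {h h' : Idx s V} : h ≤ h' ↔ S.basicOpen h'.1 ≤ S.basicOpen h.1 := Iff.rfl

theorem isDirected : IsDirected (Idx s V) (fun a b => a ≤ b) :=
  ⟨fun a b => ⟨⟨a.1 * b.1, by rw [Scheme.basicOpen_mul]; exact ⟨a.2, b.2⟩⟩,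
    (le_iff s V).2 ((Scheme.basicOpen_mul _ _ _).trans_le inf_le_left),
    (le_iff s V).2 ((Scheme.basicOpen_mul _ _ _).trans_le inf_le_right)⟩⟩

/-- As open neighbourhoods. -/
def toNhds : Idx s V ⥤ (OpenNhds s)ᵒᵖ where
  obj h := op ⟨S.basicOpen h.1, h.2⟩
  map {h h'} a := (homOfLE ((le_iff s V).1 a.le)).op

theorem final_toNhds (hs : s ∈ V.1) : (toNhds s V).Final := by
  haveI := isDirected s V
  haveI : Nonempty (Idx s V) := ⟨⟨1, by rw [Scheme.basicOpen_of_isUnit _ isUnit_one]; exact hs⟩⟩
  haveI : IsFiltered (Idx s V) := isFiltered_of_directed_le_nonempty _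
  refine Functor.final_of_exists_of_isFiltered (toNhds s V) (fun U => ?_) fun {U h} a b =>
    ⟨h, 𝟙 h, Subsingleton.elim _ _⟩
  obtain ⟨r, hr, hsr⟩ := V.2.exists_basicOpen_le (V := U.unop.1) ⟨s, U.unop.2⟩ hs
  exact ⟨⟨r, hsr⟩, ⟨(homOfLE (show (⟨S.basicOpen r, hsr⟩ : OpenNhds s) ≤ U.unop from hr)).op⟩⟩

/-- The system of neighbourhoods. -/
def diag : (Idx s V)ᵒᵖ ⥤ Scheme.{u} where
  obj h := (S.basicOpen h.unop.1 : S.Opens)
  map {h h'} a := S.homOfLE ((le_iff s V).1 a.unop.le)
  map_id h := by simp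
  map_comp {h h' h''} a b := by simp

/-- The cone at the local ring. -/
def cone : Cone (diag s V) where
  pt := Spec (S.presheaf.stalk s)
  π :=
    { app := fun h => (S.basicOpen h.unop.1).fromSpecStalkOfMem s h.unop.2
      naturality := fun h h' a => by
        change 𝟙 _ ≫ _ = _ ≫ S.homOfLE ((le_iff s V).1 a.unop.le)
        rw [← cancel_mono (S.basicOpen h'.unop.1).ι]
        simp }

theorem isAffineHom_map {h h' : (Idx s V)ᵒᵖ} (a : h ⟶ h') : IsAffineHom ((diag s V).map a) := by
  haveI : IsAffine (S.basicOpen h.unop.1).toScheme := V.2.basicOpen _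
  haveI : IsAffine (S.basicOpen h'.unop.1).toScheme := V.2.basicOpen _
  exact inferInstanceAs (IsAffineHom (S.homOfLE ((le_iff s V).1 a.unop.le)))

/-- The ring diagram. -/
def ringDiag : Idx s V ⥤ CommRingCat.{u} :=
  toNhds s V ⋙ (OpenNhds.inclusion s).op ⋙ S.presheaf

/-- The germs. -/
def ringCocone : Cocone (ringDiag s V) :=
  (colimit.cocone ((OpenNhds.inclusion s).op ⋙ S.presheaf)).whisker (toNhds s V)

/-- The comparison with spectra. -/
def diagIso : (ringDiag s V).op ⋙ Scheme.Spec ≅ diag s V :=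
  NatIso.ofComponents (fun h => (V.2.basicOpen h.unop.1).isoSpec.symm) fun {h h'} a => by
    rw [← cancel_mono (S.basicOpen h'.unop.1).ι]
    simp only [Category.assoc, Iso.symm_hom, IsAffineOpen.isoSpec_inv_ι]
    change Spec.map (S.presheaf.map _) ≫ _ = (V.2.basicOpen h.unop.1).isoSpec.inv ≫ S.homOfLE ((le_iff s V).1 a.unop.le) ≫ _
    rw [Scheme.homOfLE_ι, IsAffineOpen.isoSpec_inv_ι]
    exact (V.2.basicOpen h'.unop.1).map_fromSpec (V.2.basicOpen h.unop.1) _

/-- The local ring is the limit. -/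
def isLimit (hs : s ∈ V.1) : IsLimit (cone s V) :=
  haveI := final_toNhds s V hs
  haveI : IsColimit (ringCocone s V) :=
    (Functor.Final.isColimitWhiskerEquiv (toNhds s V) _).symm (colimit.isColimit _)
  let L := isLimitOfPreserves Scheme.Spec this.op
  ((IsLimit.postcomposeHomEquiv (diagIso s V) _).symm L).ofIsoLimit
    (Cone.ext (Iso.refl _) fun h => by
      dsimp [diagIso, cone, ringCocone]
      rw [Category.id_comp, ← cancel_mono (S.basicOpen h.unop.1).ι, Category.assoc,
        IsAffineOpen.isoSpec_inv_ι, Scheme.Opens.fromSpecStalkOfMem_ι]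
      exact (V.2.basicOpen h.unop.1).fromSpecStalk_eq_fromSpecStalk h.unop.2)

end Groth.Agent.LimH13.Nhd
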