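import Groth.Agent.Lib.LimH13.Exists
import Mathlib.AlgebraicGeometry.Morphisms.FinitePresentation
import Mathlib.AlgebraicGeometry.ResidueField

/-!
# The underlying space of a limit of schemes with affine transition maps
-/

universe u

set_option backward.isDefEq.respectTransparency false
set_option backward.defeqAttrib.useBackward true
set_option linter.style.haveILetI false

open CategoryTheory CategoryTheory.Limits AlgebraicGeometry Topology

namespace Groth.Agent.LimH13

open Groth.Agent.Descend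

variable {I : Type u} [SmallCategory I] [IsCofiltered I] {D : I ⥤ Scheme.{u}} {c : Cone D}
  [∀ {i j : I} (a : i ⟶ j), IsAffineHom (D.map a)]

/-- Points of the limit are determined by their images. -/
lemma limit_point_ext (hc : IsLimit c) {x y : c.pt}
    (h : ∀ i, c.π.app i x = c.π.app i y) : x = y := by
  refine Inseparable.eq (inseparable_iff_forall_isOpen.2 fun s hs => ?_)
  constructor
  · intro hx
    obtain ⟨_, ⟨_, ⟨i, V, -, rfl⟩, rfl⟩, hxV, hle⟩ :=
      (isBasis_preimage_isAffineOpen D c hc).exists_subset_of_mem_open hx hs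
    exact hle (show c.π.app i y ∈ V by rw [← h i]; exact hxV)
  · intro hy
    obtain ⟨_, ⟨_, ⟨i, V, -, rfl⟩, rfl⟩, hyV, hle⟩ :=
      (isBasis_preimage_isAffineOpen D c hc).exists_subset_of_mem_open hy hs
    exact hle (show c.π.app i x ∈ V by rw [h i]; exact hyV)

section Point

variable (D) (x : ∀ i, D.obj i) (hx : ∀ {i j : I} (a : i ⟶ j), D.map a (x i) = x j)

/-- The residue fields of a compatible family of points, as a system. -/
noncomputable def pointDiagram : I ⥤ Scheme.{u} where
  obj i := Spec ((D.obj i).residueField (x i))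
  map {i j} a := Spec.map (((D.obj j).residueFieldCongr (hx a).symm).hom ≫
    (D.map a).residueFieldMap (x i))
  map_id i := by
    rw [← cancel_mono ((D.obj i).fromSpecResidueField (x i))]
    simp
  map_comp {i j k} a b := by
    rw [← cancel_mono ((D.obj k).fromSpecResidueField (x k))]
    simp

/-- The map of the system of residue fields to the system. -/
noncomputable def pointNat : pointDiagram D x hx ⟶ D where
  app i := (D.obj i).fromSpecResidueField (x i)
  naturality i j a := by simp [pointDiagram]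

end Point

/-- A compatible family of points comes from a point of the limit. -/
lemma exists_limit_point (hc : IsLimit c) (x : ∀ i, D.obj i)
    (hx : ∀ {i j : I} (a : i ⟶ j), D.map a (x i) = x j) :
    ∃ z : c.pt, ∀ i, c.π.app i z = x i := by
  haveI : ∀ i, IsAffine ((pointDiagram D x hx).obj i) := fun i =>
    inferInstanceAs (IsAffine (Spec _))
  haveI : ∀ i, CompactSpace ((pointDiagram D x hx).obj i) := fun i => inferInstance
  haveI : ∀ i, Nonempty ((pointDiagram D x hx).obj i) := fun i =>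
    inferInstanceAs (Nonempty (Spec ((D.obj i).residueField (x i))))
  haveI : ∀ {i j : I} (a : i ⟶ j), IsAffineHom ((pointDiagram D x hx).map a) := fun a =>
    inferInstance
  haveI := hasLimit_of_isAffine (pointDiagram D x hx)
  obtain ⟨p⟩ := Scheme.nonempty_of_isLimit _ _ (limit.isLimit (pointDiagram D x hx))
  let u := hc.lift ((Cone.postcompose (pointNat D x hx)).obj (limit.cone (pointDiagram D x hx)))
  refine ⟨u p, fun i => ?_⟩
  have h : u ≫ c.π.app i =
      limit.π (pointDiagram D x hx) i ≫ (D.obj i).fromSpecResidueField (x i) :=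
    hc.fac ((Cone.postcompose (pointNat D x hx)).obj (limit.cone (pointDiagram D x hx))) i
  have h2 : c.π.app i (u p) =
      (D.obj i).fromSpecResidueField (x i) (limit.π (pointDiagram D x hx) i p) := by
    exact congrArg (fun m => m p) h
  exact h2.trans (Scheme.fromSpecResidueField_apply (x i) (limit.π (pointDiagram D x hx) i p))

/-- The underlying space of the limit is the limit of the underlying spaces. -/
noncomputable def isLimitForgetToTop (hc : IsLimit c) :
    IsLimit (Scheme.forgetToTop.mapCone c) := by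
  have H : ∀ (s : Cone (D ⋙ Scheme.forgetToTop)) (z : s.pt),
      ∃ p : c.pt, ∀ i, c.π.app i p = s.π.app i z := fun s z =>
    exists_limit_point hc (fun i => s.π.app i z) fun {i j} a => by
      have h := congrArg (fun m => m z) (s.w a)
      exact h
  choose φ hφ using H
  have hcont : ∀ s, Continuous (φ s) := fun s => by
    rw [(isBasis_preimage_isAffineOpen D c hc).continuous_iff]
    rintro _ ⟨_, ⟨i, V, -, rfl⟩, rfl⟩
    have : φ s ⁻¹' (((c.π.app i) ⁻¹ᵁ V : c.pt.Opens) : Set c.pt) =
        s.π.app i ⁻¹' (V : Set (D.obj i)) := by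
      ext z
      show c.π.app i (φ s z) ∈ V ↔ s.π.app i z ∈ V
      rw [hφ s z i]
    rw [this]
    exact V.2.preimage (s.π.app i).hom.continuous
  refine
    { lift := fun s => TopCat.ofHom ⟨φ s, hcont s⟩
      fac := fun s i => ?_
      uniq := fun s m hm => ?_ }
  · ext z
    exact hφ s z i
  · ext z
    refine limit_point_ext hc fun i => ?_
    exact (congrArg (fun g => g z) (hm i)).trans (hφ s z i).symm

/-- The image of a projection is the intersection of the images of the transition maps. -/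
theorem range_π_eq (hc : IsLimit c) (i : I) :
    Set.range (c.π.app i) = ⋂ (j : I) (φ : j ⟶ i), Set.range (D.map φ) := by
  refine subset_antisymm (Set.subset_iInter₂ fun j φ => ?_) fun y hy => ?_
  · rintro _ ⟨z, rfl⟩
    exact ⟨c.π.app j z, congrArg (fun m => m z) (c.w φ)⟩
  let F := Over.forget i
  let c' : Cone (F ⋙ D) := c.whisker F
  have hc' : IsLimit c' := (Functor.Initial.isLimitWhiskerEquiv F c).symm hc
  let f := (D.obj i).fromSpecResidueField y
  let q : c'.pt ⟶ D.obj i := c.π.app i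
  have hlim := pbIsLimit (F ⋙ D) (overT D i) f c' (q := q) (fun k => c.w k.hom)
    (IsPullback.of_hasPullback f q) hc'
  haveI : ∀ k, IsAffineHom ((overT D i).app k) := fun k =>
    ‹∀ {i j : I} (a : i ⟶ j), IsAffineHom (D.map a)› k.hom
  haveI : ∀ k, CompactSpace ((pbDiagram (F ⋙ D) (overT D i) f).obj k) := fun k => inferInstance
  haveI : ∀ k, Nonempty ((pbDiagram (F ⋙ D) (overT D i) f).obj k) := fun k => by
    obtain ⟨x, hx⟩ := Set.mem_iInter₂.1 hy k.left k.hom
    obtain ⟨z, -, -⟩ := Scheme.Pullback.exists_preimage_pullback (f := f)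
      (g := (overT D i).app k) (Classical.arbitrary (Spec ((D.obj i).residueField y))) x
      (by rw [Scheme.fromSpecResidueField_apply]; exact hx.symm)
    exact ⟨z⟩
  obtain ⟨p⟩ := Scheme.nonempty_of_isLimit _ _ hlim
  refine ⟨pullback.snd f q p, ?_⟩
  have h : pullback.snd f q ≫ q = pullback.fst f q ≫ f := pullback.condition.symm
  have h2 : q (pullback.snd f q p) = f (pullback.fst f q p) := by
    rw [← Scheme.Hom.comp_apply, ← Scheme.Hom.comp_apply, h]
  exact h2.trans (by simp only [f, Scheme.fromSpecResidueField_apply])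

/-- A projection is surjective iff all transition maps to the stage are. -/
theorem surjective_π_iff (hc : IsLimit c) (i : I) :
    Surjective (c.π.app i) ↔ ∀ (j : I) (φ : j ⟶ i), Surjective (D.map φ) := by
  simp only [surjective_iff, ← Set.range_eq_univ]
  rw [range_π_eq hc i]
  simp only [Set.iInter_eq_univ]

/-- A projection is dominant iff all transition maps to the stage are. -/
theorem isDominant_π_iff (hc : IsLimit c) (i : I) :
    IsDominant (c.π.app i) ↔ ∀ (j : I) (φ : j ⟶ i), IsDominant (D.map φ) := by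
  constructor
  · intro h j φ
    rw [← c.w φ] at h
    exact IsDominant.of_comp (c.π.app j) (D.map φ)
  · intro h
    refine ⟨dense_iff_inter_open.2 fun U hU hUne => ?_⟩
    obtain ⟨y, hy⟩ := hUne
    obtain ⟨_, ⟨V, hV, rfl⟩, hyV, hVU⟩ :=
      (D.obj i).isBasis_affineOpens.exists_subset_of_mem_open hy hU
    have hlim := isLimitOpensCone D c hc i V
    haveI : ∀ k : Over i, IsAffine ((opensDiagram D i V).obj k) := fun k => hV.preimage _
    haveI : ∀ k : Over i, Nonempty ((opensDiagram D i V).obj k) := fun k => by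
      obtain ⟨_, hz, x, rfl⟩ := dense_iff_inter_open.1 (h k.left k.hom).1 V V.2 ⟨y, hyV⟩
      exact ⟨⟨x, hz⟩⟩
    obtain ⟨p⟩ := Scheme.nonempty_of_isLimit _ _ hlim
    exact ⟨c.π.app i p.1, hVU p.2, p.1, rfl⟩

/-- Projections are open when the transition maps are open and all projections surjective. -/
theorem isOpenMap_π_iff (hc : IsLimit c) (i : I)
    (hs : ∀ (j : I) (_ : j ⟶ i), Surjective (c.π.app j)) :
    IsOpenMap (c.π.app i) ↔ ∀ (j : I) (φ : j ⟶ i), IsOpenMap (D.map φ) := by
  constructor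
  · intro h j φ U hU
    have : D.map φ '' U = c.π.app i '' (c.π.app j ⁻¹' U) := by
      conv_lhs => rw [← Set.image_preimage_eq U (hs j φ).surj]
      rw [← c.w φ, ← Set.image_comp]
      congr 1
    rw [this]
    exact h _ (hU.preimage (c.π.app j).continuous)
  · intro h
    rw [(isBasis_preimage_isAffineOpen D c hc).isOpenMap_iff]
    rintro _ ⟨_, ⟨j, V, -, rfl⟩, rfl⟩
    let k := IsCofiltered.min i j
    let a : k ⟶ i := IsCofiltered.minToLeft i j
    let b : k ⟶ j := IsCofiltered.minToRight i j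
    have : c.π.app i '' ((c.π.app j ⁻¹ᵁ V : c.pt.Opens) : Set c.pt) =
        D.map a '' ((D.map b ⁻¹ᵁ V : (D.obj k).Opens) : Set (D.obj k)) := by
      rw [← c.w b, ← c.w a, Scheme.Hom.comp_preimage]
      ext z
      simp only [Set.mem_image, Scheme.Hom.comp_apply, SetLike.mem_coe]
      constructor
      · rintro ⟨p, hp, rfl⟩; exact ⟨_, hp, rfl⟩
      · rintro ⟨w, hw, rfl⟩
        obtain ⟨p, rfl⟩ := (hs k a).surj w
        exact ⟨p, hw, rfl⟩
    rw [this]
    exact h k a _ (D.map b ⁻¹ᵁ V).2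

/-- A compact open minus an open, meeting a constructible set nowhere in the limit. -/
theorem exists_inter_preimage_eq_empty (hc : IsLimit c) {i : I} [CompactSpace (D.obj i)]
    (U V : (D.obj i).Opens) (hU : IsCompact (U : Set (D.obj i))) (C : Set (D.obj i))
    (hC : Topology.IsConstructible C)
    (h : c.π.app i ⁻¹' (((U : Set (D.obj i)) \ V) ∩ C) = ∅) :
    ∃ (j : I) (a : j ⟶ i), D.map a ⁻¹' (((U : Set (D.obj i)) \ V) ∩ C) = ∅ := by
  obtain ⟨s, hs⟩ := (BooleanSubalgebra.mem_closure_iff_sup_sdiff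
    (s := {U : Set (D.obj i) | IsOpen U ∧ IsRetrocompact U})
    ⟨fun _ h _ h' => ⟨h.1.union h'.1, h.2.union h'.2⟩,
     fun _ h _ h' => ⟨h.1.inter h'.1, h.2.inter_isOpen h'.2 h'.1⟩⟩
    ⟨isOpen_empty, IsRetrocompact.empty⟩ ⟨isOpen_univ, IsRetrocompact.univ⟩).1 hC
  have key : ∀ x : s, ∃ (j : I) (a : j ⟶ i),
      D.map a ⁻¹' (((U : Set (D.obj i)) \ V) ∩ (x.1.1.1 \ x.1.2.1)) = ∅ := by
    intro x
    have hsub : x.1.1.1 \ x.1.2.1 ⊆ C := by
      rw [hs]
      exact Finset.le_sup (f := fun y => y.1.1 \ y.2.1) x.2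
    let U' : (D.obj i).Opens := ⟨x.1.1.1 ∩ U, x.1.1.2.1.inter U.2⟩
    let V' : (D.obj i).Opens := ⟨x.1.2.1 ∪ V, x.1.2.2.1.union V.2⟩
    obtain ⟨j, a, hj⟩ := AlgebraicGeometry.exists_map_preimage_le_map_preimage D c hc (U := U')
      (V := V') (x.1.1.2.2 hU U.2) (by
        intro z hz
        by_contra hz'
        refine Set.eq_empty_iff_forall_notMem.1 h z ⟨⟨hz.2, fun hv => hz' (Or.inr hv)⟩, ?_⟩
        exact hsub ⟨hz.1, fun hv => hz' (Or.inl hv)⟩)
    refine ⟨j, a, Set.eq_empty_iff_forall_notMem.2 fun z hz => ?_⟩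
    rcases hj (show z ∈ D.map a ⁻¹ᵁ U' from ⟨hz.2.1, hz.1.1⟩) with h1 | h1
    · exact hz.2.2 h1
    · exact hz.1.2 h1
  choose j a hja using key
  classical
  obtain ⟨k, b, e, he⟩ := IsCofiltered.wideCospan a
  refine ⟨k, b, Set.eq_empty_iff_forall_notMem.2 fun z hz => ?_⟩
  have hz2 := hz.2
  rw [hs, Finset.sup_set_eq_biUnion] at hz2
  simp only [Set.mem_iUnion] at hz2
  obtain ⟨x, hx, hzx⟩ := hz2
  refine Set.eq_empty_iff_forall_notMem.1 (hja ⟨x, hx⟩) (D.map (e ⟨x, hx⟩) z) ?_
  rw [Set.mem_preimage, ← Scheme.Hom.comp_apply, ← D.map_comp, he]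
  exact ⟨hz.1, hzx⟩

/-- Constructible sets with the same preimage in the limit agree at a stage. -/
theorem exists_preimage_eq_of_isConstructible (hc : IsLimit c) {i : I} [CompactSpace (D.obj i)]
    (Z : Set (D.obj i)) (hZ : Topology.IsConstructible Z) (U W : (D.obj i).Opens)
    (hU : IsCompact (U : Set (D.obj i))) (hW : IsCompact (W : Set (D.obj i)))
    (h : c.π.app i ⁻¹' Z = c.π.app i ⁻¹' ((U : Set (D.obj i)) \ W)) :
    ∃ (j : I) (a : j ⟶ i), D.map a ⁻¹' Z = D.map a ⁻¹' ((U : Set (D.obj i)) \ W) := by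
  obtain ⟨j₁, a₁, h₁⟩ := exists_inter_preimage_eq_empty hc U W hU Zᶜ hZ.compl (by
    rw [Set.preimage_inter, ← h, ← Set.preimage_inter, Set.inter_compl_self, Set.preimage_empty])
  obtain ⟨j₂, a₂, h₂⟩ := exists_inter_preimage_eq_empty hc ⊤ U isCompact_univ Z hZ (by
    ext z
    simp only [Set.mem_preimage, Set.mem_empty_iff_false, iff_false]
    rintro ⟨⟨-, hzU⟩, hzZ⟩
    exact hzU ((Set.ext_iff.1 h z).1 hzZ).1)
  obtain ⟨j₃, a₃, h₃⟩ := exists_inter_preimage_eq_empty hc W ⊥ hW Z hZ (by
    ext z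
    simp only [Set.mem_preimage, Set.mem_empty_iff_false, iff_false]
    rintro ⟨⟨hzW, -⟩, hzZ⟩
    exact ((Set.ext_iff.1 h z).1 hzZ).2 hzW)
  obtain ⟨k, b₁, b₂, hb⟩ := IsCofiltered.cospan a₁ a₂
  obtain ⟨l, d, b₃, hd⟩ := IsCofiltered.cospan (b₁ ≫ a₁) a₃
  refine ⟨l, d ≫ b₁ ≫ a₁, ?_⟩
  have e : ∀ {m : I} (am : m ⟶ i) (bm : l ⟶ m) (A : Set (D.obj i)),
      bm ≫ am = d ≫ b₁ ≫ a₁ → D.map am ⁻¹' A = ∅ → D.map (d ≫ b₁ ≫ a₁) ⁻¹' A = ∅ := by
    intro m am bm A he hA
    rw [← he]
    refine Set.eq_empty_iff_forall_notMem.2 fun z hz => ?_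
    refine Set.eq_empty_iff_forall_notMem.1 hA (D.map bm z) ?_
    rwa [Set.mem_preimage, ← Scheme.Hom.comp_apply, ← D.map_comp]
  have e₁ := e a₁ (d ≫ b₁) _ (by simp) h₁
  have e₂ := e a₂ (d ≫ b₂) _ (by simp [hb]) h₂
  have e₃ := e a₃ b₃ _ hd.symm h₃
  ext z
  constructor
  · intro hz
    refine ⟨by_contra fun hzU => Set.eq_empty_iff_forall_notMem.1 e₂ z ⟨⟨trivial, hzU⟩, hz⟩,
      fun hzW => Set.eq_empty_iff_forall_notMem.1 e₃ z ⟨⟨hzW, ?_⟩, hz⟩⟩
    exact fun h => h
  · intro hz
    exact by_contra fun hzZ => Set.eq_empty_iff_forall_notMem.1 e₁ z ⟨hz, hzZ⟩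

end Groth.Agent.LimH13
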