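import Mathlib
import Groth.Agent.Lib.VarDim.Normal

/-!
Finite (integral) birational morphisms onto normal integral schemes are isomorphisms.
-/

universe u

open CategoryTheory CategoryTheory.Limits AlgebraicGeometry TopologicalSpace

namespace Groth.Agent.LimH13

variable {X Y : Scheme.{u}}

lemma germ_stalkMap_generic [IsIntegral X] [IsIntegral Y] (f : X ⟶ Y)
    (hgen : f (genericPoint X) = genericPoint Y) (U : Y.Opens) [Nonempty U] [Nonempty (f ⁻¹ᵁ U : X.Opens)] :
    Y.germToFunctionField U ≫ (Y.presheaf.stalkSpecializes (specializes_of_eq hgen)) ≫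
      f.stalkMap (genericPoint X) = f.app U ≫ X.germToFunctionField (f ⁻¹ᵁ U) := by
  have hU : f (genericPoint X) ∈ U :=
    hgen ▸ ((genericPoint_spec Y).mem_open_set_iff U.isOpen).mpr (by simpa using ‹Nonempty U›)
  rw [← Category.assoc, show Y.germToFunctionField U ≫ Y.presheaf.stalkSpecializes (specializes_of_eq hgen) =
    Y.presheaf.germ U (f (genericPoint X)) hU from TopCat.Presheaf.germ_stalkSpecializes _ _ _,
    Scheme.Hom.germ_stalkMap]

set_option backward.isDefEq.respectTransparency false in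
/-- An integral birational morphism of integral schemes with normal target is an isomorphism. -/
theorem isIso_of_integral_birational [IsIntegral X] [IsIntegral Y]
    (hN : ∀ y : Y, IsIntegrallyClosed (Y.presheaf.stalk y)) (f : X ⟶ Y) [IsIntegralHom f]
    (hgen : f (genericPoint X) = genericPoint Y) (hbir : IsIso (f.stalkMap (genericPoint X))) :
    IsIso f := by
  change MorphismProperty.isomorphisms Scheme f
  refine HasAffineProperty.of_iSup_eq_top (P := MorphismProperty.isomorphisms Scheme) (Q := fun X _ f _ => IsAffine X ∧ IsIso f.appTop)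
    (fun U : Y.affineOpens => U) (iSup_affineOpens_eq_top Y) fun U => ?_
  refine ⟨U.2.preimage f, ?_⟩
  rw [morphismRestrict_appTop]
  refine IsIso.comp_isIso' ?_ inferInstance
  rcases isEmpty_or_nonempty (U.1 : Y.Opens) with hemp | hne
  · have h2 : f ⁻¹ᵁ (U.1.ι ''ᵁ ⊤) = ⊥ := by
      ext x
      simp only [Scheme.Opens.ι_image_top, SetLike.mem_coe, Opens.coe_bot, Set.mem_empty_iff_false, iff_false]
      exact fun hx => hemp.false ⟨_, hx⟩
    have h1 : U.1.ι ''ᵁ ⊤ = ⊥ := by
      ext x
      simp only [Scheme.Opens.ι_image_top, SetLike.mem_coe, Opens.coe_bot, Set.mem_empty_iff_false, iff_false]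
      exact fun hx => hemp.false ⟨x, hx⟩
    haveI : Subsingleton Γ(Y, U.1.ι ''ᵁ ⊤) := by rw [h1]; exact CommRingCat.subsingleton_of_isTerminal (Y.sheaf.isTerminalOfEmpty)
    haveI : Subsingleton Γ(X, f ⁻¹ᵁ (U.1.ι ''ᵁ ⊤)) := by rw [h2]; exact CommRingCat.subsingleton_of_isTerminal (X.sheaf.isTerminalOfEmpty)
    exact (ConcreteCategory.isIso_iff_bijective _).mpr
      ⟨fun _ _ _ => Subsingleton.elim _ _, fun b => ⟨0, Subsingleton.elim _ _⟩⟩
  have key : ∀ V : Y.Opens, IsAffineOpen V → Nonempty V → IsIso (f.app V) := by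
    intro V hV _
    have hmem : genericPoint X ∈ f ⁻¹ᵁ V := by
      change f (genericPoint X) ∈ V
      rw [hgen]
      exact ((genericPoint_spec Y).mem_open_set_iff V.isOpen).mpr (by simpa using ‹Nonempty V›)
    haveI : Nonempty (f ⁻¹ᵁ V : X.Opens) := ⟨⟨_, hmem⟩⟩
    set e := Y.presheaf.stalkSpecializes (specializes_of_eq hgen) ≫ f.stalkMap (genericPoint X) with he
    haveI : IsIso (Y.presheaf.stalkSpecializes (specializes_of_eq hgen)) :=
      ⟨Y.presheaf.stalkSpecializes (specializes_of_eq hgen.symm), by simp, by simp⟩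
    haveI : IsIso e := by rw [he]; infer_instance
    have hebij := (ConcreteCategory.isIso_iff_bijective e).mp inferInstance
    have hc := germ_stalkMap_generic f hgen V
    have hcc : ∀ a, e (Y.germToFunctionField V a) = X.germToFunctionField (f ⁻¹ᵁ V) (f.app V a) :=
      fun a => ConcreteCategory.congr_hom hc a
    refine (ConcreteCategory.isIso_iff_bijective _).mpr ⟨fun a b hab => ?_, fun b => ?_⟩
    · apply Y.germToFunctionField_injective V
      apply hebij.1
      rw [hcc, hcc, hab]
    · obtain ⟨z, hz⟩ := hebij.2 (X.germToFunctionField (f ⁻¹ᵁ V) b)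
      obtain ⟨p, hp, hp0⟩ := IsIntegralHom.isIntegral_app f V hV b
      have hint : (Y.germToFunctionField V).hom.IsIntegralElem z := by
        refine ⟨p, hp, hebij.1 ?_⟩
        change e.hom _ = e.hom 0
        rw [Polynomial.hom_eval₂, map_zero,
          show e.hom z = X.germToFunctionField (f ⁻¹ᵁ V) b from hz,
          show e.hom.comp (Y.germToFunctionField V).hom =
            (X.germToFunctionField (f ⁻¹ᵁ V)).hom.comp (f.app V).hom from RingHom.ext hcc,
          ← Polynomial.hom_eval₂, hp0, map_zero]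
      obtain ⟨a, ha⟩ := VarDim.exists_section_of_integral hN V z hint
      refine ⟨a, X.germToFunctionField_injective (f ⁻¹ᵁ V) ?_⟩
      rw [← hcc, ha]
      exact hz
  have hne' : Nonempty (U.1.ι ''ᵁ ⊤ : Y.Opens) := by rw [Scheme.Opens.ι_image_top]; exact hne
  exact key _ (by rw [Scheme.Opens.ι_image_top]; exact U.2) hne'

end Groth.Agent.LimH13

namespace Groth.Agent.LimH13

variable {X Y : Scheme.{u}}

lemma genericPoint_map [IsIntegral X] [IsIntegral Y] (f : X ⟶ Y) [IsDominant f] :
    f (genericPoint X) = genericPoint Y := by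
  have h := (genericPoint_spec X).image f.continuous
  rw [Set.image_univ, f.denseRange.closure_range] at h
  exact h.eq (genericPoint_spec Y)

/-- A separated quasi-compact quasi-finite birational morphism to a normal integral scheme is an open
immersion. -/
theorem isOpenImmersion_of_birational [IsIntegral X] [IsIntegral Y]
    (hN : ∀ y : Y, IsIntegrallyClosed (Y.presheaf.stalk y)) (f : X ⟶ Y) [LocallyOfFiniteType f]
    [LocallyQuasiFinite f] [IsSeparated f] [QuasiCompact f]
    (hgen : f (genericPoint X) = genericPoint Y) (hbir : IsIso (f.stalkMap (genericPoint X))) :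
    IsOpenImmersion f := by
  obtain ⟨V, hiso, hV⟩ := f.exists_isIso_morphismRestrict_toNormalization
  have htop : f.toNormalization ⁻¹ᵁ V = ⊤ := by
    apply SetLike.coe_injective
    exact hV.trans (Set.eq_univ_of_forall fun x => f.quasiFiniteAt x)
  haveI : IsOpenImmersion f.toNormalization := by
    have e : f.toNormalization =
        ((Scheme.topIso X).inv ≫ (Scheme.isoOfEq X htop).inv) ≫ (f.toNormalization ∣_ V) ≫ V.ι := by
      simp
    rw [e]
    infer_instance
  set g := f.fromNormalization with hg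
  have h1 : f.toNormalization (genericPoint X) = genericPoint f.normalization :=
    genericPoint_map f.toNormalization
  have hgen' : g (genericPoint f.normalization) = genericPoint Y := by
    rw [← h1, hg, ← Scheme.Hom.comp_apply, f.toNormalization_fromNormalization, hgen]
  have hbir' : IsIso (g.stalkMap (genericPoint f.normalization)) := by
    rw [← h1]
    have hc := Scheme.Hom.stalkMap_comp f.toNormalization g (genericPoint X)
    have e : f.toNormalization ≫ g = f := f.toNormalization_fromNormalization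
    have h0 : IsIso ((f.toNormalization ≫ g).stalkMap (genericPoint X)) := by rw [e]; exact hbir
    rw [hc] at h0
    exact @IsIso.of_isIso_comp_right _ _ _ _ _ (g.stalkMap _) (f.toNormalization.stalkMap (genericPoint X)) inferInstance h0
  haveI : IsIso g := isIso_of_integral_birational hN g hgen' hbir'
  rw [← f.toNormalization_fromNormalization]
  infer_instance

/-- A quasi-finite birational morphism to a normal integral scheme is a local isomorphism. -/
theorem exists_nhd_isOpenImmersion_of_birational [IsIntegral X] [IsIntegral Y]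
    (hN : ∀ y : Y, IsIntegrallyClosed (Y.presheaf.stalk y)) (f : X ⟶ Y) [LocallyOfFiniteType f]
    [LocallyQuasiFinite f] (hgen : f (genericPoint X) = genericPoint Y)
    (hbir : IsIso (f.stalkMap (genericPoint X))) (x : X) :
    ∃ U : X.Opens, x ∈ U ∧ IsOpenImmersion (U.ι ≫ f) := by
  obtain ⟨_, ⟨V : Y.Opens, hV, rfl⟩, hxV, -⟩ :=
    Y.isBasis_affineOpens.exists_subset_of_mem_open (Set.mem_univ (f x)) isOpen_univ
  obtain ⟨_, ⟨U : X.Opens, hU, rfl⟩, hxU, hUV⟩ :=
    X.isBasis_affineOpens.exists_subset_of_mem_open (show x ∈ f ⁻¹ᵁ V from hxV) (f ⁻¹ᵁ V).2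
  replace hUV : U ≤ f ⁻¹ᵁ V := hUV
  refine ⟨U, hxU, ?_⟩
  haveI : IsAffine U := hU
  haveI : IsAffine V := hV
  haveI : Nonempty (U : Scheme.{u}) := ⟨⟨x, hxU⟩⟩
  haveI : Nonempty (V : Scheme.{u}) := ⟨⟨f x, hxV⟩⟩
  haveI : IsIntegral U.toScheme := isIntegral_of_isOpenImmersion U.ι
  haveI : IsIntegral V.toScheme := isIntegral_of_isOpenImmersion V.ι
  set g := f.resLE V U hUV with hg
  have hgι : g ≫ V.ι = U.ι ≫ f := Scheme.Hom.resLE_comp_ι _ _
  haveI : LocallyOfFiniteType (g ≫ V.ι) := by rw [hgι]; infer_instance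
  haveI : LocallyQuasiFinite (g ≫ V.ι) := by rw [hgι]; infer_instance
  haveI : LocallyOfFiniteType g := locallyOfFiniteType_of_comp g V.ι
  haveI : LocallyQuasiFinite g := LocallyQuasiFinite.of_comp g V.ι
  have hιU : U.ι (genericPoint U.toScheme) = genericPoint X := genericPoint_eq_of_isOpenImmersion U.ι
  have hιV : V.ι (genericPoint V.toScheme) = genericPoint Y := genericPoint_eq_of_isOpenImmersion V.ι
  have hgenU : (U.ι ≫ f) (genericPoint U.toScheme) = genericPoint Y := by
    rw [Scheme.Hom.comp_apply, hιU, hgen]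
  have hgen' : g (genericPoint U.toScheme) = genericPoint V.toScheme := by
    apply V.ι.isOpenEmbedding.injective
    rw [hιV, ← Scheme.Hom.comp_apply, hgι, hgenU]
  have hbir' : IsIso (g.stalkMap (genericPoint U.toScheme)) := by
    have h1 : IsIso ((g ≫ V.ι).stalkMap (genericPoint U.toScheme)) := by
      rw [hgι]
      have h2 : IsIso (f.stalkMap (U.ι (genericPoint U.toScheme))) := by rw [hιU]; exact hbir
      rw [Scheme.Hom.stalkMap_comp]
      exact IsIso.comp_isIso' h2 inferInstance
    rw [Scheme.Hom.stalkMap_comp] at h1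
    exact @IsIso.of_isIso_comp_left _ _ _ _ _ (V.ι.stalkMap _) (g.stalkMap _) inferInstance h1
  haveI := isOpenImmersion_of_birational (fun y => (hN (V.ι y)).of_equiv
    (asIso (V.ι.stalkMap y)).commRingCatIsoToRingEquiv) g hgen' hbir'
  rw [← hgι]
  infer_instance

/-- A separated local isomorphism between integral schemes that is birational is an open immersion. -/
theorem isOpenImmersion_of_isLocalIso [IsIntegral X] [IsIntegral Y] (f : X ⟶ Y) [IsLocalIso f]
    [IsSeparated f] (hgen : ∀ x, f x = genericPoint Y → x = genericPoint X) : IsOpenImmersion f := by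
  have hloc := IsLocalIso.exists_isOpenImmersion (f := f)
  have hinj : Function.Injective f := by
    intro x x' e
    obtain ⟨U, hxU, hU⟩ := hloc x
    obtain ⟨U', hxU', hU'⟩ := hloc x'
    let W := (U.ι ≫ f).opensRange ⊓ (U'.ι ≫ f).opensRange
    have hW : f x ∈ W := ⟨⟨⟨x, hxU⟩, rfl⟩, ⟨⟨x', hxU'⟩, by rw [e]; rfl⟩⟩
    have hex : ∀ (U : X.Opens) [IsOpenImmersion (U.ι ≫ f)], W ≤ (U.ι ≫ f).opensRange →
        ∃ l : W.toScheme ⟶ X, l ≫ f = W.ι ∧ Set.range l ⊆ (U : Set X) := fun U _ hle =>
      ⟨IsOpenImmersion.lift (U.ι ≫ f) W.ι (by rw [Scheme.Opens.range_ι]; exact hle) ≫ U.ι,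
        by rw [Category.assoc, IsOpenImmersion.lift_fac],
        by rintro _ ⟨w, rfl⟩; exact (IsOpenImmersion.lift (U.ι ≫ f) W.ι _ w).2⟩
    obtain ⟨a, ha, har⟩ := hex U inf_le_left
    obtain ⟨a', ha', har'⟩ := hex U' inf_le_right
    have hax : ∀ (V : X.Opens) [IsOpenImmersion (V.ι ≫ f)] (z : X), z ∈ V →
        ∀ (l : W.toScheme ⟶ X), Set.range l ⊆ (V : Set X) → l ≫ f = W.ι → ∀ w : W.toScheme, W.ι w = f z → l w = z := by
      intro V _ z hz l hl hlf w hw
      have h1 : (V.ι ≫ f) ⟨l w, hl ⟨w, rfl⟩⟩ = (V.ι ≫ f) ⟨z, hz⟩ := by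
        change f (l w) = f z
        rw [← Scheme.Hom.comp_apply, hlf, hw]
      exact congrArg Subtype.val ((V.ι ≫ f).isOpenEmbedding.injective h1)
    haveI : Nonempty W.toScheme := ⟨⟨f x, hW⟩⟩
    haveI : IsIntegral W.toScheme := isIntegral_of_isOpenImmersion W.ι
    have haa : a = a' := by
      let η : Spec (W.toScheme.residueField (genericPoint W.toScheme)) ⟶ W.toScheme :=
        W.toScheme.fromSpecResidueField _
      haveI : IsDominant η := ⟨by
        rw [DenseRange, dense_iff_closure_eq, Scheme.range_fromSpecResidueField]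
        exact (genericPoint_spec W.toScheme).def⟩
      let V := U ⊓ U'
      haveI : IsOpenImmersion (V.ι ≫ f) := by
        rw [← X.homOfLE_ι (inf_le_left : V ≤ U), Category.assoc]
        infer_instance
      have hηW : W.ι (genericPoint W.toScheme) = genericPoint Y := genericPoint_eq_of_isOpenImmersion W.ι
      have hηV : genericPoint X ∈ V :=
        ⟨((genericPoint_spec X).mem_open_set_iff U.2).mpr ⟨x, trivial, hxU⟩,
          ((genericPoint_spec X).mem_open_set_iff U'.2).mpr ⟨x', trivial, hxU'⟩⟩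
      have hin : ∀ l : W.toScheme ⟶ X, l ≫ f = W.ι → Set.range (η ≫ l) ⊆ Set.range V.ι := by
        rintro l hl _ ⟨p, rfl⟩
        rw [Scheme.Opens.range_ι]
        have : (η ≫ l) p = genericPoint X := hgen _ (by
          rw [Scheme.Hom.comp_apply, ← Scheme.Hom.comp_apply l f, hl, Scheme.fromSpecResidueField_apply, hηW])
        rw [this]; exact hηV
      haveI : IsSeparated f := inferInstance
      refine ext_of_isDominant_of_isSeparated f (ha.trans ha'.symm) η ?_
      have e1 := IsOpenImmersion.lift_fac V.ι (η ≫ a) (hin a ha)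
      have e2 := IsOpenImmersion.lift_fac V.ι (η ≫ a') (hin a' ha')
      have hk : IsOpenImmersion.lift V.ι (η ≫ a) (hin a ha) = IsOpenImmersion.lift V.ι (η ≫ a') (hin a' ha') := by
        rw [← cancel_mono (V.ι ≫ f), IsOpenImmersion.lift_fac_assoc, IsOpenImmersion.lift_fac_assoc,
          Category.assoc, Category.assoc, ha, ha']
      exact e1.symm.trans ((congrArg (· ≫ V.ι) hk).trans e2)
    have e1 := hax U x hxU a har ha ⟨f x, hW⟩ rfl
    have e2 := hax U' x' hxU' a' har' ha' ⟨f x, hW⟩ e
    rw [← e1, ← e2, haa]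
  have hopen : IsOpenMap f := by
    intro s hs
    rw [isOpen_iff_forall_mem_open]
    rintro _ ⟨z, hz, rfl⟩
    obtain ⟨U, hzU, hU⟩ := hloc z
    refine ⟨(U.ι ≫ f) '' (U.ι ⁻¹' s), ?_,
      (U.ι ≫ f).isOpenEmbedding.isOpenMap _ (hs.preimage U.ι.continuous), ⟨⟨z, hzU⟩, hz, rfl⟩⟩
    rintro _ ⟨w, hw, rfl⟩
    exact ⟨U.ι w, hw, rfl⟩
  haveI : ∀ z, IsIso (f.stalkMap z) := fun z => by
    obtain ⟨U, hzU, hU⟩ := hloc z
    obtain ⟨w, rfl⟩ : ∃ w : U.toScheme, U.ι w = z := ⟨⟨z, hzU⟩, rfl⟩
    have h1 : IsIso ((U.ι ≫ f).stalkMap w) := inferInstance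
    rw [Scheme.Hom.stalkMap_comp] at h1
    exact @IsIso.of_isIso_comp_right _ _ _ _ _ (f.stalkMap _) (U.ι.stalkMap w) inferInstance h1
  exact IsOpenImmersion.of_isIso_stalkMap f (.of_continuous_injective_isOpenMap f.continuous hinj hopen)

end Groth.Agent.LimH13
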