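import Groth.Agent.S7383
import Groth.Agent.S2076
import Groth.Agent.Lib.LimH13.Struct

/-!
# Closed immersions into schemes of finite presentation
-/

universe u

open CategoryTheory Limits AlgebraicGeometry Opposite

set_option backward.isDefEq.respectTransparency false
set_option backward.isDefEq.respectTransparency.types false
set_option linter.style.haveILetI false

noncomputable section

namespace Groth.Agent.LimH13

variable {X S : Scheme.{u}} (f : X ⟶ S) [CompactSpace X] [QuasiSeparatedSpace X]
  [QuasiSeparatedSpace S] [LocallyOfFiniteType f]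

/-- A closed immersion over the base into a member of finite presentation; separated if `f` is. -/
theorem exists_closed_stage :
    ∃ (X' : Scheme.{u}) (f' : X' ⟶ S) (j : X ⟶ X'), LocallyOfFinitePresentation f' ∧ QuasiCompact f' ∧
      QuasiSeparated f' ∧ CompactSpace X' ∧ QuasiSeparatedSpace X' ∧
      IsClosedImmersion j ∧ j ≫ f' = f ∧ (IsSeparated f → IsSeparated f') := by
  classical
  have hcov : ∀ x : X, ∃ V : S.affineOpens, f x ∈ V.1 := fun x => by
    obtain ⟨V, hV, hx, -⟩ := exists_isAffineOpen_mem_and_subset (x := f x) (U := ⊤) trivial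
    exact ⟨⟨V, hV⟩, hx⟩
  choose V hV using hcov
  obtain ⟨t, ht⟩ := (isCompact_univ (X := X)).elim_finite_subcover (fun x => (f ⁻¹ᵁ (V x).1 : Set X))
    (fun x => (f ⁻¹ᵁ (V x).1).2) (fun x _ => Set.mem_iUnion.mpr ⟨x, hV x⟩)
  let O : S.Opens := ⨆ x : t, (V x.1).1
  have hOc : IsCompact (O : Set S) := by
    rw [TopologicalSpace.Opens.coe_iSup]
    exact isCompact_iUnion fun x => (V x.1).2.isCompact
  haveI : CompactSpace O.toScheme := isCompact_iff_compactSpace.mp hOc
  haveI : QuasiSeparatedSpace O.toScheme := quasiSeparatedSpace_of_quasiSeparated O.ι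
  haveI : QuasiCompact O.ι := quasiCompact_of_compactSpace O.ι
  have hr : Set.range f ⊆ Set.range O.ι := by
    rintro _ ⟨x, rfl⟩
    rw [Scheme.Opens.range_ι]
    obtain ⟨y, hy, hxy⟩ := Set.mem_iUnion₂.mp (ht (Set.mem_univ x))
    exact TopologicalSpace.Opens.mem_iSup.mpr ⟨⟨y, hy⟩, hxy⟩
  let f₁ := IsOpenImmersion.lift O.ι f hr
  have hf₁ : f₁ ≫ O.ι = f := IsOpenImmersion.lift_fac ..
  haveI : LocallyOfFiniteType f₁ := by
    haveI : LocallyOfFiniteType (f₁ ≫ O.ι) := by rw [hf₁]; infer_instance
    exact locallyOfFiniteType_of_comp f₁ O.ι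
  obtain ⟨I, _, _, _, D, c, hc, hfp, haff, ⟨e⟩⟩ := Groth.Agent.S7383.result f₁
  haveI : IsFiltered I := isFiltered_of_directed_le_nonempty I
  haveI : IsConnected Iᵒᵖ := IsCofiltered.isConnected _
  haveI : IsIso e.inv.left := inferInstanceAs (IsIso ((Over.forget _).mapIso e).inv)
  haveI : IsIso e.hom.left := inferInstanceAs (IsIso ((Over.forget _).mapIso e).hom)
  haveI : ∀ i, CompactSpace (D.obj i).left := fun i => by
    haveI := (hfp i).2.1
    exact QuasiCompact.compactSpace_of_compactSpace (D.obj i).hom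
  haveI : ∀ i, QuasiSeparatedSpace (D.obj i).left := fun i => by
    haveI := (hfp i).2.2
    exact quasiSeparatedSpace_of_quasiSeparated (D.obj i).hom
  haveI : ∀ (i j : Iᵒᵖ) (a : i ⟶ j), IsAffineHom (D.map a).left := haff
  haveI : LocallyOfFiniteType (e.inv.left ≫ c.pt.hom) := by
    rw [show e.inv.left ≫ c.pt.hom = f₁ from Over.w e.inv]
    infer_instance
  haveI : IsClosedImmersion e.inv.left := inferInstance
  obtain ⟨i, hi⟩ := Groth.Agent.S2076.result O.toScheme D c hc e.inv.left
  have hcomp : ∀ k, (e.inv.left ≫ (c.π.app k).left) ≫ (D.obj k).hom ≫ O.ι = f := fun k => by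
    have h1 : e.inv.left ≫ c.pt.hom = f₁ := Over.w e.inv
    have h2 : (c.π.app k).left ≫ (D.obj k).hom = c.pt.hom := Over.w (c.π.app k)
    rw [Category.assoc, reassoc_of% h2, reassoc_of% h1, hf₁]
  by_cases hs : IsSeparated f
  · let E := D ⋙ Over.forget O.toScheme
    have hcE : IsLimit ((Over.forget O.toScheme).mapCone c) :=
      isLimitOfPreserves (Over.forget O.toScheme) hc
    haveI : ∀ {i j} (a : i ⟶ j), IsAffineHom (E.map a) := fun a => haff _ _ a
    haveI : ∀ i, CompactSpace (E.obj i) := fun i => inferInstanceAs (CompactSpace (D.obj i).left)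
    haveI : ∀ i, QuasiSeparatedSpace (E.obj i) := fun i =>
      inferInstanceAs (QuasiSeparatedSpace (D.obj i).left)
    let t : E ⟶ (Functor.const Iᵒᵖ).obj O.toScheme :=
      { app := fun i => (D.obj i).hom
        naturality := fun i j a => by simp [E] }
    haveI : IsSeparated f₁ := by
      haveI : IsSeparated (f₁ ≫ O.ι) := by rw [hf₁]; exact hs
      exact IsSeparated.of_comp f₁ O.ι
    haveI : IsSeparated (((Over.forget O.toScheme).mapCone c).π.app i ≫ t.app i) := by
      have h1 : ((Over.forget O.toScheme).mapCone c).π.app i ≫ t.app i = e.hom.left ≫ f₁ :=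
        (Over.w (c.π.app i)).trans (Over.w e.hom).symm
      rw [h1]
      infer_instance
    obtain ⟨i₁, hi₁⟩ := exists_isSeparated_structureMap (t := t) hcE i
    let k := IsCofiltered.min i i₁
    haveI : IsSeparated (D.obj k).hom := hi₁ k (IsCofiltered.minToRight i i₁)
    haveI : IsClosedImmersion ((e.inv.left ≫ (c.π.app k).left) ≫ (D.map (IsCofiltered.minToLeft i i₁)).left) := by
      rw [Category.assoc, ← Over.comp_left, c.w]
      exact hi
    haveI := haff _ _ (IsCofiltered.minToLeft i i₁)
    haveI : IsClosedImmersion (e.inv.left ≫ (c.π.app k).left) :=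
      IsClosedImmersion.of_comp _ (D.map (IsCofiltered.minToLeft i i₁)).left
    haveI := (hfp k).1
    haveI := (hfp k).2.1
    haveI := (hfp k).2.2
    exact ⟨(D.obj k).left, (D.obj k).hom ≫ O.ι, e.inv.left ≫ (c.π.app k).left, inferInstance,
      inferInstance, inferInstance, inferInstance, inferInstance, inferInstance, hcomp k,
      fun _ => inferInstanceAs (IsSeparated ((D.obj k).hom ≫ O.ι))⟩
  · haveI := (hfp i).1
    haveI := (hfp i).2.1
    haveI := (hfp i).2.2
    exact ⟨(D.obj i).left, (D.obj i).hom ≫ O.ι, e.inv.left ≫ (c.π.app i).left, inferInstance,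
      inferInstance, inferInstance, inferInstance, inferInstance, hi, hcomp i, fun h => absurd h hs⟩

end Groth.Agent.LimH13
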