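import Groth.Prelude.Def_ClSub2
import Mathlib.AlgebraicGeometry.Morphisms.Proper
import Mathlib.AlgebraicGeometry.Morphisms.ClosedImmersion
import Mathlib.AlgebraicGeometry.Morphisms.FiniteType

/-!
# Properness over a base of a closed subset does not depend on the scheme structure
-/

universe u

open CategoryTheory Limits AlgebraicGeometry

set_option backward.isDefEq.respectTransparency false
set_option backward.isDefEq.respectTransparency.types false
set_option linter.style.haveILetI false

namespace Groth.Agent.LimH13

/-- A closed subscheme with support `Z` is proper if `Z` is proper over the base. -/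
theorem isProper_of_isProperOver {X S W : Scheme.{u}} (f : X ⟶ S) [LocallyOfFiniteType f] (j : W ⟶ X)
    [IsClosedImmersion j] {Z : Set X} (hrange : Set.range j = Z) (h : ClSub.IsProperOver f Z) :
    IsProper (j ≫ f) := by
  subst hrange
  obtain ⟨hZ', hp⟩ := h
  let I' := Scheme.IdealSheafData.vanishingIdeal (⟨_, hZ'⟩ : TopologicalSpace.Closeds X)
  have hrange : Set.range j = Set.range j := rfl
  let q := j ≫ f
  have hker : j.ker ≤ (I'.subschemeι).ker := by
    rw [Scheme.IdealSheafData.ker_subschemeι]
    refine Scheme.IdealSheafData.le_support_iff_le_vanishingIdeal.1 ?_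
    rw [← SetLike.coe_subset_coe, Scheme.Hom.support_ker]
    exact subset_closure
  let s := IsClosedImmersion.lift j I'.subschemeι hker
  have hsj : s ≫ j = I'.subschemeι := IsClosedImmersion.lift_fac _ _ _
  haveI : Surjective s := by
    refine ⟨fun w => ?_⟩
    have : j w ∈ Set.range I'.subschemeι := by
      rw [Scheme.IdealSheafData.range_subschemeι, Scheme.IdealSheafData.coe_support_vanishingIdeal]
      exact hrange.le ⟨w, rfl⟩
    obtain ⟨a, ha⟩ := this
    refine ⟨a, j.isEmbedding.injective ?_⟩
    rw [← Scheme.Hom.comp_apply, hsj]
    exact ha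
  haveI : IsClosedImmersion (s ≫ j) := by rw [hsj]; infer_instance
  haveI : IsClosedImmersion s := IsClosedImmersion.of_comp s j
  have hjq : j ≫ f = q := rfl
  haveI hsq : IsProper (s ≫ q) := by rw [← hjq, ← Category.assoc, hsj]; exact hp
  haveI : UniversallyClosed q := UniversallyClosed.of_comp_surjective s q
  haveI : LocallyOfFiniteType q := inferInstanceAs (LocallyOfFiniteType (j ≫ f))
  haveI : IsSeparated q := by
    refine ⟨?_⟩
    let m := pullback.map (s ≫ q) (s ≫ q) q q s s (𝟙 _) (by simp) (by simp)
    have hm : pullback.diagonal (s ≫ q) ≫ m = s ≫ pullback.diagonal q := by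
      apply pullback.hom_ext <;> simp [m, pullback.lift_fst, pullback.lift_snd]
    haveI : IsClosedImmersion (pullback.diagonal (s ≫ q) ≫ m) := by
      haveI : MorphismProperty.IsStableUnderComposition (@IsClosedImmersion : MorphismProperty Scheme.{u}) :=
        ⟨fun a b ha hb => by
          haveI : IsClosedImmersion a := ha
          haveI : IsClosedImmersion b := hb
          infer_instance⟩
      haveI : IsClosedImmersion m := MorphismProperty.pullbackMap (P := @IsClosedImmersion)
        inferInstance inferInstance rfl rfl
      infer_instance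
    refine IsClosedImmersion.of_isPreimmersion _ ?_
    have : Set.range (pullback.diagonal q) = Set.range (pullback.diagonal (s ≫ q) ≫ m) := by
      rw [hm]
      ext y
      constructor
      · rintro ⟨w, rfl⟩
        obtain ⟨a, rfl⟩ := s.surjective w
        exact ⟨a, Scheme.Hom.comp_apply _ _ _⟩
      · rintro ⟨a, rfl⟩
        exact ⟨s a, (Scheme.Hom.comp_apply _ _ _).symm⟩
    rw [this]
    exact (pullback.diagonal (s ≫ q) ≫ m).isClosedEmbedding.isClosed_range
  exact ⟨⟩

/-- A closed subset with some proper scheme structure is proper over the base. -/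
theorem isProperOver_of_isProper {X S W : Scheme.{u}} (f : X ⟶ S) (j : W ⟶ X)
    [IsClosedImmersion j] [IsProper (j ≫ f)] {Z : Set X} (hrange : Set.range j = Z) :
    ClSub.IsProperOver f Z := by
  subst hrange
  refine ⟨j.isClosedEmbedding.isClosed_range, ?_⟩
  let I' := Scheme.IdealSheafData.vanishingIdeal (⟨_, j.isClosedEmbedding.isClosed_range⟩ : TopologicalSpace.Closeds X)
  have hker : j.ker ≤ (I'.subschemeι).ker := by
    rw [Scheme.IdealSheafData.ker_subschemeι]
    refine Scheme.IdealSheafData.le_support_iff_le_vanishingIdeal.1 ?_
    rw [← SetLike.coe_subset_coe, Scheme.Hom.support_ker]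
    exact subset_closure
  let s := IsClosedImmersion.lift j I'.subschemeι hker
  have hsj : s ≫ j = I'.subschemeι := IsClosedImmersion.lift_fac _ _ _
  haveI : IsClosedImmersion (s ≫ j) := by rw [hsj]; infer_instance
  haveI : IsClosedImmersion s := IsClosedImmersion.of_comp s j
  change IsProper (I'.subschemeι ≫ f)
  rw [← hsj, Category.assoc]
  infer_instance

end Groth.Agent.LimH13
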