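import Groth.Agent.Lib.LimH13.ArrowModel
import Mathlib.AlgebraicGeometry.PullbackCarrier
import Mathlib.CategoryTheory.Comma.Over.Basic

/-!
# Base change of a system of arrows to the limit of the targets
-/

universe u

open CategoryTheory Limits AlgebraicGeometry Opposite TopologicalSpace

set_option backward.isDefEq.respectTransparency false
set_option backward.isDefEq.respectTransparency.types false
set_option backward.defeqAttrib.useBackward true

noncomputable section

namespace Groth.Agent.LimH13.FPSys

variable {J : Type u} [SmallCategory J] [IsCofiltered J] {DX DS : J ⥤ Scheme.{u}} (φ : DX ⟶ DS)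
  {cX : Cone DX} (hcX : IsLimit cX) {cS : Cone DS} (hcS : IsLimit cS) {S : Scheme.{u}}
  (ι : cS.pt ⟶ S) (f : cX.pt ⟶ cS.pt) (hf : ∀ p, cX.π.app p ≫ φ.app p = f ≫ cS.π.app p)

/-- The transition maps. -/
def trans {p q : J} (a : p ⟶ q) :
    pullback (φ.app p) (cS.π.app p) ⟶ pullback (φ.app q) (cS.π.app q) :=
  pullback.lift (pullback.fst _ _ ≫ DX.map a) (pullback.snd _ _) (by
    rw [Category.assoc, φ.naturality, ← Category.assoc, pullback.condition, Category.assoc, cS.w])

omit [IsCofiltered J] in
@[reassoc (attr := simp)]
theorem trans_fst {p q : J} (a : p ⟶ q) :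
    trans φ (cS := cS) a ≫ pullback.fst _ _ = pullback.fst _ _ ≫ DX.map a := pullback.lift_fst _ _ _

omit [IsCofiltered J] in
@[reassoc (attr := simp)]
theorem trans_snd {p q : J} (a : p ⟶ q) :
    trans φ (cS := cS) a ≫ pullback.snd _ _ = pullback.snd _ _ := pullback.lift_snd _ _ _

/-- The base changed system over `S`. -/
def diag : J ⥤ Over S where
  obj p := Over.mk (pullback.snd (φ.app p) (cS.π.app p) ≫ ι)
  map a := Over.homMk (trans φ a) (by simp)
  map_id p := by
    ext
    apply pullback.hom_ext <;> simp
  map_comp a b := by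
    ext
    apply pullback.hom_ext <;> simp

/-- The cone. -/
def cone : Cone (diag φ ι) where
  pt := Over.mk (f ≫ ι)
  π :=
    { app := fun p => Over.homMk (pullback.lift (cX.π.app p) f (hf p)) (by simp [diag])
      naturality := fun p q a => by
        refine Over.OverMorphism.ext (pullback.hom_ext ?_ ?_) <;> simp [diag] }

variable [Mono ι]

theorem snd_eq (s : Cone (diag φ ι)) (p q : J) :
    (s.π.app p).left ≫ pullback.snd (φ.app p) (cS.π.app p) =
      (s.π.app q).left ≫ pullback.snd (φ.app q) (cS.π.app q) := by
  rw [← cancel_mono ι, Category.assoc, Category.assoc]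
  exact (Over.w (s.π.app p)).trans (Over.w (s.π.app q)).symm

/-- The first components. -/
def fstCone (s : Cone (diag φ ι)) : Cone DX where
  pt := s.pt.left
  π :=
    { app := fun p => (s.π.app p).left ≫ pullback.fst (φ.app p) (cS.π.app p)
      naturality := fun p q a => by
        have h := congrArg (fun k => k.left ≫ pullback.fst (φ.app q) (cS.π.app q)) (s.w a)
        simp [diag] at h
        simp [← h] }

/-- The base changed system has limit the source. -/
def isLimit : IsLimit (cone φ ι f hf) where
  lift s := Over.homMk (hcX.lift (fstCone φ ι s)) (by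
    let p : J := (IsCofiltered.nonempty (C := J)).some
    have hb : hcX.lift (fstCone φ ι s) ≫ f = (s.π.app p).left ≫ pullback.snd (φ.app p) (cS.π.app p) := by
      refine hcS.hom_ext fun q => ?_
      rw [Category.assoc, ← hf, hcX.fac_assoc, snd_eq φ ι s p q]
      simp [fstCone, pullback.condition]
    change hcX.lift (fstCone φ ι s) ≫ f ≫ ι = s.pt.hom
    rw [← Category.assoc, hb, Category.assoc]
    exact Over.w (s.π.app p))
  fac s p := by
    refine Over.OverMorphism.ext (pullback.hom_ext ?_ ?_)
    · simp [cone, fstCone]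
    · simp only [cone, Over.comp_left, Over.homMk_left, Category.assoc, pullback.lift_snd]
      refine hcS.hom_ext fun q => ?_
      rw [Category.assoc, ← hf, hcX.fac_assoc, snd_eq φ ι s p q]
      simp [fstCone, pullback.condition]
  uniq s g hg := by
    refine Over.OverMorphism.ext (hcX.hom_ext fun p => ?_)
    simp only [Over.homMk_left, hcX.fac]
    change g.left ≫ cX.π.app p = (s.π.app p).left ≫ pullback.fst _ _
    rw [← hg p]
    simp [cone]

variable [∀ {p q} (a : p ⟶ q), IsAffineHom (DX.map a)] [∀ {p q} (a : p ⟶ q), IsAffineHom (DS.map a)]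

include hcS in
omit [Mono ι] in
theorem isAffineHom_diag_map {p q : J} (a : p ⟶ q) : IsAffineHom ((diag φ ι).map a).left := by
  haveI := fun r => isAffineHom_π_app DS cS hcS r
  change IsAffineHom (trans φ a)
  haveI : IsAffineHom (trans φ (cS := cS) a ≫ pullback.fst _ _) := by
    rw [trans_fst]
    haveI : IsAffineHom (pullback.fst (φ.app p) (cS.π.app p)) :=
      MorphismProperty.pullback_fst _ _ (isAffineHom_π_app DS cS hcS p)
    infer_instance
  haveI : IsAffineHom (pullback.fst (φ.app q) (cS.π.app q)) :=
    MorphismProperty.pullback_fst _ _ (isAffineHom_π_app DS cS hcS q)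
  exact IsAffineHom.of_comp (trans φ a) (pullback.fst (φ.app q) (cS.π.app q))

omit [Mono ι] [IsCofiltered J] in
theorem fp_diag (hι : IsOpenImmersion ι) (hιc : QuasiCompact ι) (p : J) (hX : LFTZ (DX.obj p))
    (hS : LFTZ (DS.obj p)) [CompactSpace (DX.obj p)] :
    LocallyOfFinitePresentation ((diag φ ι).obj p).hom ∧ QuasiCompact ((diag φ ι).obj p).hom ∧
      QuasiSeparated ((diag φ ι).obj p).hom := by
  haveI := hS.isLocallyNoetherian
  haveI := hS.quasiSeparatedSpace
  haveI := hX.quasiSeparatedSpace
  haveI : LocallyOfFiniteType (φ.app p) := by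
    haveI : LocallyOfFiniteType (φ.app p ≫ specULiftZIsTerminal.from (DS.obj p)) := by
      rw [specULiftZIsTerminal.hom_ext (φ.app p ≫ specULiftZIsTerminal.from (DS.obj p))
        (specULiftZIsTerminal.from (DX.obj p))]
      exact hX
    exact locallyOfFiniteType_of_comp (φ.app p) (specULiftZIsTerminal.from (DS.obj p))
  haveI := locallyOfFinitePresentation_of_noetherian (φ.app p)
  haveI : QuasiSeparated (φ.app p) := inferInstance
  change LocallyOfFinitePresentation (pullback.snd (φ.app p) (cS.π.app p) ≫ ι) ∧ _
  exact ⟨inferInstance, inferInstanceAs (QuasiCompact (pullback.snd (φ.app p) (cS.π.app p) ≫ ι)),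
    inferInstanceAs (QuasiSeparated (pullback.snd (φ.app p) (cS.π.app p) ≫ ι))⟩

end Groth.Agent.LimH13.FPSys
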