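import Groth.Agent.Lib.LimH13.FibDimStage
import Groth.Agent.Lib.FibDim14.Compact
import Groth.Agent.Lib.Descend.Stage

/-!
# Descent of bounds on fibre dimension
-/

universe u

open CategoryTheory Limits AlgebraicGeometry Opposite TopologicalSpace Groth.Agent.FibDim14 Groth.Agent.Descend

set_option backward.isDefEq.respectTransparency false
set_option backward.isDefEq.respectTransparency.types false
set_option linter.style.haveILetI false

noncomputable section

namespace Groth.Agent.LimH13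

variable {J : Type u} [SmallCategory J] [IsCofiltered J]

theorem exists_fibreDimAt_le_descend {X₀ Y₀ : Scheme.{u}} (f : X₀ ⟶ Y₀) [LocallyOfFiniteType f]
    [CompactSpace X₀] [CompactSpace Y₀] [QuasiSeparatedSpace Y₀]
    {E : J ⥤ Scheme.{u}} (t : E ⟶ (Functor.const J).obj Y₀) [∀ k, IsAffineHom (t.app k)] {e : Cone E}
    {q : e.pt ⟶ Y₀} {P : Scheme.{u}} {p : P ⟶ X₀} {r : P ⟶ e.pt} (he : IsLimit e)
    (hq : ∀ k, e.π.app k ≫ t.app k = q) (hP : IsPullback p r f q) (d : ℕ)
    (hd : ∀ x, FlatMor.fibreDimAt r x ≤ (d : WithBot ℕ∞)) :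
    ∃ k, ∀ y, FlatMor.fibreDimAt (pullback.snd f (t.app k)) y ≤ (d : WithBot ℕ∞) := by
  haveI : LocallyOfFiniteType r := MorphismProperty.of_isPullback hP inferInstance
  haveI : ∀ {i j : J} (a : i ⟶ j), IsAffineHom (E.map a) := fun a => isAffineHom_map E t a
  haveI : ∀ k, CompactSpace (E.obj k) := fun k => compactSpace_obj E t k
  let h : pbDiagram E t f ⟶ E := pbSnd E t f
  haveI : ∀ i, LocallyOfFiniteType (h.app i) := fun i =>
    MorphismProperty.pullback_snd f (t.app i) inferInstance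
  haveI : QuasiCompact f := quasiCompact_of_compactSpace f
  haveI : ∀ i, QuasiCompact (h.app i) := fun i =>
    MorphismProperty.pullback_snd f (t.app i) inferInstance
  have hcl : ∀ {i j : J} (a : i ⟶ j), IsClosedImmersion (graphMap h a) := fun {i j} a => by
    have hp := pbMap_isPullback E t f a
    have e1 : graphMap h a = hp.isoPullback.hom := by
      apply pullback.hom_ext
      · rw [graphMap_fst]; exact hp.isoPullback_hom_fst.symm
      · rw [graphMap_snd]; exact hp.isoPullback_hom_snd.symm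
    rw [e1]
    infer_instance
  obtain ⟨i₀⟩ := IsCofiltered.nonempty (C := J)
  exact exists_fibreDimAt_le h (pbIsLimit E t f e hq hP he) he hcl d fun x => ⟨i₀, by
    haveI : LocallyOfFiniteType (pullback.snd f (t.app i₀)) :=
      MorphismProperty.pullback_snd _ _ inferInstance
    exact (fibreDimAt_baseChange (pbCone_isPullback E t f e hq hP i₀) x).symm.trans_le (hd x)⟩

theorem hasRelDim_iff_fibreDimAt {X S : Scheme.{u}} (f : X ⟶ S) [LocallyOfFiniteType f] (d : ℕ) :
    Cyc.HasRelDim f d ↔ ∀ x, FlatMor.fibreDimAt f x = (d : WithBot ℕ∞) := by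
  rw [hasRelDim_iff]
  refine ⟨fun h x => ?_, fun h x hx => ?_⟩
  · obtain ⟨x', hx', he, hd, hall⟩ := exists_fibreDimAt_eq f x
    have : IsMaxFib f x' := fun y hy hye => by
      by_contra hne
      have h1 := rd_lt_of_specializes f hy hne hye
      have h2 := hall y (hy.trans hx') (hye.trans he)
      omega
    rw [hd, h x' this]
  · obtain ⟨x', hx', he, hd, -⟩ := exists_fibreDimAt_eq f x
    rw [hx x' hx' he, h x] at hd
    exact_mod_cast hd.symm

theorem exists_hasRelDim_descend {X₀ Y₀ : Scheme.{u}} (f : X₀ ⟶ Y₀) [LocallyOfFinitePresentation f]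
    [CompactSpace X₀] [QuasiSeparatedSpace X₀] [CompactSpace Y₀] [QuasiSeparatedSpace Y₀]
    {E : J ⥤ Scheme.{u}} (t : E ⟶ (Functor.const J).obj Y₀) [∀ k, IsAffineHom (t.app k)] {e : Cone E}
    {q : e.pt ⟶ Y₀} {P : Scheme.{u}} {p : P ⟶ X₀} {r : P ⟶ e.pt} (he : IsLimit e)
    (hq : ∀ k, e.π.app k ≫ t.app k = q) (hP : IsPullback p r f q) (d : ℕ) (hd : Cyc.HasRelDim r d) :
    ∃ k, Cyc.HasRelDim (pullback.snd f (t.app k)) d := by
  haveI hr : LocallyOfFiniteType r := MorphismProperty.of_isPullback hP inferInstance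
  rw [hasRelDim_iff_fibreDimAt] at hd
  obtain ⟨i, hi⟩ := exists_fibreDimAt_le_descend f t he hq hP d fun x => (hd x).le
  haveI : ∀ k, LocallyOfFiniteType (pullback.snd f (t.app k)) :=
    fun k => MorphismProperty.pullback_snd _ _ inferInstance
  rcases Nat.eq_zero_or_pos d with rfl | hpos
  · refine ⟨i, (hasRelDim_iff_fibreDimAt _ 0).2 fun y => le_antisymm (hi y) ?_⟩
    obtain ⟨x', -, -, h', -⟩ := exists_fibreDimAt_eq (pullback.snd f (t.app i)) y
    rw [h']
    exact_mod_cast Nat.zero_le _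
  let cP := pbCone E t f e hq hP
  let hcP : IsLimit cP := pbIsLimit E t f e hq hP he
  haveI : ∀ {i j : J} (a : i ⟶ j), IsAffineHom ((pbDiagram E t f).map a) := fun a =>
    pb_isAffineHom_map E t f a
  haveI : LocallyOfFinitePresentation (pullback.snd f (t.app i)) :=
    MorphismProperty.pullback_snd _ _ inferInstance
  let U : ((pbDiagram E t f).obj i).Opens :=
    ⟨{y | FlatMor.fibreDimAt (pullback.snd f (t.app i)) y ≤ ((d - 1 : ℕ) : WithBot ℕ∞)}, isOpen_fibreDimAt_le _ _⟩
  haveI : CompactSpace ((pbDiagram E t f).obj i) := pb_compactSpace E t f i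
  have hUc : IsCompact (U : Set ((pbDiagram E t f).obj i)) := by
    have h := isRetrocompact_fibreDimAt_le (pullback.snd f (t.app i)) (d - 1) isCompact_univ isOpen_univ
    rwa [Set.inter_univ] at h
  obtain ⟨j, a, hj⟩ := exists_map_preimage_le_map_preimage (pbDiagram E t f) cP hcP (V := ⊥) hUc (by
    intro x hx
    exfalso
    have h1 := fibreDimAt_baseChange (pbCone_isPullback E t f e hq hP i) x
    have h2 : FlatMor.fibreDimAt (pullback.snd f (t.app i)) (cP.π.app i x) ≤ ((d - 1 : ℕ) : WithBot ℕ∞) := hx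
    rw [← h1, hd] at h2
    have : d ≤ d - 1 := by exact_mod_cast h2
    omega)
  refine ⟨j, (hasRelDim_iff_fibreDimAt _ d).2 fun y => ?_⟩
  rw [fibreDimAt_baseChange (pbMap_isPullback E t f a) y]
  refine le_antisymm (hi _) ?_
  obtain ⟨x', -, -, h', -⟩ := exists_fibreDimAt_eq (pullback.snd f (t.app i)) ((pbDiagram E t f).map a y)
  rw [h']
  by_contra hlt
  have hlt' : x' ∈ (Set.univ : Set _) ∧ rd (pullback.snd f (t.app i)) x' ≤ d - 1 := by
    refine ⟨trivial, ?_⟩
    have : ¬ d ≤ rd (pullback.snd f (t.app i)) x' := fun hle => hlt (by exact_mod_cast hle)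
    omega
  have : y ∈ (pbDiagram E t f).map a ⁻¹ᵁ U := by
    show FlatMor.fibreDimAt (pullback.snd f (t.app i)) ((pbDiagram E t f).map a y) ≤ ((d - 1 : ℕ) : WithBot ℕ∞)
    rw [h']
    exact_mod_cast hlt'.2
  exact (hj this : y ∈ (pbDiagram E t f).map a ⁻¹ᵁ ⊥)

end Groth.Agent.LimH13
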