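import Groth.Agent.Lib.LimH13.ClosedLimit
import Groth.Agent.Lib.FibDim14.Semicont
import Groth.Agent.Lib.FibDim14.BaseChange
import Groth.Agent.Lib.FibDim14.Comp
import Groth.Agent.Lib.FibGenApp4
import Groth.Agent.Lib.LimH13.Top

/-!
# Fibre dimension in limits
-/

universe u

open CategoryTheory Limits AlgebraicGeometry Opposite TopologicalSpace Groth.Agent.FibDim14

set_option backward.isDefEq.respectTransparency false
set_option backward.isDefEq.respectTransparency.types false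
set_option linter.style.haveILetI false

noncomputable section

namespace Groth.Agent.LimH13

theorem forall_dim_fiber_le_iff {X S : Scheme.{u}} (f : X ⟶ S) (c : WithBot ℕ∞) :
    (∀ s, topologicalKrullDim (f.fiber s) ≤ c) ↔ ∀ x, FlatMor.fibreDimAt f x ≤ c :=
  ⟨fun h x => (Groth.Agent.FibGen4.dim_fiber_le_iff f (f x) c).1 (h _) x rfl,
    fun h s => (Groth.Agent.FibGen4.dim_fiber_le_iff f s c).2 fun x _ => h x⟩

theorem fibreDimAt_closed_comp {W X S : Scheme.{u}} (k : W ⟶ X) [IsClosedImmersion k] (f : X ⟶ S)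
    [LocallyOfFiniteType f] (w : W) : FlatMor.fibreDimAt (k ≫ f) w ≤ FlatMor.fibreDimAt f (k w) := by
  refine (fibreDimAt_comp_le k f w).trans ?_
  rw [fibreDimAt_eq_zero k, zero_add]

variable {I : Type u} [SmallCategory I] [IsCofiltered I] {DX DS : I ⥤ Scheme.{u}} (φ : DX ⟶ DS)

omit [IsCofiltered I] in
theorem fibreDimAt_mono {i j : I} (a : i ⟶ j) [IsClosedImmersion (graphMap φ a)]
    [LocallyOfFiniteType (φ.app j)] (x : DX.obj i) :
    FlatMor.fibreDimAt (φ.app i) x ≤ FlatMor.fibreDimAt (φ.app j) (DX.map a x) := by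
  haveI : LocallyOfFiniteType (pullback.snd (φ.app j) (DS.map a)) := MorphismProperty.pullback_snd _ _ inferInstance
  conv_lhs => rw [← graphMap_snd φ a]
  refine (fibreDimAt_closed_comp (graphMap φ a) _ x).trans_eq ?_
  rw [fibreDimAt_baseChange (IsPullback.of_hasPullback (φ.app j) (DS.map a)), ← Scheme.Hom.comp_apply,
    graphMap_fst]

variable {cX : Cone DX} {cS : Cone DS}

/-- If the fibre dimension is bounded at the limit then, near every point, at a stage. -/
theorem exists_fibreDimAt_le_stage (hcX : IsLimit cX) (hcS : IsLimit cS)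
    (hcl : ∀ {i j : I} (a : i ⟶ j), IsClosedImmersion (graphMap φ a))
    [∀ {i j : I} (a : i ⟶ j), IsAffineHom (DS.map a)]
    [∀ i, LocallyOfFiniteType (φ.app i)] [∀ i, QuasiCompact (φ.app i)]
    (f : cX.pt ⟶ cS.pt) (hf : ∀ p, cX.π.app p ≫ φ.app p = f ≫ cS.π.app p) (d : ℕ)
    (hd : ∀ x, FlatMor.fibreDimAt f x ≤ (d : WithBot ℕ∞)) (x : cX.pt) :
    ∃ i, FlatMor.fibreDimAt (φ.app i) (cX.π.app i x) ≤ (d : WithBot ℕ∞) := by
  classical
  let E := baseDiag φ (cS := cS)
  let e := baseCone φ f hf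
  have he : IsLimit e := isLimitBaseCone φ f hf hcX hcS
  have hEcl : ∀ {i j : I} (a : i ⟶ j), IsClosedImmersion (E.map a) := fun a => by
    haveI := hcl a
    exact isClosedImmersion_trans φ a
  haveI : ∀ {i j : I} (a : i ⟶ j), IsAffineHom (E.map a) := fun a => by haveI := hEcl a; infer_instance
  obtain ⟨i₀⟩ := IsCofiltered.nonempty (C := I)
  let q : ∀ i, E.obj i ⟶ cS.pt := fun i => pullback.snd (φ.app i) (cS.π.app i)
  haveI hqft : ∀ i, LocallyOfFiniteType (q i) := fun i => MorphismProperty.pullback_snd _ _ inferInstance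
  haveI hqc : ∀ i, QuasiCompact (q i) := fun i => MorphismProperty.pullback_snd _ _ inferInstance
  have hqe : ∀ i, e.π.app i ≫ q i = f := fun i => pullback.lift_snd _ _ _
  haveI : ∀ i, IsClosedImmersion (e.π.app i) := fun i => isClosedImmersion_π he hEcl i
  let s := f x
  let F := (q i₀).fiber s
  haveI : IsLocallyNoetherian F := LocallyOfFiniteType.isLocallyNoetherian (toPt (q i₀) s)
  haveI : CompactSpace F := by
    haveI : QuasiCompact (toPt (q i₀) s) := MorphismProperty.pullback_snd _ _ inferInstance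
    exact QuasiCompact.compactSpace_of_compactSpace (toPt (q i₀) s)
  haveI : IsNoetherian F := ⟨⟩
  let A : Over i₀ → Closeds F := fun k =>
    ⟨(q i₀).fiberι s ⁻¹' Set.range (E.map k.hom),
      (show IsClosed (Set.range (E.map k.hom)) by
        haveI := hEcl k.hom; exact (E.map k.hom).isClosedEmbedding.isClosed_range).preimage
        ((q i₀).fiberι s).continuous⟩
  obtain ⟨T, ⟨k₁, rfl⟩, hmin⟩ := (wellFounded_lt (α := Closeds F)).has_min (Set.range A) ⟨_, Over.mk (𝟙 i₀), rfl⟩
  have hstab : ∀ k : Over i₀, (A k₁ : Set F) ⊆ A k := by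
    intro k z hz
    let m := IsCofiltered.min k k₁
    let a := IsCofiltered.minToLeft k k₁
    let b := IsCofiltered.minToRight k k₁
    have h1 : A m ≤ A k₁ := fun y hy => by
      obtain ⟨w, hw⟩ := hy
      exact ⟨E.map b.left w, by rw [← Scheme.Hom.comp_apply, ← E.map_comp, Over.w b]; exact hw⟩
    have h2 : A m = A k₁ := eq_of_le_of_not_lt h1 (hmin (A m) ⟨m, rfl⟩)
    obtain ⟨w, hw⟩ := h2.symm.le hz
    exact ⟨E.map a.left w, by rw [← Scheme.Hom.comp_apply, ← E.map_comp, Over.w a]; exact hw⟩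
  refine ⟨k₁.left, ?_⟩
  have hx : pullback.fst (φ.app k₁.left) (cS.π.app k₁.left) (e.π.app k₁.left x) = cX.π.app k₁.left x := by
    exact (Scheme.Hom.comp_apply (e.π.app k₁.left) (pullback.fst (φ.app k₁.left) (cS.π.app k₁.left)) x).symm.trans
      (congrArg (fun m : cX.pt ⟶ DX.obj k₁.left => m x) (pullback.lift_fst _ _ _))
  rw [← hx, ← fibreDimAt_baseChange (IsPullback.of_hasPullback (φ.app k₁.left) (cS.π.app k₁.left))]
  refine (fibreDimAt_le_iff (q k₁.left)).2 fun y hy hqy => ?_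
  have hy0 : q k₁.left y = s := by
    rw [hqy]
    exact (Scheme.Hom.comp_apply _ _ _).symm.trans (congrArg (fun m => m x) (hqe k₁.left))
  have hy1 : q i₀ (E.map k₁.hom y) = s := by
    rw [← hy0, ← Scheme.Hom.comp_apply]
    exact congrArg (fun m => m y) (FPSys.trans_snd φ k₁.hom)
  let z := ((q i₀).fiberHomeo s).symm ⟨E.map k₁.hom y, hy1⟩
  have hz : (q i₀).fiberι s z = E.map k₁.hom y := (q i₀).fiberι_fiberHomeo_symm _ _
  have hzA : ∀ k : Over i₀, ∃ w, E.map k.hom w = E.map k₁.hom y := fun k => by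
    obtain ⟨w, hw⟩ := hstab k (show z ∈ (A k₁ : Set F) from ⟨y, hz.symm⟩)
    exact ⟨w, hw.trans hz⟩
  choose w hw using hzA
  haveI : ∀ {k l : Over i₀} (a : k ⟶ l), IsAffineHom ((Over.forget i₀ ⋙ E).map a) := fun a =>
    inferInstanceAs (IsAffineHom (E.map a.left))
  obtain ⟨y', hy'⟩ := exists_limit_point (D := Over.forget i₀ ⋙ E) (c := e.whisker (Over.forget i₀))
    ((Functor.Initial.isLimitWhiskerEquiv (Over.forget i₀) e).symm he) w fun {k l} a => by
      haveI := hEcl l.hom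
      refine (E.map l.hom).isEmbedding.injective ?_
      rw [hw l, ← hw k]
      change E.map l.hom (E.map a.left (w k)) = E.map k.hom (w k)
      rw [← Scheme.Hom.comp_apply, ← E.map_comp, Over.w a]
  have hy'y : e.π.app k₁.left y' = y := by
    refine (hy' k₁).trans ?_
    haveI := hEcl k₁.hom
    exact (E.map k₁.hom).isEmbedding.injective (hw k₁)
  haveI hfft : LocallyOfFiniteType f := by rw [← hqe i₀]; infer_instance
  have h1 : rd f y' ≤ d := (fibreDimAt_le_iff f).1 (hd y') y' specializes_rfl rfl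
  have h2 := rd_comp (e.π.app k₁.left) (q k₁.left) y'
  rw [rd_of_surjectiveOnStalks (e.π.app k₁.left), hy'y, hqe] at h2
  omega

/-- A bound on fibre dimension at the limit holds at a stage. -/
theorem exists_fibreDimAt_le (hcX : IsLimit cX) (hcS : IsLimit cS)
    (hcl : ∀ {i j : I} (a : i ⟶ j), IsClosedImmersion (graphMap φ a))
    [∀ {i j : I} (a : i ⟶ j), IsAffineHom (DS.map a)] [∀ i, CompactSpace (DS.obj i)]
    [∀ i, LocallyOfFiniteType (φ.app i)] [∀ i, QuasiCompact (φ.app i)] (d : ℕ)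
    (hd : ∀ x : cX.pt, ∃ i, FlatMor.fibreDimAt (φ.app i) (cX.π.app i x) ≤ (d : WithBot ℕ∞)) :
    ∃ i, ∀ y : DX.obj i, FlatMor.fibreDimAt (φ.app i) y ≤ (d : WithBot ℕ∞) := by
  classical
  haveI : ∀ {i j : I} (a : i ⟶ j), IsAffineHom (DX.map a) := fun {i j} a => by
    haveI := hcl a
    rw [← graphMap_fst φ a]
    haveI : IsAffineHom (pullback.fst (φ.app j) (DS.map a)) := MorphismProperty.pullback_fst _ _ inferInstance
    infer_instance
  haveI : ∀ i, CompactSpace (DX.obj i) := fun i => QuasiCompact.compactSpace_of_compactSpace (φ.app i)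
  obtain ⟨i₀⟩ := IsCofiltered.nonempty (C := I)
  haveI : IsAffineHom (cX.π.app i₀) := isAffineHom_π_app DX cX hcX i₀
  haveI : CompactSpace cX.pt := QuasiCompact.compactSpace_of_compactSpace (cX.π.app i₀)
  let U : ∀ i, (DX.obj i).Opens := fun i =>
    ⟨{y | FlatMor.fibreDimAt (φ.app i) y ≤ (d : WithBot ℕ∞)}, isOpen_fibreDimAt_le _ d⟩
  choose ix hix using hd
  obtain ⟨t, ht⟩ := (isCompact_univ (X := cX.pt)).elim_finite_subcover
    (fun x => ((cX.π.app (ix x) ⁻¹ᵁ U (ix x) : cX.pt.Opens) : Set cX.pt)) (fun x => (cX.π.app (ix x) ⁻¹ᵁ U (ix x)).2)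
    (fun x _ => Set.mem_iUnion.mpr ⟨x, hix x⟩)
  obtain ⟨m, hm⟩ := IsCofiltered.inf_objs_exists (insert i₀ (t.image ix))
  have hall : ∀ x, cX.π.app m x ∈ U m := fun x => by
    obtain ⟨y, hy, hxy⟩ := Set.mem_iUnion₂.mp (ht (Set.mem_univ x))
    let a := (hm (Finset.mem_insert_of_mem (Finset.mem_image_of_mem ix hy))).some
    haveI := hcl a
    refine (fibreDimAt_mono φ a _).trans ?_
    rw [← Scheme.Hom.comp_apply, cX.w]
    exact hxy
  obtain ⟨j, a, hj⟩ := exists_map_preimage_le_map_preimage DX cX hcX (i := m) (U := ⊤) (V := U m)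
    isCompact_univ (fun x _ => hall x)
  haveI := hcl a
  exact ⟨j, fun y => (fibreDimAt_mono φ a y).trans (hj (show y ∈ DX.map a ⁻¹ᵁ ⊤ from trivial))⟩

end Groth.Agent.LimH13
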