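import Groth.Agent.Lib.LimH13.Eventually
import Groth.Agent.Lib.Chow13.General
import Groth.Agent.Lib.Descend.Stage

/-!
# Morphisms of systems which become proper at the limit
-/

universe u

open CategoryTheory Limits AlgebraicGeometry Groth.Agent.Descend

set_option backward.isDefEq.respectTransparency false
set_option backward.isDefEq.respectTransparency.types false
set_option linter.style.haveILetI false

noncomputable section

namespace Groth.Agent.LimH13

variable {I : Type u} [SmallCategory I] {DX DE : I ⥤ Scheme.{u}} (h : DX ⟶ DE) (i₀ : I) {n : ℕ}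
  {X' : Scheme.{u}} (π : X' ⟶ DX.obj i₀) (j : X' ⟶ CohB1.ProjSpaceOver n (DE.obj i₀))

/-- The modified system of sources. -/
abbrev chowDX : Over i₀ ⥤ Scheme.{u} := pbDiagram (Over.forget i₀ ⋙ DX) (overT DX i₀) π

/-- The system of projective spaces. -/
abbrev chowDE (DE : I ⥤ Scheme.{u}) (i₀ : I) (n : ℕ) : Over i₀ ⥤ Scheme.{u} :=
  pbDiagram (Over.forget i₀ ⋙ DE) (overT DE i₀) (CohB1.ProjSpaceOver.toBase n (DE.obj i₀))

variable (hj : j ≫ CohB1.ProjSpaceOver.toBase n (DE.obj i₀) = π ≫ h.app i₀)

/-- The morphism of modified systems. -/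
def chowMor : chowDX i₀ π ⟶ chowDE DE i₀ n where
  app k := pullback.lift (pullback.fst π ((overT DX i₀).app k) ≫ j)
    (pullback.snd π ((overT DX i₀).app k) ≫ h.app k.left)
    (by
      rw [Category.assoc, hj, pullback.condition_assoc]
      change _ = (pullback.snd π (DX.map k.hom) ≫ h.app k.left) ≫ DE.map k.hom
      simp only [Category.assoc]
      exact congrArg _ (h.naturality k.hom))
  naturality k l a := by
    apply pullback.hom_ext
    · simp [chowDE, chowDX, pbDiagram]
    · simp [chowDE, chowDX, pbDiagram]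

theorem chowMor_snd (k : Over i₀) :
    (chowMor h i₀ π j hj).app k ≫ pullback.snd (CohB1.ProjSpaceOver.toBase n (DE.obj i₀)) ((overT DE i₀).app k) =
      pullback.snd π ((overT DX i₀).app k) ≫ h.app k.left :=
  pullback.lift_snd _ _ _

theorem chowMor_fst (k : Over i₀) :
    (chowMor h i₀ π j hj).app k ≫ pullback.fst (CohB1.ProjSpaceOver.toBase n (DE.obj i₀)) ((overT DE i₀).app k) =
      pullback.fst π ((overT DX i₀).app k) ≫ j :=
  pullback.lift_fst _ _ _

theorem isClosedImmersion_graphMap_chowMor {k l : Over i₀} (a : k ⟶ l) [IsAffineHom (DE.map k.hom)]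
    [IsClosedImmersion (graphMap h a.left)] :
    IsClosedImmersion (graphMap (chowMor h i₀ π j hj) a) := by
  let sX := fun k : Over i₀ => pullback.snd π ((overT DX i₀).app k)
  let sE := fun k : Over i₀ => pullback.snd (CohB1.ProjSpaceOver.toBase n (DE.obj i₀)) ((overT DE i₀).app k)
  let h' := chowMor h i₀ π j hj
  let Q := pullback (sX l ≫ h.app l.left) (DE.map a.left)
  let m : pullback (h'.app l) ((chowDE DE i₀ n).map a) ⟶ Q :=
    pullback.lift (pullback.fst _ _) (pullback.snd _ _ ≫ sE k) (by
      rw [Category.assoc, ← chowMor_snd h i₀ π j hj l, ← Category.assoc, pullback.condition, Category.assoc]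
      exact congrArg _ (pbMap_snd (Over.forget i₀ ⋙ DE) (overT DE i₀) _ a))
  haveI : IsSeparated m := by
    haveI : IsSeparated (m ≫ pullback.fst _ _) := by
      rw [pullback.lift_fst]
      haveI : IsSeparated ((chowDE DE i₀ n).map a) := by
        haveI : IsSeparated ((chowDE DE i₀ n).map a ≫ pullback.fst _ _) := by
          rw [pbMap_fst]
          haveI : IsSeparated ((overT DE i₀).app k) := inferInstanceAs (IsSeparated (DE.map k.hom))
          exact MorphismProperty.pullback_fst _ _ ‹_›
        exact IsSeparated.of_comp _ (pullback.fst _ _)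
      exact MorphismProperty.pullback_fst _ _ inferInstance
    exact IsSeparated.of_comp m (pullback.fst _ _)
  let G : (chowDX i₀ π).obj k ⟶ Q := pullback.lift ((chowDX i₀ π).map a) (sX k ≫ h.app k.left) (by
    rw [← Category.assoc, Category.assoc (sX k)]
    have h1 : (chowDX i₀ π).map a ≫ sX l = sX k ≫ DX.map a.left :=
      pbMap_snd (Over.forget i₀ ⋙ DX) (overT DX i₀) π a
    rw [h1, Category.assoc, h.naturality]
    rfl)
  have hG : graphMap h' a ≫ m = G := by
    apply pullback.hom_ext
    · simp [m, G, h']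
    · simp only [m, G, Category.assoc, pullback.lift_snd, graphMap_snd_assoc]
      exact chowMor_snd h i₀ π j hj k
  let R := pullback (h.app l.left) (DE.map a.left)
  let r : Q ⟶ R := pullback.lift (pullback.fst _ _ ≫ sX l) (pullback.snd _ _)
    (by rw [Category.assoc, pullback.condition])
  have hr : IsPullback (pullback.fst (sX l ≫ h.app l.left) (DE.map a.left)) r (sX l)
      (pullback.fst (h.app l.left) (DE.map a.left)) := by
    refine IsPullback.of_bot (v₂₁ := pullback.snd _ _) (v₂₂ := h.app l.left) (h₃₁ := DE.map a.left) ?_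
      (pullback.lift_fst _ _ _).symm (IsPullback.of_hasPullback _ _)
    rw [pullback.lift_snd]
    exact IsPullback.of_hasPullback _ _
  have hGr : IsPullback G (sX k) r (graphMap h a.left) := by
    refine IsPullback.of_right ?_ ?_ hr
    · rw [pullback.lift_fst, graphMap_fst]
      exact pbMap_isPullback (Over.forget i₀ ⋙ DX) (overT DX i₀) π a
    · apply pullback.hom_ext
      · simp only [Category.assoc, G, r, pullback.lift_fst, pullback.lift_fst_assoc, graphMap_fst]
        exact pbMap_snd (Over.forget i₀ ⋙ DX) (overT DX i₀) π a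
      · simp [G, r]
  haveI : IsClosedImmersion G := MorphismProperty.of_isPullback hGr.flip inferInstance
  haveI : IsClosedImmersion (graphMap h' a ≫ m) := by rw [hG]; infer_instance
  exact IsClosedImmersion.of_comp (graphMap h' a) m

variable [IsCofiltered I] {cX : Cone DX} {cE : Cone DE}

/-- A morphism of systems which is proper at the limit is proper at a finite stage. -/
theorem exists_isProper_app {P : Scheme.{u}} (eE : DE ⟶ (Functor.const I).obj P)
    [CompactSpace P] [QuasiSeparatedSpace P] (hcX : IsLimit cX) (hcE : IsLimit cE)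
    [∀ {i j : I} (a : i ⟶ j), IsAffineHom (DX.map a)] [∀ {i j : I} (a : i ⟶ j), IsAffineHom (DE.map a)]
    [∀ i, CompactSpace (DX.obj i)] [∀ i, QuasiSeparatedSpace (DX.obj i)]
    [∀ i, IsAffineHom (eE.app i)] [∀ i, LocallyOfFiniteType (h.app i)]
    (hcl : ∀ {i j : I} (a : i ⟶ j), IsClosedImmersion (graphMap h a))
    (i₀ : I) [IsSeparated (h.app i₀)]
    (g : cX.pt ⟶ cE.pt) (hg : ∀ i, g ≫ cE.π.app i = cX.π.app i ≫ h.app i) [IsProper g] :
    ∃ (i : I) (_ : i ⟶ i₀), ∀ (k : I) (_ : k ⟶ i), IsProper (h.app k) := by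
  haveI : ∀ i, CompactSpace (DE.obj i) := fun i => compactSpace_obj DE eE i
  haveI : ∀ i, QuasiSeparatedSpace (DE.obj i) := fun i => quasiSeparatedSpace_obj DE eE i
  haveI : QuasiCompact (h.app i₀) := inferInstance
  obtain ⟨n, X', π, j, hjim, hj, hπ, hπs⟩ := Chow13.chow (h.app i₀)
  haveI := hjim
  haveI := hπ
  haveI := hπs
  let h' := chowMor h i₀ π j hj
  let b := CohB1.ProjSpaceOver.toBase n (DE.obj i₀)
  let F := Over.forget i₀
  have hcX₀ : IsLimit (cX.whisker F) := (Functor.Initial.isLimitWhiskerEquiv F cX).symm hcX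
  have hcE₀ : IsLimit (cE.whisker F) := (Functor.Initial.isLimitWhiskerEquiv F cE).symm hcE
  have hqX : ∀ k, (cX.whisker F).π.app k ≫ (overT DX i₀).app k = cX.π.app i₀ := fun k => cX.w k.hom
  have hqE : ∀ k, (cE.whisker F).π.app k ≫ (overT DE i₀).app k = cE.π.app i₀ := fun k => cE.w k.hom
  let cX' := pbCone (F ⋙ DX) (overT DX i₀) π (cX.whisker F) hqX (IsPullback.of_hasPullback π (cX.π.app i₀))
  let cE' := pbCone (F ⋙ DE) (overT DE i₀) b (cE.whisker F) hqE (IsPullback.of_hasPullback b (cE.π.app i₀))
  have hcX' : IsLimit cX' := pbIsLimit _ _ _ _ hqX _ hcX₀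
  have hcE' : IsLimit cE' := pbIsLimit _ _ _ _ hqE _ hcE₀
  let g' : pullback π (cX.π.app i₀) ⟶ pullback b (cE.π.app i₀) :=
    pullback.map _ _ _ _ j g (h.app i₀) hj.symm (hg i₀).symm
  haveI : IsProper (g' ≫ pullback.snd b (cE.π.app i₀)) := by
    rw [pullback.lift_snd]
    haveI : IsProper (pullback.snd π (cX.π.app i₀)) := MorphismProperty.pullback_snd _ _ inferInstance
    infer_instance
  haveI : IsProper g' := IsProper.of_comp g' (pullback.snd b (cE.π.app i₀))
  haveI : Mono g' := ⟨fun {T} x y hxy => by
    have h1 : x ≫ pullback.fst π (cX.π.app i₀) = y ≫ pullback.fst π (cX.π.app i₀) := by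
      rw [← cancel_mono j]
      simpa [g'] using congrArg (· ≫ pullback.fst _ _) hxy
    have h2 : x ≫ pullback.snd π (cX.π.app i₀) ≫ g = y ≫ pullback.snd π (cX.π.app i₀) ≫ g := by
      simpa [g'] using congrArg (· ≫ pullback.snd _ _) hxy
    refine pullback.hom_ext h1 (hcX₀.hom_ext fun k => ?_)
    haveI := hcl k.hom
    change (x ≫ pullback.snd π (cX.π.app i₀)) ≫ cX.π.app k.left = (y ≫ pullback.snd π (cX.π.app i₀)) ≫ cX.π.app k.left
    rw [← cancel_mono (graphMap h k.hom)]
    apply pullback.hom_ext
    · simp only [Category.assoc, graphMap_fst, cX.w, ← pullback.condition]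
      rw [← Category.assoc, h1, Category.assoc]
    · simp only [Category.assoc, graphMap_snd, ← hg]
      simpa only [Category.assoc] using congrArg (· ≫ cE.π.app k.left) h2⟩
  haveI : IsClosedImmersion g' := (IsClosedImmersion.iff_isProper_and_mono g').mpr ⟨inferInstance, inferInstance⟩
  let eE' := pbFst (F ⋙ DE) (overT DE i₀) b
  haveI : ∀ {k l : Over i₀} (a : k ⟶ l), IsAffineHom ((F ⋙ DX).map a) := fun a =>
    inferInstanceAs (IsAffineHom (DX.map a.left))
  haveI : CompactSpace X' := QuasiCompact.compactSpace_of_compactSpace π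
  haveI : QuasiSeparatedSpace X' := quasiSeparatedSpace_of_quasiSeparated π
  haveI : CompactSpace (CohB1.ProjSpaceOver n (DE.obj i₀)) := QuasiCompact.compactSpace_of_compactSpace b
  haveI : QuasiSeparatedSpace (CohB1.ProjSpaceOver n (DE.obj i₀)) := quasiSeparatedSpace_of_quasiSeparated b
  haveI : ∀ k, LocallyOfFiniteType (h'.app k) := fun k => by
    haveI : LocallyOfFiniteType (h'.app k ≫ pullback.snd b ((overT DE i₀).app k)) := by
      rw [chowMor_snd]
      haveI : LocallyOfFiniteType (pullback.snd π ((overT DX i₀).app k)) :=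
        MorphismProperty.pullback_snd _ _ inferInstance
      haveI : LocallyOfFiniteType (h.app k.left) := inferInstance
      exact MorphismProperty.comp_mem _ _ _ ‹_› ‹_›
    exact locallyOfFiniteType_of_comp _ (pullback.snd b ((overT DE i₀).app k))
  have hg' : ∀ k, g' ≫ cE'.π.app k = cX'.π.app k ≫ h'.app k := fun k => by
    apply pullback.hom_ext
    · rw [Category.assoc, Category.assoc, chowMor_fst, pbCone_fst, pbCone_fst_assoc, pullback.lift_fst]
    · rw [Category.assoc, Category.assoc, chowMor_snd, pbCone_snd, pbCone_snd_assoc, pullback.lift_snd_assoc,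
        Category.assoc]
      exact congrArg _ (hg k.left)
  haveI : IsClosedImmersion (g' : cX'.pt ⟶ cE'.pt) := ‹IsClosedImmersion g'›
  obtain ⟨k₁, hk₁⟩ := exists_isClosedImmersion_app h' eE' hcX' hcE'
    (fun a => by haveI := hcl a.left; exact isClosedImmersion_graphMap_chowMor h i₀ π j hj a) g' hg'
  haveI hproper : IsProper (h.app k₁.left) := by
    haveI : IsProper (pullback.snd π ((overT DX i₀).app k₁)) := MorphismProperty.pullback_snd _ _ inferInstance
    haveI : Surjective (pullback.snd π ((overT DX i₀).app k₁)) := MorphismProperty.pullback_snd _ _ inferInstance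
    haveI : IsProper (pullback.snd b ((overT DE i₀).app k₁)) := MorphismProperty.pullback_snd _ _ inferInstance
    haveI := hk₁
    haveI : IsProper (pullback.snd π ((overT DX i₀).app k₁) ≫ h.app k₁.left) := by
      rw [← chowMor_snd h i₀ π j hj k₁]
      haveI : IsProper ((chowMor h i₀ π j hj).app k₁) := inferInstance
      exact MorphismProperty.comp_mem _ _ _ ‹_› ‹_›
    haveI : UniversallyClosed (h.app k₁.left) :=
      UniversallyClosed.of_comp_surjective (pullback.snd π ((overT DX i₀).app k₁)) _
    haveI : IsSeparated (h.app k₁.left) := by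
      haveI := hcl k₁.hom
      haveI : IsSeparated (pullback.snd (h.app i₀) (DE.map k₁.hom)) :=
        MorphismProperty.pullback_snd _ _ inferInstance
      rw [← graphMap_snd h k₁.hom]
      infer_instance
    exact { }
  refine ⟨k₁.left, k₁.hom, fun k a => ?_⟩
  haveI := hcl a
  haveI : IsProper (pullback.snd (h.app k₁.left) (DE.map a)) := MorphismProperty.pullback_snd _ _ inferInstance
  rw [← graphMap_snd h a]
  infer_instance

end Groth.Agent.LimH13
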