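import Groth.Agent.Lib.LimH13.FiniteFP

/-!
# Integral morphisms are limits of finite morphisms of finite presentation
-/

universe u

open CategoryTheory Limits AlgebraicGeometry Opposite TopologicalSpace

set_option backward.isDefEq.respectTransparency false
set_option backward.isDefEq.respectTransparency.types false
set_option linter.style.haveILetI false
set_option linter.unusedSectionVars false

noncomputable section

namespace Groth.Agent.LimH13.FinPairs

variable {I : Type u} [Preorder I] {S X : Scheme.{u}} (D : Iᵒᵖ ⥤ Over S) (h : ∀ p : I, X ⟶ (D.obj (op p)).left)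
  (p₁ : I)

/-- The transition map. -/
abbrev tr {p q : I} (hpq : p ≤ q) : (D.obj (op q)).left ⟶ (D.obj (op p)).left :=
  (D.map (homOfLE hpq).op).left

theorem tr_refl (p : I) : tr D (le_refl p) = 𝟙 _ := by
  rw [tr, show (homOfLE (le_refl p)).op = 𝟙 (op p) from rfl, D.map_id]
  rfl

theorem tr_trans {p q r : I} (h₁ : p ≤ q) (h₂ : q ≤ r) : tr D h₂ ≫ tr D h₁ = tr D (h₁.trans h₂) := by
  rw [tr, tr, ← Over.comp_left, ← D.map_comp]
  rfl

/-- Finite closed subschemes of finite presentation at the stages. -/
def Stage : Type u :=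
  {x : Σ p : I, (D.obj (op p)).left.IdealSheafData //
    p₁ ≤ x.1 ∧ IFG x.2 ∧ x.2 ≤ (h x.1).ker ∧ IsFinite (x.2.subschemeι ≫ (D.obj (op x.1)).hom)}

instance : Preorder (Stage D h p₁) where
  le x y := ∃ hpq : x.1.1 ≤ y.1.1, x.1.2.comap (tr D hpq) ≤ y.1.2
  le_refl x := ⟨le_rfl, by rw [tr_refl, Scheme.IdealSheafData.comap_id]⟩
  le_trans := by
    rintro x y z ⟨h₁, H₁⟩ ⟨h₂, H₂⟩
    refine ⟨h₁.trans h₂, ?_⟩
    rw [← tr_trans D h₁ h₂, Scheme.IdealSheafData.comap_comp]
    exact (Scheme.IdealSheafData.comap_mono _ H₁).trans H₂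

variable {D h p₁}

/-- The index of a stage. -/
abbrev Stage.idx (x : Stage D h p₁) : I := x.1.1

/-- The ideal of a stage. -/
abbrev Stage.ideal (x : Stage D h p₁) : (D.obj (op x.idx)).left.IdealSheafData := x.1.2

theorem Stage.idx_le {x y : Stage D h p₁} (hxy : x ≤ y) : x.idx ≤ y.idx := hxy.1

theorem Stage.ker_le {x y : Stage D h p₁} (hxy : x ≤ y) :
    x.ideal.subschemeι.ker ≤ (y.ideal.subschemeι ≫ tr D (Stage.idx_le hxy)).ker := by
  rw [Scheme.IdealSheafData.ker_subschemeι]
  change x.ideal ≤ y.ideal.map (tr D _)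
  rw [Scheme.IdealSheafData.le_map_iff_comap_le]
  exact hxy.2

/-- The transition maps of the stages. -/
def transHom {x y : Stage D h p₁} (hxy : x ≤ y) : y.ideal.subscheme ⟶ x.ideal.subscheme :=
  IsClosedImmersion.lift x.ideal.subschemeι (y.ideal.subschemeι ≫ tr D (Stage.idx_le hxy)) (Stage.ker_le hxy)

theorem transHom_ι {x y : Stage D h p₁} (hxy : x ≤ y) :
    transHom hxy ≫ x.ideal.subschemeι = y.ideal.subschemeι ≫ tr D (Stage.idx_le hxy) :=
  IsClosedImmersion.lift_fac _ _ _

variable (D h p₁)

/-- The system of stages. -/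
def diag : (Stage D h p₁)ᵒᵖ ⥤ Over S where
  obj x := Over.mk (x.unop.ideal.subschemeι ≫ (D.obj (op x.unop.idx)).hom)
  map {x y} a := Over.homMk (transHom a.unop.le) (by
    change transHom a.unop.le ≫ y.unop.ideal.subschemeι ≫ _ = _
    rw [← Category.assoc, transHom_ι, Category.assoc]
    exact congrArg _ (Over.w (D.map _)))
  map_id x := by
    refine Over.OverMorphism.ext ((cancel_mono x.unop.ideal.subschemeι).mp ?_)
    change transHom (le_refl x.unop) ≫ x.unop.ideal.subschemeι = 𝟙 _ ≫ x.unop.ideal.subschemeι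
    rw [transHom_ι, tr_refl, Category.comp_id, Category.id_comp]
  map_comp {x y z} a b := by
    refine Over.OverMorphism.ext ((cancel_mono z.unop.ideal.subschemeι).mp ?_)
    change transHom (a ≫ b).unop.le ≫ z.unop.ideal.subschemeι =
      (transHom a.unop.le ≫ transHom b.unop.le) ≫ z.unop.ideal.subschemeι
    rw [transHom_ι, Category.assoc, transHom_ι, ← Category.assoc, transHom_ι, Category.assoc, tr_trans]

variable {D h p₁} (f : X ⟶ S) (hf : ∀ p, h p ≫ (D.obj (op p)).hom = f)
  (hw : ∀ {p q : I} (hpq : p ≤ q), h q ≫ tr D hpq = h p)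

/-- The cone from `X`. -/
def cone : Cone (diag D h p₁) where
  pt := Over.mk f
  π :=
    { app := fun x => Over.homMk (IsClosedImmersion.lift x.unop.ideal.subschemeι (h x.unop.idx)
          (by rw [Scheme.IdealSheafData.ker_subschemeι]; exact x.unop.2.2.2.1)) (by
          change IsClosedImmersion.lift x.unop.ideal.subschemeι (h x.unop.idx) _ ≫
            x.unop.ideal.subschemeι ≫ _ = f
          rw [IsClosedImmersion.lift_fac_assoc, hf])
      naturality := fun x y a => by
        refine Over.OverMorphism.ext ((cancel_mono y.unop.ideal.subschemeι).mp ?_)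
        change (𝟙 X ≫ IsClosedImmersion.lift y.unop.ideal.subschemeι (h y.unop.idx) _) ≫ _ =
          (IsClosedImmersion.lift x.unop.ideal.subschemeι (h x.unop.idx) _ ≫ transHom a.unop.le) ≫ _
        rw [Category.id_comp, IsClosedImmersion.lift_fac, Category.assoc, transHom_ι,
          IsClosedImmersion.lift_fac_assoc, hw] }

theorem cone_π_ι (x : (Stage D h p₁)ᵒᵖ) :
    ((cone (D := D) (h := h) (p₁ := p₁) f hf hw).π.app x).left ≫ x.unop.ideal.subschemeι = h x.unop.idx :=
  IsClosedImmersion.lift_fac _ _ _

variable (hex : ∀ p : I, p₁ ≤ p → ∃ x : Stage D h p₁, x.idx = p)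
  (hdir : IsDirected (Stage D h p₁) (fun a b => a ≤ b))
  [IsDirected I (fun a b => a ≤ b)] [QuasiSeparatedSpace S] [CompactSpace X] [QuasiSeparatedSpace X]

section

variable (s : Cone (diag D h p₁))

/-- The component of a cone at a stage. -/
def comp (x : Stage D h p₁) : s.pt.left ⟶ (D.obj (op x.idx)).left :=
  (s.π.app (op x)).left ≫ x.ideal.subschemeι

theorem comp_w {x y : Stage D h p₁} (hxy : x ≤ y) :
    comp s y ≫ tr D (Stage.idx_le hxy) = comp s x := by
  change ((s.π.app (op y)).left ≫ _) ≫ _ = (s.π.app (op x)).left ≫ _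
  rw [Category.assoc, ← transHom_ι hxy, ← Category.assoc]
  congr 1
  exact congrArg (fun k => k.left) (s.w (homOfLE hxy).op)

include hdir in
theorem comp_tr {x y : Stage D h p₁} {p : I} (hx : p ≤ x.idx) (hy : p ≤ y.idx) :
    comp s x ≫ tr D hx = comp s y ≫ tr D hy := by
  obtain ⟨z, hxz, hyz⟩ := hdir.directed x y
  rw [← comp_w s hxz, ← comp_w s hyz, Category.assoc, Category.assoc, tr_trans, tr_trans]

include hex in
theorem exists_stage_ge (p : I) : ∃ x : Stage D h p₁, p ≤ x.idx := by
  obtain ⟨q, hq₁, hq⟩ := exists_ge_ge p₁ p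
  obtain ⟨x, rfl⟩ := hex q hq₁
  exact ⟨x, hq⟩

/-- The component of a cone at an index. -/
def compAt (p : I) : s.pt.left ⟶ (D.obj (op p)).left :=
  comp s (exists_stage_ge hex p).choose ≫ tr D (exists_stage_ge hex p).choose_spec

include hdir in
theorem compAt_eq {p : I} {x : Stage D h p₁} (hx : p ≤ x.idx) :
    compAt hex s p = comp s x ≫ tr D hx := comp_tr hdir s _ hx

/-- The cone over the original system. -/
def origCone : Cone D where
  pt := s.pt
  π :=
    { app := fun p => Over.homMk (compAt hex s p.unop) (by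
        change compAt hex s p.unop ≫ (D.obj p).hom = _
        unfold compAt
        rw [Category.assoc, Over.w (D.map _)]
        change ((s.π.app (op _)).left ≫ (Stage.ideal _).subschemeι) ≫ _ = _
        rw [Category.assoc]
        exact Over.w (s.π.app (op _)))
      naturality := fun p q a => by
        refine Over.OverMorphism.ext ?_
        change 𝟙 _ ≫ compAt hex s q.unop = compAt hex s p.unop ≫ (D.map a).left
        rw [Category.id_comp, compAt_eq hex hdir s (le_trans a.unop.le (exists_stage_ge hex p.unop).choose_spec)]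
        unfold compAt
        rw [Category.assoc]
        congr 1
        exact (tr_trans D a.unop.le (exists_stage_ge hex p.unop).choose_spec).symm }

end

variable {c : Cone D} (hc : IsLimit c) (e : c.pt ≅ Over.mk f)
  (he : ∀ p, h p = e.inv.left ≫ (c.π.app (op p)).left)

/-- `X` is the limit of the stages. -/
def isLimit : IsLimit (cone (D := D) (h := h) (p₁ := p₁) f hf hw) where
  lift s := hc.lift (origCone hex hdir s) ≫ e.hom
  fac s x := by
    refine Over.OverMorphism.ext ((cancel_mono x.unop.ideal.subschemeι).mp ?_)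
    rw [Over.comp_left, Category.assoc, cone_π_ι]
    change ((hc.lift (origCone hex hdir s)).left ≫ e.hom.left) ≫ h x.unop.idx = _
    rw [he, Category.assoc, ← Category.assoc e.hom.left,
      show e.hom.left ≫ e.inv.left = 𝟙 _ from congrArg (fun k => k.left) e.hom_inv_id,
      Category.id_comp, ← Over.comp_left, hc.fac]
    change compAt hex s x.unop.idx = _
    rw [compAt_eq hex hdir s (le_refl x.unop.idx), tr_refl, Category.comp_id]
    rfl
  uniq s g hg := by
    rw [← cancel_mono e.inv, Category.assoc, e.hom_inv_id, Category.comp_id]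
    refine hc.uniq (origCone hex hdir s) _ fun p => ?_
    refine Over.OverMorphism.ext ?_
    change (g.left ≫ e.inv.left) ≫ (c.π.app p).left = compAt hex s p.unop
    obtain ⟨x, hx⟩ := exists_stage_ge hex p.unop
    rw [Category.assoc, ← he p.unop, compAt_eq hex hdir s hx, ← hw hx, ← Category.assoc]
    congr 1
    unfold comp
    rw [← hg (op x), Over.comp_left, Category.assoc]
    exact congrArg _ (cone_π_ι f hf hw (op x)).symm

end Groth.Agent.LimH13.FinPairs
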