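import Groth.Agent.Lib.LimH13.SubAlg
import Mathlib.AlgebraicGeometry.GammaSpecAdjunction
import Mathlib.AlgebraicGeometry.Morphisms.Affine
import Mathlib.AlgebraicGeometry.Morphisms.FiniteType

/-!
# A relative spectrum is the limit of the spectra of its finite type subalgebras
-/

universe u

open CategoryTheory Limits AlgebraicGeometry Opposite TopologicalSpace

set_option backward.isDefEq.respectTransparency false
set_option backward.isDefEq.respectTransparency.types false
set_option backward.defeqAttrib.useBackward true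

noncomputable section

namespace Groth.Agent.LimH13.SubAlg

open RelSpec Groth.Agent.QCGen12

/-- An injective and jointly surjective cocone of rings over a directed set is a colimit. -/
def isColimitOfInjective {J : Type u} [Preorder J] [IsDirected J (· ≤ ·)] [Nonempty J]
    {F : J ⥤ CommRingCat.{u}} (c : Cocone F)
    (hinj : ∀ j, Function.Injective (c.ι.app j).hom)
    (hsurj : ∀ x : c.pt, ∃ j y, (c.ι.app j).hom y = x) : IsColimit c := by
  haveI : IsFiltered J := isFiltered_of_directed_le_nonempty J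
  haveI : ReflectsFilteredColimits (forget CommRingCat.{u}) :=
    ⟨fun _ ↦ reflectsColimitsOfShape_of_reflectsIsomorphisms⟩
  refine isColimitOfReflects (forget CommRingCat.{u}) ?_
  refine Types.FilteredColimit.isColimitOf' _ _ (fun x => ?_) fun j a b h => ⟨j, 𝟙 j, ?_⟩
  · obtain ⟨j, y, h⟩ := hsurj x
    exact ⟨j, y, h.symm⟩
  · rw [hinj j h]

variable {X : Scheme.{u}}

theorem specMap_id (B : QCAlg X) : QCAlg.specMap (𝟙 B) = 𝟙 B.spec := by
  refine colimit.hom_ext fun V => ?_
  change B.ι V.1 V.2 ≫ QCAlg.specMap (𝟙 B) = B.ι V.1 V.2 ≫ 𝟙 _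
  rw [QCAlg.ι_specMap]
  change Spec.map (𝟙 _) ≫ _ = _
  rw [Spec.map_id, Category.id_comp]
  exact (Category.comp_id _).symm

theorem specMap_comp {A B C : QCAlg X} (φ : A ⟶ B) (ψ : B ⟶ C) :
    QCAlg.specMap (φ ≫ ψ) = QCAlg.specMap ψ ≫ QCAlg.specMap φ := by
  refine colimit.hom_ext fun V => ?_
  change C.ι V.1 V.2 ≫ QCAlg.specMap (φ ≫ ψ) = C.ι V.1 V.2 ≫ QCAlg.specMap ψ ≫ QCAlg.specMap φ
  rw [QCAlg.ι_specMap, reassoc_of% (QCAlg.ι_specMap V.1 V.2 ψ), QCAlg.ι_specMap]
  simp [QCAlg.comp_hom, Spec.map_comp]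

instance isAffineHom_specMap {A B : QCAlg X} (φ : A ⟶ B) : IsAffineHom (QCAlg.specMap φ) := by
  haveI : IsAffineHom (QCAlg.specMap φ ≫ A.π) := by rw [QCAlg.specMap_π]; infer_instance
  exact IsAffineHom.of_comp (QCAlg.specMap φ) A.π

theorem locallyOfFiniteType_π {B : QCAlg X} (h : FT B) : LocallyOfFiniteType B.π := by
  refine IsZariskiLocalAtSource.of_openCover B.glueData.cover fun V => ?_
  change LocallyOfFiniteType (B.ι V.1 V.2 ≫ B.π)
  rw [B.ι_π]
  haveI : LocallyOfFiniteType (Spec.map (B.str.app (op V.1))) :=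
    (HasRingHomProperty.Spec_iff (P := @LocallyOfFiniteType)).2 (h ⟨V.1, V.2⟩)
  infer_instance

instance [CompactSpace X] (B : QCAlg X) : CompactSpace B.spec :=
  QuasiCompact.compactSpace_of_compactSpace B.π

instance [QuasiSeparatedSpace X] (B : QCAlg X) : QuasiSeparatedSpace B.spec :=
  quasiSeparatedSpace_of_quasiSeparated B.π

variable (A : QCAlg X) [CompactSpace X] [QuasiSeparatedSpace X]

/-- The system of spectra of finite type subalgebras. -/
def diag : (Idx A)ᵒᵖ ⥤ Scheme.{u} where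
  obj i := i.unop.alg.spec
  map {i j} a := QCAlg.specMap (Idx.trans a.unop.le)
  map_id i := by
    rw [show Idx.trans (𝟙 i).unop.le = 𝟙 _ from
      hom_ext_of_inj i.unop.inj (by rw [Idx.trans_incl, Category.id_comp]), specMap_id]
  map_comp {i j k} a b := by
    rw [← specMap_comp]
    exact congrArg QCAlg.specMap (hom_ext_of_inj i.unop.inj
      (by rw [Idx.trans_incl, Category.assoc, Idx.trans_incl, Idx.trans_incl]))

/-- The cone from the spectrum of the algebra. -/
def cone : Cone (diag A) where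
  pt := A.spec
  π :=
    { app := fun i => QCAlg.specMap i.unop.incl
      naturality := fun i j a => by
        refine (Category.id_comp _).trans ?_
        refine Eq.trans ?_ (specMap_comp _ _)
        exact congrArg QCAlg.specMap (Idx.trans_incl a.unop.le).symm }

variable {A} (s : Cone (diag A))

/-- The base index. -/
def i₀ : (Idx A)ᵒᵖ := op (Classical.arbitrary _)

/-- The structure map of a cone. -/
def coneBase : s.pt ⟶ X := s.π.app i₀ ≫ (i₀ (A := A)).unop.alg.π

theorem coneBase_eq (i : (Idx A)ᵒᵖ) : s.π.app i ≫ i.unop.alg.π = coneBase s := by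
  obtain ⟨k, hi, h0⟩ := exists_ge_ge i.unop (i₀ (A := A)).unop
  rw [coneBase, ← s.w ((homOfLE hi).op : op k ⟶ i), ← s.w ((homOfLE h0).op : op k ⟶ i₀ (A := A))]
  rw [Category.assoc, Category.assoc]
  exact congrArg _ ((QCAlg.specMap_π _).trans (QCAlg.specMap_π _).symm)

theorem range_sub (i : (Idx A)ᵒᵖ) (V : X.Opens) (hV : IsAffineOpen V) :
    Set.range ((coneBase s ⁻¹ᵁ V).ι ≫ s.π.app i) ⊆ Set.range (i.unop.alg.ι V hV) := by
  rintro _ ⟨z, rfl⟩
  have hz : s.π.app i ((coneBase s ⁻¹ᵁ V).ι z) ∈ i.unop.alg.π ⁻¹ᵁ V := by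
    change (coneBase s ⁻¹ᵁ V).ι z ∈ s.π.app i ⁻¹ᵁ (i.unop.alg.π ⁻¹ᵁ V)
    rw [← Scheme.Hom.comp_preimage, coneBase_eq]
    exact z.2
  rw [i.unop.alg.π_preimage V hV] at hz
  exact hz

/-- The components over an affine open. -/
def comp (i : (Idx A)ᵒᵖ) (V : X.Opens) (hV : IsAffineOpen V) :
    (coneBase s ⁻¹ᵁ V).toScheme ⟶ Spec (i.unop.alg.presheaf.obj (op V)) :=
  IsOpenImmersion.lift (i.unop.alg.ι V hV) ((coneBase s ⁻¹ᵁ V).ι ≫ s.π.app i) (range_sub s i V hV)

@[reassoc]
theorem comp_ι (i : (Idx A)ᵒᵖ) (V : X.Opens) (hV : IsAffineOpen V) :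
    comp s i V hV ≫ i.unop.alg.ι V hV = (coneBase s ⁻¹ᵁ V).ι ≫ s.π.app i :=
  IsOpenImmersion.lift_fac ..

variable (A)

/-- The rings over an open. -/
def ringDiag (V : X.Opens) : Idx A ⥤ CommRingCat.{u} where
  obj i := i.alg.presheaf.obj (op V)
  map {i j} a := (Idx.trans a.le).hom.app (op V)
  map_id i := by
    rw [show Idx.trans (𝟙 i : i ⟶ i).le = 𝟙 _ from
      hom_ext_of_inj i.inj (by rw [Idx.trans_incl, Category.id_comp])]
    rfl
  map_comp {i j k} a b := by
    rw [← NatTrans.comp_app, ← QCAlg.comp_hom]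
    exact congrArg (fun φ => (QCAlg.Hom.hom φ).app (op V)) (hom_ext_of_inj k.inj
      (by rw [Idx.trans_incl, Category.assoc, Idx.trans_incl, Idx.trans_incl]))

/-- The cocone of rings over an open. -/
def ringCocone (V : X.Opens) : Cocone (ringDiag A V) where
  pt := A.presheaf.obj (op V)
  ι :=
    { app := fun i => i.incl.hom.app (op V)
      naturality := fun i j a => by
        refine Eq.trans ?_ (Category.comp_id _).symm
        change (Idx.trans a.le).hom.app (op V) ≫ j.incl.hom.app (op V) = _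
        rw [← NatTrans.comp_app, ← QCAlg.comp_hom, Idx.trans_incl] }

/-- The sections over an affine open form a colimit. -/
def isColimitRingCocone (V : X.Opens) (hV : IsAffineOpen V) : IsColimit (ringCocone A V) :=
  isColimitOfInjective _ (fun i => i.inj V) fun x => by
    obtain ⟨i, y, hy⟩ := exists_mem ⟨V, hV⟩ x
    exact ⟨i, y, hy⟩

/-- The spectra over an affine open form a limit. -/
def isLimitSpec (V : X.Opens) (hV : IsAffineOpen V) :
    IsLimit (Scheme.Spec.mapCone (ringCocone A V).op) :=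
  isLimitOfPreserves Scheme.Spec (isColimitRingCocone A V hV).op

variable {A}

/-- The components over an affine open as a cone. -/
def compCone (V : X.Opens) (hV : IsAffineOpen V) : Cone ((ringDiag A V).op ⋙ Scheme.Spec) where
  pt := (coneBase s ⁻¹ᵁ V).toScheme
  π :=
    { app := fun i => comp s i V hV
      naturality := fun i j a => by
        refine (Category.id_comp _).trans ?_
        change comp s j V hV = comp s i V hV ≫ Spec.map ((Idx.trans a.unop.le).hom.app (op V))
        rw [← cancel_mono (j.unop.alg.ι V hV), comp_ι, Category.assoc, ← QCAlg.ι_specMap V hV,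
          comp_ι_assoc]
        exact congrArg _ (s.w a).symm }

/-- The map over an affine open. -/
def liftAff (V : X.Opens) (hV : IsAffineOpen V) :
    (coneBase s ⁻¹ᵁ V).toScheme ⟶ Spec (A.presheaf.obj (op V)) :=
  (isLimitSpec A V hV).lift (compCone s V hV)

theorem liftAff_map (i : (Idx A)ᵒᵖ) (V : X.Opens) (hV : IsAffineOpen V) :
    liftAff s V hV ≫ Spec.map (i.unop.incl.hom.app (op V)) = comp s i V hV :=
  (isLimitSpec A V hV).fac (compCone s V hV) i

theorem hom_ext_aff {T : Scheme.{u}} {V : X.Opens} (hV : IsAffineOpen V)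
    {g g' : T ⟶ Spec (A.presheaf.obj (op V))}
    (h : ∀ i : (Idx A)ᵒᵖ, g ≫ Spec.map (i.unop.incl.hom.app (op V)) =
      g' ≫ Spec.map (i.unop.incl.hom.app (op V))) : g = g' :=
  (isLimitSpec A V hV).hom_ext h

open Scheme.AffineZariskiSite Scheme in
/-- The map to the spectrum. -/
def liftMap : s.pt ⟶ A.spec :=
  Scheme.OpenCover.glueMorphismsOfLocallyDirected ((directedCover X).pullback₁ (coneBase s))
    (fun U => (pullbackRestrictIsoRestrict (coneBase s) _).hom ≫
      liftAff s U.1 U.2 ≫ A.ι U.1 U.2) fun {U V : X.AffineZariskiSite} i => by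
  have : (pullbackRestrictIsoRestrict (coneBase s) U.1).inv ≫
      Cover.trans ((directedCover X).pullback₁ (coneBase s)) i ≫
      (pullbackRestrictIsoRestrict (coneBase s) V.1).hom = s.pt.homOfLE
        ((coneBase s).preimage_mono (toOpens_mono i.1.1)) := by
    rw [← cancel_mono (Scheme.Opens.ι _)]
    simp +instances [Cover.trans, Cover.locallyDirectedPullbackCover]
  rw [← Iso.inv_comp_eq, reassoc_of% this, ← A.ι_res i, ← Category.assoc, ← Category.assoc]
  congr 1
  refine hom_ext_aff V.2 fun k => ?_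
  rw [Category.assoc, liftAff_map, ← cancel_mono (k.unop.alg.ι V.1 V.2), Category.assoc, comp_ι,
    Category.assoc, Category.assoc, ← QCAlg.ι_specMap V.1 V.2,
    reassoc_of% (A.ι_res i), QCAlg.ι_specMap, reassoc_of% (liftAff_map s k U.1 U.2), comp_ι,
    Scheme.homOfLE_ι_assoc]

theorem ι_liftMap (U : X.Opens) (hU : IsAffineOpen U) :
    (coneBase s ⁻¹ᵁ U).ι ≫ liftMap s = liftAff s U hU ≫ A.ι U hU := by
  rw [← cancel_epi (pullbackRestrictIsoRestrict (coneBase s) U).hom, ← Category.assoc]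
  let U' : X.AffineZariskiSite := ⟨U, hU⟩
  trans ((Scheme.AffineZariskiSite.directedCover X).pullback₁ (coneBase s)).f U' ≫ liftMap s
  · congr 1; simp [U']
  delta liftMap
  generalize_proofs
  exact Scheme.OpenCover.map_glueMorphismsOfLocallyDirected _ _ (by assumption) _

variable (A) in
/-- The spectrum is the limit of the spectra of the finite type subalgebras. -/
def isLimit : IsLimit (cone A) where
  lift s := liftMap s
  fac s i := by
    refine Scheme.Cover.hom_ext (s.pt.openCoverOfIsOpenCover (fun U : X.affineOpens => coneBase s ⁻¹ᵁ U.1)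
      (.comap (iSup_affineOpens_eq_top X) (coneBase s).base.1)) _ _ fun U => ?_
    change (coneBase s ⁻¹ᵁ U.1).ι ≫ liftMap s ≫ QCAlg.specMap i.unop.incl =
      (coneBase s ⁻¹ᵁ U.1).ι ≫ s.π.app i
    rw [reassoc_of% (ι_liftMap s U.1 U.2), QCAlg.ι_specMap, reassoc_of% (liftAff_map s i U.1 U.2),
      comp_ι]
  uniq s g hg := by
    refine Scheme.Cover.hom_ext (s.pt.openCoverOfIsOpenCover (fun U : X.affineOpens => coneBase s ⁻¹ᵁ U.1)
      (.comap (iSup_affineOpens_eq_top X) (coneBase s).base.1)) _ _ fun U => ?_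
    change (coneBase s ⁻¹ᵁ U.1).ι ≫ g = (coneBase s ⁻¹ᵁ U.1).ι ≫ liftMap s
    have hgπ : g ≫ A.π = coneBase s := by
      rw [← coneBase_eq s i₀, ← hg i₀]
      change g ≫ A.π = (g ≫ QCAlg.specMap _) ≫ _
      rw [Category.assoc, QCAlg.specMap_π]
    have hr : Set.range ((coneBase s ⁻¹ᵁ U.1).ι ≫ g) ⊆ Set.range (A.ι U.1 U.2) := by
      rintro _ ⟨z, rfl⟩
      have hz : g ((coneBase s ⁻¹ᵁ U.1).ι z) ∈ A.π ⁻¹ᵁ U.1 := by
        change (coneBase s ⁻¹ᵁ U.1).ι z ∈ g ⁻¹ᵁ (A.π ⁻¹ᵁ U.1)
        rw [← Scheme.Hom.comp_preimage, hgπ]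
        exact z.2
      rw [A.π_preimage U.1 U.2] at hz
      exact hz
    rw [← IsOpenImmersion.lift_fac _ _ hr, ι_liftMap s U.1 U.2]
    congr 1
    refine hom_ext_aff U.2 fun i => ?_
    rw [liftAff_map, ← cancel_mono (i.unop.alg.ι U.1 U.2), Category.assoc, ← QCAlg.ι_specMap U.1 U.2,
      IsOpenImmersion.lift_fac_assoc, comp_ι, ← hg i]
    exact Category.assoc _ _ _

end Groth.Agent.LimH13.SubAlg
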