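import Groth.Agent.Lib.LimH13.Struct
import Mathlib.AlgebraicGeometry.Sites.SmallAffineZariski
import Mathlib.AlgebraicGeometry.RelativeGluing

/-!
# Existence of limits of cofiltered systems of schemes with affine transition maps

Over an affine open of the base the limit is the spectrum of the colimit of the rings; these are
glued with `Scheme.Cover.RelativeGluingData`.
-/

universe u

set_option backward.isDefEq.respectTransparency false
set_option backward.defeqAttrib.useBackward true
set_option linter.style.haveILetI false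

open CategoryTheory CategoryTheory.Limits AlgebraicGeometry

namespace Groth.Agent.LimH13

open Groth.Agent.Descend

/-- A diagram of affine schemes has a limit among schemes. -/
theorem hasLimit_of_isAffine {J : Type u} [SmallCategory J] (F : J ⥤ Scheme.{u})
    [∀ j, IsAffine (F.obj j)] : HasLimit F := by
  let e : F ⟶ (F ⋙ Scheme.Γ.rightOp) ⋙ Scheme.Spec :=
    Functor.whiskerLeft F ΓSpec.adjunction.unit
  have (i : _) : IsIso (e.app i) := IsAffine.affine
  have : IsIso e := NatIso.isIso_of_isIso_app e
  exact ⟨⟨⟨_, (IsLimit.postcomposeInvEquiv (asIso e) _).symm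
    (isLimitOfPreserves Scheme.Spec (limit.isLimit (F ⋙ Scheme.Γ.rightOp)))⟩⟩⟩

section Over

variable {J : Type u} [SmallCategory J] {B : Scheme.{u}} (E : J ⥤ Scheme.{u})
  (t : E ⟶ (Functor.const J).obj B) [∀ j, IsAffineHom (t.app j)]

local notation "Chart" => Scheme.AffineZariskiSite.directedCover

instance isAffine_pbDiagram_chart (U : (Chart B).I₀) (j : J) :
    IsAffine ((pbDiagram E t ((Chart B).f U)).obj j) := by
  haveI : IsAffine ((Chart B).X U) := U.2
  haveI : IsAffineHom (pullback.fst ((Chart B).f U) (t.app j)) :=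
    MorphismProperty.pullback_fst _ _ inferInstance
  exact isAffine_of_isAffineHom (pullback.fst ((Chart B).f U) (t.app j))

/-- The limit over an affine open. -/
noncomputable def chartCone (U : (Chart B).I₀) : LimitCone (pbDiagram E t ((Chart B).f U)) :=
  haveI := hasLimit_of_isAffine (pbDiagram E t ((Chart B).f U))
  getLimitCone _

/-- The projection of the limit over an affine open to the system. -/
noncomputable def chartπ (U : (Chart B).I₀) (j : J) : (chartCone E t U).1.pt ⟶ E.obj j :=
  (chartCone E t U).1.π.app j ≫ pullback.snd _ _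

/-- The projection of the limit over an affine open to that open. -/
noncomputable def chartFst (U : (Chart B).I₀) (j : J) : (chartCone E t U).1.pt ⟶ (Chart B).X U :=
  (chartCone E t U).1.π.app j ≫ pullback.fst _ _

@[reassoc]
lemma chartπ_w (U : (Chart B).I₀) {i j : J} (a : i ⟶ j) :
    chartπ E t U i ≫ E.map a = chartπ E t U j := by
  rw [chartπ, chartπ, ← (chartCone E t U).1.w a, Category.assoc, Category.assoc, pbMap_snd]

lemma chartFst_w (U : (Chart B).I₀) {i j : J} (a : i ⟶ j) :
    chartFst E t U i = chartFst E t U j := by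
  rw [chartFst, chartFst, ← (chartCone E t U).1.w a, Category.assoc, pbMap_fst]

lemma chart_condition (U : (Chart B).I₀) (j : J) :
    chartFst E t U j ≫ (Chart B).f U = chartπ E t U j ≫ t.app j := by
  rw [chartFst, chartπ, Category.assoc, Category.assoc, pullback.condition]

variable [IsCofiltered J]

lemma chartFst_eq (U : (Chart B).I₀) (i j : J) : chartFst E t U i = chartFst E t U j :=
  (chartFst_w E t U (IsCofiltered.minToLeft i j)).symm.trans
    (chartFst_w E t U (IsCofiltered.minToRight i j))

omit [IsCofiltered J] in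
lemma chart_hom_ext {U : (Chart B).I₀} {Z : Scheme.{u}} {u v : Z ⟶ (chartCone E t U).1.pt}
    (h : ∀ j, u ≫ chartπ E t U j = v ≫ chartπ E t U j) : u = v := by
  refine (chartCone E t U).2.hom_ext fun j => ?_
  apply pullback.hom_ext
  · rw [← cancel_mono ((Chart B).f U)]
    simp only [Category.assoc, pullback.condition]
    simpa [chartπ] using congrArg (· ≫ t.app j) (h j)
  · simpa [chartπ] using h j

/-- The map to a chart determined by compatible maps to the system and to the open. -/
noncomputable def chartLift {U : (Chart B).I₀} {Z : Scheme.{u}} (b : Z ⟶ (Chart B).X U)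
    (a : ∀ j, Z ⟶ E.obj j) (ha : ∀ {i j : J} (φ : i ⟶ j), a i ≫ E.map φ = a j)
    (hab : ∀ j, b ≫ (Chart B).f U = a j ≫ t.app j) : Z ⟶ (chartCone E t U).1.pt :=
  (chartCone E t U).2.lift
    { pt := Z
      π :=
        { app := fun j => pullback.lift b (a j) (hab j)
          naturality := fun i j φ => by
            apply pullback.hom_ext <;> simp [pbDiagram, ha φ] } }

omit [IsCofiltered J] in
@[reassoc (attr := simp)]
lemma chartLift_π {U : (Chart B).I₀} {Z : Scheme.{u}} (b : Z ⟶ (Chart B).X U)
    (a : ∀ j, Z ⟶ E.obj j) (ha : ∀ {i j : J} (φ : i ⟶ j), a i ≫ E.map φ = a j)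
    (hab : ∀ j, b ≫ (Chart B).f U = a j ≫ t.app j) (j : J) :
    chartLift E t b a ha hab ≫ chartπ E t U j = a j := by
  simp [chartLift, chartπ]

omit [IsCofiltered J] in
@[reassoc (attr := simp)]
lemma chartLift_fst {U : (Chart B).I₀} {Z : Scheme.{u}} (b : Z ⟶ (Chart B).X U)
    (a : ∀ j, Z ⟶ E.obj j) (ha : ∀ {i j : J} (φ : i ⟶ j), a i ≫ E.map φ = a j)
    (hab : ∀ j, b ≫ (Chart B).f U = a j ≫ t.app j) (j : J) :
    chartLift E t b a ha hab ≫ chartFst E t U j = b := by
  simp [chartLift, chartFst]

/-- The transition map between the limits over two affine opens. -/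
noncomputable def chartMap {U V : (Chart B).I₀} (h : U ⟶ V) :
    (chartCone E t U).1.pt ⟶ (chartCone E t V).1.pt :=
  chartLift E t (chartFst E t U (IsCofiltered.nonempty (C := J)).some ≫ (Chart B).trans h)
    (chartπ E t U) (fun φ => chartπ_w E t U φ) (fun j => by
      rw [Category.assoc, Scheme.Cover.trans_map, chartFst_eq E t U _ j, chart_condition])

@[reassoc (attr := simp)]
lemma chartMap_π {U V : (Chart B).I₀} (h : U ⟶ V) (j : J) :
    chartMap E t h ≫ chartπ E t V j = chartπ E t U j :=
  chartLift_π _ _ _ _ _ _ _

lemma chartMap_fst {U V : (Chart B).I₀} (h : U ⟶ V) (j : J) :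
    chartMap E t h ≫ chartFst E t V j = chartFst E t U j ≫ (Chart B).trans h := by
  rw [chartMap, chartLift_fst, chartFst_eq E t U _ j]

/-- The gluing data of the limit. -/
noncomputable def limitGluing : (Chart B).RelativeGluingData where
  functor :=
    { obj := fun U => (chartCone E t U).1.pt
      map := fun h => chartMap E t h
      map_id := fun U => chart_hom_ext E t fun j => by simp
      map_comp := fun h h' => chart_hom_ext E t fun j => by simp }
  natTrans :=
    { app := fun U => chartFst E t U (IsCofiltered.nonempty (C := J)).some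
      naturality := fun U V h => chartMap_fst E t h _ }
  equifibered := fun U V h => by
    let j₀ : J := (IsCofiltered.nonempty (C := J)).some
    refine IsPullback.of_isLimit' ⟨chartMap_fst E t h _⟩ (PullbackCone.IsLimit.mk _
      (fun s => chartLift E t s.snd (fun j => s.fst ≫ chartπ E t V j)
        (fun φ => by rw [Category.assoc, chartπ_w]) (fun j => ?_))
      (fun s => chart_hom_ext E t fun j => by simp) (fun s => chartLift_fst _ _ _ _ _ _ _)
      (fun s m h1 h2 => chart_hom_ext E t fun j => by
        rw [chartLift_π, ← h1]; simp))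
    rw [← Scheme.Cover.trans_map (Chart B) h, Category.assoc, ← chart_condition,
      chartFst_eq E t V j j₀, ← Category.assoc, ← Category.assoc]
    exact congrArg (· ≫ (Chart B).f V) s.condition.symm

instance hasColimit_limitGluing : HasColimit (limitGluing E t).functor := by
  haveI : Quiver.IsThin (Chart B).I₀ :=
    inferInstanceAs (Quiver.IsThin B.AffineZariskiSite)
  haveI : ((limitGluing E t).functor ⋙ Scheme.forget).IsLocallyDirected :=
    @Scheme.Cover.RelativeGluingData.instIsLocallyDirectedI₀CompFunctorForgetOfIsThin _ (Chart B)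
      _ _ (limitGluing E t) _
  haveI : Small.{u} (Chart B).I₀ := inferInstanceAs (Small.{u} B.AffineZariskiSite)
  infer_instance

/-- The glued limit scheme. -/
noncomputable abbrev limitScheme : Scheme.{u} := (limitGluing E t).glued

/-- The projections of the glued limit. -/
noncomputable def limitπ (j : J) : limitScheme E t ⟶ E.obj j :=
  colimit.desc (limitGluing E t).functor
    { pt := E.obj j
      ι :=
        { app := fun U => chartπ E t U j
          naturality := fun U V h => by
            show chartMap E t h ≫ chartπ E t V j = chartπ E t U j ≫ 𝟙 _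
            simp } }

@[reassoc (attr := simp)]
lemma ι_limitπ (U : (Chart B).I₀) (j : J) :
    colimit.ι (limitGluing E t).functor U ≫ limitπ E t j = chartπ E t U j :=
  colimit.ι_desc _ _

lemma limitπ_comp (j : J) : limitπ E t j ≫ t.app j = (limitGluing E t).toBase := by
  refine colimit.hom_ext fun U => ?_
  erw [ι_limitπ_assoc, (limitGluing E t).ι_toBase]
  show chartπ E t U j ≫ t.app j = chartFst E t U _ ≫ (Chart B).f U
  rw [← chart_condition, chartFst_eq E t U j]

/-- The glued limit as a cone. -/
noncomputable def glueLimitCone : Cone E where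
  pt := limitScheme E t
  π :=
    { app := limitπ E t
      naturality := fun i j φ => colimit.hom_ext fun U => by
        dsimp only [Functor.const_obj_map]
        erw [Category.id_comp]
        erw [ι_limitπ, ι_limitπ_assoc, chartπ_w] }

lemma glue_hom_ext {Z : Scheme.{u}} (u v : Z ⟶ limitScheme E t)
    (h : ∀ j, u ≫ limitπ E t j = v ≫ limitπ E t j) : u = v := by
  obtain ⟨j₀⟩ := IsCofiltered.nonempty (C := J)
  have hb : u ≫ (limitGluing E t).toBase = v ≫ (limitGluing E t).toBase := by
    rw [← limitπ_comp E t j₀, reassoc_of% (h j₀)]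
  let 𝒱 := (Chart B).pullback₁ (u ≫ (limitGluing E t).toBase)
  refine Scheme.Cover.hom_ext 𝒱 _ _ fun (U : (Chart B).I₀) => ?_
  let P := (limitGluing E t).isPullback_natTrans_ι_toBase U
  let p : 𝒱.X U ⟶ Z := 𝒱.f U
  let q : 𝒱.X U ⟶ (Chart B).X U := pullback.snd _ _
  have hpq : p ≫ u ≫ (limitGluing E t).toBase = q ≫ (Chart B).f U := pullback.condition
  have hu : q ≫ (Chart B).f U = (p ≫ u) ≫ (limitGluing E t).toBase := by
    rw [Category.assoc]; exact hpq.symm
  have hv : q ≫ (Chart B).f U = (p ≫ v) ≫ (limitGluing E t).toBase := by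
    rw [Category.assoc, ← hb]; exact hpq.symm
  have e : P.lift q (p ≫ u) hu = P.lift q (p ≫ v) hv := chart_hom_ext E t fun j => by
    rw [← ι_limitπ E t U j]
    erw [P.lift_snd_assoc, P.lift_snd_assoc]
    simp [h j]
  have := congrArg (· ≫ colimit.ι (limitGluing E t).functor U) e
  simpa [p] using this

/-- The glued limit is a limit. -/
noncomputable def isLimitGlueLimitCone : IsLimit (glueLimitCone E t) := by
  let j₀ : J := (IsCofiltered.nonempty (C := J)).some
  let σ (s : Cone E) : s.pt ⟶ B := s.π.app j₀ ≫ t.app j₀
  have hσ : ∀ (s : Cone E) (j : J), s.π.app j ≫ t.app j = σ s :=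
    fun s j => π_comp_eq (c := s) j j₀
  let piece (s : Cone E) (U : (Chart B).I₀) :
      ((Chart B).pullback₁ (σ s)).X U ⟶ limitScheme E t :=
    chartLift E t (pullback.snd (σ s) ((Chart B).f U))
      (fun j => pullback.fst (σ s) ((Chart B).f U) ≫ s.π.app j)
      (fun φ => by rw [Category.assoc, s.w φ])
      (fun j => by rw [Category.assoc, hσ, pullback.condition]) ≫
        colimit.ι (limitGluing E t).functor U
  have hpiece : ∀ (s : Cone E) (U : (Chart B).I₀) (j : J),
      piece s U ≫ limitπ E t j = ((Chart B).pullback₁ (σ s)).f U ≫ s.π.app j := by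
    intro s U j
    refine (Category.assoc _ _ _).trans ((congrArg (_ ≫ ·) (ι_limitπ E t U j)).trans ?_)
    exact chartLift_π _ _ _ _ _ _ _
  refine
    { lift := fun s => Scheme.Cover.glueMorphisms ((Chart B).pullback₁ (σ s)) (piece s) (fun U V => ?_)
      fac := fun s j => ?_
      uniq := fun s m hm => ?_ }
  · refine glue_hom_ext E t _ _ fun j => ?_
    exact (Category.assoc _ _ _).trans (((congrArg (_ ≫ ·) (hpiece s U j)).trans
      (pullback.condition_assoc _)).trans ((congrArg (_ ≫ ·) (hpiece s V j)).symm.trans
        (Category.assoc _ _ _).symm))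
  · refine Scheme.Cover.hom_ext ((Chart B).pullback₁ (σ s)) _ _ fun U => ?_
    show _ ≫ _ ≫ limitπ E t j = _
    rw [Scheme.Cover.ι_glueMorphisms_assoc]
    exact hpiece s U j
  · refine Scheme.Cover.hom_ext ((Chart B).pullback₁ (σ s)) _ _ fun U => ?_
    rw [Scheme.Cover.ι_glueMorphisms]
    refine glue_hom_ext E t _ _ fun j => ?_
    rw [Category.assoc, hpiece]
    exact congrArg (_ ≫ ·) (hm j)

end Over

variable {I : Type u} [SmallCategory I] [IsCofiltered I] (D : I ⥤ Scheme.{u})

/-- Cofiltered systems of schemes with affine transition maps have limits. -/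
theorem hasLimit_of_isAffineHom [∀ (i j : I) (f : i ⟶ j), IsAffineHom (D.map f)] : HasLimit D := by
  obtain ⟨i₀⟩ := IsCofiltered.nonempty (C := I)
  let F := Over.forget i₀
  have h := isLimitGlueLimitCone (F ⋙ D) (overT D i₀)
  exact ⟨⟨⟨_, (Functor.Initial.isLimitExtendConeEquiv F (glueLimitCone _ _)).symm h⟩⟩⟩

end Groth.Agent.LimH13
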