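import Groth.Agent.Lib.LimH13.Stalk
import Mathlib.RingTheory.Flat.FaithfullyFlat.Algebra
import Mathlib.AlgebraicGeometry.Properties

/-!
# Residue fields, reducedness and open immersions along limits
-/

universe u

set_option backward.isDefEq.respectTransparency false
set_option backward.defeqAttrib.useBackward true
set_option linter.style.haveILetI false

open CategoryTheory CategoryTheory.Limits AlgebraicGeometry TopologicalSpace

namespace Groth.Agent.LimH13

variable {I : Type u} [SmallCategory I] [IsCofiltered I] {D : I ⥤ Scheme.{u}} {c : Cone D}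
  [∀ {i j : I} (a : i ⟶ j), IsAffineHom (D.map a)]

/-- The residue field of a point of the limit is the union of those of its images. -/
theorem exists_residueFieldMap_eq (hc : IsLimit c) (x : c.pt) (z : c.pt.residueField x) :
    ∃ (i : I) (b : (D.obj i).residueField (c.π.app i x)),
      (c.π.app i).residueFieldMap x b = z := by
  obtain ⟨z, rfl⟩ := c.pt.residue_surjective x z
  obtain ⟨i, w, rfl⟩ := exists_stalkMap_eq hc x z
  refine ⟨i, (D.obj i).residue _ w, ?_⟩
  rw [← CommRingCat.comp_apply, Scheme.residue_residueFieldMap]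
  rfl

/-- A non-reduced limit has non-reduced small stages. -/
theorem exists_forall_not_isReduced (hc : IsLimit c) (h : ¬ IsReduced c.pt) :
    ∃ i : I, ∀ (j : I) (_ : j ⟶ i), ¬ IsReduced (D.obj j) := by
  have : ∃ x : c.pt, ∃ z : c.pt.presheaf.stalk x, IsNilpotent z ∧ z ≠ 0 := by
    by_contra! H
    haveI : ∀ x : c.pt, _root_.IsReduced (c.pt.presheaf.stalk x) := fun x => ⟨fun z hz => H x z hz⟩
    exact h (isReduced_of_isReduced_stalk c.pt)
  obtain ⟨x, z, ⟨n, hn⟩, hz⟩ := this
  obtain ⟨i, w, hw⟩ := exists_stalkMap_eq hc x z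
  obtain ⟨j, a, ha⟩ := exists_stageStalkMap_eq_zero hc x (w ^ n) (by
    rw [map_pow, hw]; exact hn)
  refine ⟨j, fun m b hm => hz ?_⟩
  haveI := hm
  have h0 : stageStalkMap x b (stageStalkMap x a w) = 0 :=
    eq_zero_of_pow_eq_zero (n := n) (by rw [← map_pow, ← map_pow, ha, map_zero])
  rw [← hw, ← stageStalkMap_stalkMap x (b ≫ a), CommRingCat.comp_apply]
  have h1 : stageStalkMap x (b ≫ a) w = 0 := by
    rw [← stageStalkMap_comp, CommRingCat.comp_apply, h0]
  rw [h1, map_zero]

/-- Reducedness descends along flat surjective morphisms. -/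
theorem isReduced_of_flat_of_surjective {X Y : Scheme.{u}} (f : X ⟶ Y) [Flat f] [Surjective f]
    [IsReduced X] : IsReduced Y := by
  haveI : ∀ y : Y, _root_.IsReduced (Y.presheaf.stalk y) := fun y => by
    obtain ⟨x, rfl⟩ := f.surjective y
    have hfl := Flat.stalkMap f x
    algebraize [(f.stalkMap x).hom]
    haveI : IsLocalHom (algebraMap (Y.presheaf.stalk (f x)) (X.presheaf.stalk x)) :=
      inferInstanceAs (IsLocalHom (f.stalkMap x).hom)
    haveI : Module.FaithfullyFlat (Y.presheaf.stalk (f x)) (X.presheaf.stalk x) :=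
      Module.FaithfullyFlat.of_flat_of_isLocalHom
    exact isReduced_of_injective (algebraMap (Y.presheaf.stalk (f x)) (X.presheaf.stalk x))
      (FaithfulSMul.algebraMap_injective _ _)
  exact isReduced_of_isReduced_stalk Y

/-- Projections of a system of open immersions are embeddings. -/
theorem isEmbedding_π (hc : IsLimit c) (hoi : ∀ (i j : I) (φ : i ⟶ j), IsOpenImmersion (D.map φ))
    (i : I) : Topology.IsEmbedding (c.π.app i) := by
  have hinj : Function.Injective (c.π.app i) := by
    intro x y hxy
    refine limit_point_ext hc fun j => ?_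
    haveI := hoi _ _ (IsCofiltered.minToLeft i j)
    have hk : c.π.app (IsCofiltered.min i j) x = c.π.app (IsCofiltered.min i j) y := by
      refine (D.map (IsCofiltered.minToLeft i j)).isOpenEmbedding.injective ?_
      rw [map_π_apply _ x, map_π_apply _ y, hxy]
    rw [← map_π_apply (IsCofiltered.minToRight i j) x, hk, map_π_apply]
  refine ⟨Topology.isInducing_iff _ |>.2 (le_antisymm ?_ ?_), hinj⟩
  · exact (c.π.app i).continuous.le_induced
  · show _ ≤ c.pt.instTopologicalSpaceCarrierCarrier
    rw [(isBasis_preimage_isAffineOpen D c hc).eq_generateFrom]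
    refine le_generateFrom ?_
    rintro _ ⟨_, ⟨j, V, -, rfl⟩, rfl⟩
    let a := IsCofiltered.minToLeft i j
    let b := IsCofiltered.minToRight i j
    haveI := hoi _ _ a
    refine ⟨D.map a '' (D.map b ⁻¹' V), (D.map a).isOpenEmbedding.isOpenMap _
      (V.2.preimage (D.map b).continuous), ?_⟩
    ext z
    constructor
    · rintro ⟨w, hw, hwz⟩
      have : w = c.π.app (IsCofiltered.min i j) z := (D.map a).isOpenEmbedding.injective
        (hwz.trans (map_π_apply a z).symm)
      show c.π.app j z ∈ V
      rw [← map_π_apply b z, ← this]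
      exact hw
    · intro hz
      exact ⟨c.π.app (IsCofiltered.min i j) z,
        show D.map b _ ∈ V by rw [map_π_apply b z]; exact hz, map_π_apply a z⟩

/-- Projections of a system of open immersions induce isomorphisms on local rings. -/
theorem isIso_stalkMap_π (hc : IsLimit c) (hoi : ∀ (i j : I) (φ : i ⟶ j), IsOpenImmersion (D.map φ))
    (i : I) (x : c.pt) : IsIso ((c.π.app i).stalkMap x) := by
  have hσ : ∀ {k m : I} (a : k ⟶ m), Function.Bijective (stageStalkMap x a) := fun a => by
    haveI := hoi _ _ a
    haveI : IsIso (stageStalkMap x a) := by rw [stageStalkMap]; infer_instance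
    exact ConcreteCategory.bijective_of_isIso _
  rw [ConcreteCategory.isIso_iff_bijective]
  constructor
  · intro w w' h
    obtain ⟨j, a, ha⟩ := exists_stageStalkMap_eq hc x w w' h
    exact (hσ a).1 ha
  · intro z
    obtain ⟨j, w, rfl⟩ := exists_stalkMap_eq hc x z
    obtain ⟨w', hw'⟩ := (hσ (IsCofiltered.minToLeft i j)).2
      (stageStalkMap x (IsCofiltered.minToRight i j) w)
    refine ⟨w', ?_⟩
    rw [← stageStalkMap_stalkMap x (IsCofiltered.minToLeft i j), CommRingCat.comp_apply, hw',
      ← CommRingCat.comp_apply, stageStalkMap_stalkMap]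
    rfl

end Groth.Agent.LimH13
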