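import Groth.Agent.Lib.LimH13.Top
import Mathlib.Topology.LocallyClosed

/-!
# Constructible sets, irreducibility and connectedness along limits
-/

universe u

set_option backward.isDefEq.respectTransparency false
set_option backward.defeqAttrib.useBackward true
set_option linter.style.haveILetI false

open CategoryTheory CategoryTheory.Limits AlgebraicGeometry Topology

namespace Groth.Agent.LimH13

section Topological

variable {X : Type*} [TopologicalSpace X]

/-- A compact open meets a constructible set in a compact set. -/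
lemma isCompact_inter_of_isConstructible [CompactSpace X] {U C : Set X} (hU : IsCompact U)
    (hUo : IsOpen U) (hC : IsConstructible C) : IsCompact (U ∩ C) := by
  obtain ⟨s, hs⟩ := (BooleanSubalgebra.mem_closure_iff_sup_sdiff
    (s := {U : Set X | IsOpen U ∧ IsRetrocompact U})
    ⟨fun _ h _ h' => ⟨h.1.union h'.1, h.2.union h'.2⟩,
     fun _ h _ h' => ⟨h.1.inter h'.1, h.2.inter_isOpen h'.2 h'.1⟩⟩
    ⟨isOpen_empty, IsRetrocompact.empty⟩ ⟨isOpen_univ, IsRetrocompact.univ⟩).1 hC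
  rw [hs, Finset.sup_set_eq_biUnion, Set.inter_iUnion₂]
  refine s.isCompact_biUnion fun x _ => ?_
  have h1 : IsCompact (x.1.1 ∩ U) := x.1.2.2 hU hUo
  rw [show U ∩ (x.1.1 \ x.2.1) = (x.1.1 ∩ U) ∩ (x.2.1)ᶜ by
    rw [Set.sdiff_eq, Set.inter_comm U, Set.inter_right_comm]]
  exact h1.inter_right x.2.2.1.isClosed_compl

end Topological

variable {I : Type u} [SmallCategory I] [IsCofiltered I] {D : I ⥤ Scheme.{u}} {c : Cone D}
  [∀ {i j : I} (a : i ⟶ j), IsAffineHom (D.map a)]

/-- The limit is compact as soon as one stage is. -/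
lemma compactSpace_pt (hc : IsLimit c) (i : I) [CompactSpace (D.obj i)] : CompactSpace c.pt :=
  haveI := isAffineHom_π_app D c hc i
  QuasiCompact.compactSpace_of_compactSpace (c.π.app i)

/-- A compact open of the limit comes from a stage below a given one. -/
lemma exists_stage_compactOpen (hc : IsLimit c) (i : I) (U : c.pt.Opens)
    (hU : IsCompact (U : Set c.pt)) :
    ∃ (j : I) (_ : j ⟶ i) (V : (D.obj j).Opens),
      IsCompact (V : Set (D.obj j)) ∧ c.π.app j ⁻¹ᵁ V = U := by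
  obtain ⟨k, V, hV, rfl⟩ := exists_preimage_eq D c hc U hU
  refine ⟨IsCofiltered.min i k, IsCofiltered.minToLeft i k,
    D.map (IsCofiltered.minToRight i k) ⁻¹ᵁ V,
    QuasiCompact.isCompact_preimage (f := D.map _) _ V.2 hV, ?_⟩
  rw [← Scheme.Hom.comp_preimage, c.w]

lemma preimage_map_eq {j i : I} (a : j ⟶ i) (A : Set (D.obj i)) :
    c.π.app j ⁻¹' (D.map a ⁻¹' A) = c.π.app i ⁻¹' A := by
  ext x
  show D.map a (c.π.app j x) ∈ A ↔ _
  rw [show D.map a (c.π.app j x) = c.π.app i x from congrArg (fun m => m x) (c.w a)]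
  rfl

/-- Constructible subsets of the limit come from stages below a qcqs stage. -/
theorem exists_isConstructible_preimage (hc : IsLimit c) (i₀ : I) [CompactSpace (D.obj i₀)]
    [QuasiSeparatedSpace (D.obj i₀)] (Z : Set c.pt) (hZ : IsConstructible Z) :
    ∃ (i : I) (_ : i ⟶ i₀) (Zi : Set (D.obj i)),
      IsConstructible Zi ∧ c.π.app i ⁻¹' Zi = Z := by
  haveI := compactSpace_pt hc i₀
  induction hZ using IsConstructible.empty_union_induction with
  | open_retrocompact U hUo hUc =>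
    obtain ⟨j, a, V, hV, hVe⟩ := exists_stage_compactOpen hc i₀ ⟨U, hUo⟩ hUc.isCompact
    haveI : CompactSpace (D.obj j) := QuasiCompact.compactSpace_of_compactSpace (D.map a)
    haveI : QuasiSeparatedSpace (D.obj j) := quasiSeparatedSpace_of_quasiSeparated (D.map a)
    exact ⟨j, a, V, hV.isConstructible V.2, congrArg SetLike.coe hVe⟩
  | union s _ t _ hs ht =>
    obtain ⟨i, a, A, hA, rfl⟩ := hs
    obtain ⟨j, b, B, hB, rfl⟩ := ht
    refine ⟨IsCofiltered.min i j, IsCofiltered.minToLeft i j ≫ a,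
      D.map (IsCofiltered.minToLeft i j) ⁻¹' A ∪ D.map (IsCofiltered.minToRight i j) ⁻¹' B,
      ((D.map _).isConstructible_preimage hA).union ((D.map _).isConstructible_preimage hB), ?_⟩
    rw [Set.preimage_union, preimage_map_eq, preimage_map_eq]
  | compl s _ hs =>
    obtain ⟨i, a, A, hA, rfl⟩ := hs
    exact ⟨i, a, Aᶜ, hA.compl, rfl⟩

/-- A locally closed constructible subset of a compact limit is the difference of two compact
opens coming from stages below a given one. -/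
theorem exists_stage_locallyClosed (hc : IsLimit c) (i : I) [CompactSpace (D.obj i)]
    (L : Set c.pt) (hL : IsConstructible L) (hL' : IsLocallyClosed L) :
    ∃ (j : I) (_ : j ⟶ i) (U W : (D.obj j).Opens), IsCompact (U : Set (D.obj j)) ∧
      IsCompact (W : Set (D.obj j)) ∧ c.π.app j ⁻¹' ((U : Set (D.obj j)) \ W) = L := by
  haveI := compactSpace_pt hc i
  have hLc : IsCompact L := by
    simpa using isCompact_inter_of_isConstructible isCompact_univ isOpen_univ hL
  obtain ⟨s, hs⟩ := hLc.elim_finite_subcover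
    (fun V : {V : c.pt.affineOpens // (V.1 : Set c.pt) ⊆ coborder L} => (V.1.1 : Set c.pt))
    (fun V => V.1.1.2) (by
      intro x hx
      obtain ⟨_, ⟨V, hV, rfl⟩, hxV, hle⟩ := c.pt.isBasis_affineOpens.exists_subset_of_mem_open
        (subset_coborder hx) hL'.isOpen_coborder
      exact Set.mem_iUnion.2 ⟨⟨⟨V, hV⟩, hle⟩, hxV⟩)
  let U : c.pt.Opens := ⨆ V ∈ s, V.1.1
  have hUc : IsCompact (U : Set c.pt) := by
    simp only [U, TopologicalSpace.Opens.coe_iSup]
    exact s.isCompact_biUnion fun V _ => V.1.2.isCompact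
  have hLU : L ⊆ U := by simpa only [U, TopologicalSpace.Opens.coe_iSup] using hs
  have hUle : (U : Set c.pt) ⊆ coborder L := by
    simp only [U, TopologicalSpace.Opens.coe_iSup, Set.iUnion_subset_iff]
    exact fun V _ => V.2
  have hW : (U : Set c.pt) ∩ Lᶜ = (U : Set c.pt) ∩ (closure L)ᶜ := by
    ext x
    refine and_congr_right fun hx => not_congr ⟨fun h => subset_closure h, fun h => ?_⟩
    exact coborder_inter_closure.le ⟨hUle hx, h⟩
  let W : c.pt.Opens := ⟨(U : Set c.pt) ∩ Lᶜ, hW ▸ U.2.inter isClosed_closure.isOpen_compl⟩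
  have hWc : IsCompact (W : Set c.pt) := isCompact_inter_of_isConstructible hUc U.2 hL.compl
  obtain ⟨j₁, a₁, U₁, hU₁, hU₁e⟩ := exists_stage_compactOpen hc i U hUc
  obtain ⟨j, a, W₁, hW₁, hW₁e⟩ := exists_stage_compactOpen hc j₁ W hWc
  refine ⟨j, a ≫ a₁, D.map a ⁻¹ᵁ U₁, W₁,
    QuasiCompact.isCompact_preimage (f := D.map a) _ U₁.2 hU₁, hW₁, ?_⟩
  rw [Set.preimage_sdiff]
  show c.π.app j ⁻¹' (D.map a ⁻¹' U₁) \ _ = L
  rw [preimage_map_eq, show c.π.app j₁ ⁻¹' (U₁ : Set _) = (U : Set c.pt) from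
    congrArg SetLike.coe hU₁e, show c.π.app j ⁻¹' (W₁ : Set _) = (W : Set c.pt) from
    congrArg SetLike.coe hW₁e]
  ext x
  exact ⟨fun hx => by_contra fun h => hx.2 ⟨hx.1, h⟩, fun hx => ⟨hLU hx, fun h => h.2 hx⟩⟩

/-- A constructible set locally closed in the limit is locally closed at a stage. -/
theorem exists_isLocallyClosed_preimage (hc : IsLimit c) (i : I) [CompactSpace (D.obj i)]
    (Z : Set (D.obj i)) (hZ : IsConstructible Z) (h : IsLocallyClosed (c.π.app i ⁻¹' Z)) :
    ∃ (j : I) (φ : j ⟶ i), IsLocallyClosed (D.map φ ⁻¹' Z) := by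
  obtain ⟨k, a, U, W, hU, hW, hk⟩ := exists_stage_locallyClosed hc i _
    ((c.π.app i).isConstructible_preimage hZ) h
  haveI : CompactSpace (D.obj k) := QuasiCompact.compactSpace_of_compactSpace (D.map a)
  obtain ⟨j, b, hb⟩ := exists_preimage_eq_of_isConstructible hc _
    ((D.map a).isConstructible_preimage hZ) U W hU hW (by rw [preimage_map_eq, hk])
  refine ⟨j, b ≫ a, ?_⟩
  rw [show D.map (b ≫ a) ⁻¹' Z = D.map b ⁻¹' (D.map a ⁻¹' Z) by rw [D.map_comp]; rfl]
  refine hb.symm ▸ ?_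
  exact (U.2.isLocallyClosed.inter W.2.isClosed_compl.isLocallyClosed).preimage
    (D.map b).continuous

/-- A constructible set open in the limit is open at a stage. -/
theorem exists_isOpen_preimage (hc : IsLimit c) (i : I) [CompactSpace (D.obj i)]
    (Z : Set (D.obj i)) (hZ : IsConstructible Z) (h : IsOpen (c.π.app i ⁻¹' Z)) :
    ∃ (j : I) (φ : j ⟶ i), IsOpen (D.map φ ⁻¹' Z) := by
  haveI := compactSpace_pt hc i
  have hLc : IsCompact (c.π.app i ⁻¹' Z) := by
    simpa using isCompact_inter_of_isConstructible (isCompact_univ (X := c.pt)) isOpen_univ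
      ((c.π.app i).isConstructible_preimage hZ)
  obtain ⟨k, a, U, hU, hk⟩ := exists_stage_compactOpen hc i ⟨_, h⟩ hLc
  haveI : CompactSpace (D.obj k) := QuasiCompact.compactSpace_of_compactSpace (D.map a)
  obtain ⟨j, b, hb⟩ := exists_preimage_eq_of_isConstructible hc _
    ((D.map a).isConstructible_preimage hZ) U ⊥ hU isCompact_empty (by
      rw [preimage_map_eq, TopologicalSpace.Opens.coe_bot, Set.sdiff_empty]
      exact (congrArg SetLike.coe hk).symm)
  refine ⟨j, b ≫ a, ?_⟩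
  rw [show D.map (b ≫ a) ⁻¹' Z = D.map b ⁻¹' (D.map a ⁻¹' Z) by rw [D.map_comp]; rfl]
  refine hb.symm ▸ ?_
  rw [TopologicalSpace.Opens.coe_bot, Set.sdiff_empty]
  exact U.2.preimage (D.map b).continuous

/-- An open of a stage, empty in the limit, is empty at a stage. -/
lemma exists_preimage_eq_bot (hc : IsLimit c) {i : I} (U : (D.obj i).Opens)
    (hU : IsCompact (U : Set (D.obj i))) (h : c.π.app i ⁻¹ᵁ U = ⊥) :
    ∃ (j : I) (a : j ⟶ i), D.map a ⁻¹ᵁ U = ⊥ := by
  obtain ⟨j, a, ha⟩ := exists_map_preimage_le_map_preimage D c hc (U := U) (V := ⊥) hU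
    (h.le.trans bot_le)
  exact ⟨j, a, le_bot_iff.1 (ha.trans (by simp))⟩

/-- An open of the limit with nonempty... is the union of preimages from the stages. -/
lemma exists_stage_open_subset (hc : IsLimit c) (i : I) {U : Set c.pt} (hU : IsOpen U) {x : c.pt}
    (hx : x ∈ U) : ∃ (j : I) (_ : j ⟶ i) (V : (D.obj j).Opens),
      c.π.app j x ∈ V ∧ c.π.app j ⁻¹' (V : Set (D.obj j)) ⊆ U := by
  obtain ⟨_, ⟨_, ⟨k, V, -, rfl⟩, rfl⟩, hxV, hle⟩ :=
    (isBasis_preimage_isAffineOpen D c hc).exists_subset_of_mem_open hx hU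
  refine ⟨IsCofiltered.min i k, IsCofiltered.minToLeft i k,
    D.map (IsCofiltered.minToRight i k) ⁻¹ᵁ V, ?_, ?_⟩
  · show D.map _ (c.π.app _ x) ∈ V
    rw [← Scheme.Hom.comp_apply, c.w]
    exact hxV
  · show c.π.app _ ⁻¹' (D.map _ ⁻¹' (V : Set (D.obj k))) ⊆ U
    rw [preimage_map_eq]
    exact hle

/-- Irreducibility along dominant transition maps. -/
theorem irreducibleSpace_of_eventually (hc : IsLimit c)
    (hd : ∀ (i j : I) (φ : i ⟶ j), IsDominant (D.map φ)) (i : I)
    (h : ∀ (j : I) (_ : j ⟶ i), IrreducibleSpace (D.obj j)) : IrreducibleSpace c.pt := by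
  have hπ : ∀ j, DenseRange (c.π.app j) := fun j =>
    ((isDominant_π_iff hc j).2 fun k φ => hd k j φ).1
  haveI := h i (𝟙 i)
  haveI : Nonempty c.pt := by
    by_contra hne
    exact hne (hπ i).nonempty
  haveI : PreirreducibleSpace c.pt := ⟨fun U V hU hV hUn hVn => by
    simp only [Set.univ_inter] at hUn hVn ⊢
    obtain ⟨x, hx⟩ := hUn
    obtain ⟨y, hy⟩ := hVn
    obtain ⟨j, a, A, hxA, hA⟩ := exists_stage_open_subset hc i hU hx
    obtain ⟨k, b, B, hyB, hB⟩ := exists_stage_open_subset hc j hV hy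
    haveI := h k (b ≫ a)
    have hne : ((D.map b ⁻¹ᵁ A : (D.obj k).Opens) : Set (D.obj k)).Nonempty :=
      ⟨c.π.app k x, show D.map b (c.π.app k x) ∈ A by
        rw [← Scheme.Hom.comp_apply, c.w]; exact hxA⟩
    have := nonempty_preirreducible_inter (D.map b ⁻¹ᵁ A).2 B.2 hne ⟨_, hyB⟩
    obtain ⟨z, hz⟩ := (hπ k).exists_mem_open ((D.map b ⁻¹ᵁ A).2.inter B.2) this
    refine ⟨z, hA ?_, hB hz.2⟩
    rw [← preimage_map_eq b]
    exact hz.1⟩
  exact IrreducibleSpace.mk ‹_›

/-- An irreducible limit has irreducible images. -/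
theorem irreducibleSpace_stage (hc : IsLimit c)
    (hd : ∀ (i j : I) (φ : i ⟶ j), IsDominant (D.map φ)) [IrreducibleSpace c.pt] (j : I) :
    IrreducibleSpace (D.obj j) := by
  have hπ : DenseRange (c.π.app j) := ((isDominant_π_iff hc j).2 fun k φ => hd k j φ).1
  rw [irreducibleSpace_def, Set.top_eq_univ, ← hπ.closure_range]
  refine IsIrreducible.closure ?_
  rw [← Set.image_univ]
  exact (IrreducibleSpace.isIrreducible_univ c.pt).image _ (c.π.app j).continuous.continuousOn

/-- Connectedness along dominant transition maps. -/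
theorem connectedSpace_iff_eventually (hc : IsLimit c) (i₀ : I) [CompactSpace (D.obj i₀)]
    (hd : ∀ (i j : I) (φ : i ⟶ j), IsDominant (D.map φ)) :
    ConnectedSpace c.pt ↔
      ∃ (i : I) (_ : i ⟶ i₀), ∀ (j : I) (_ : j ⟶ i), ConnectedSpace (D.obj j) := by
  have hπ : ∀ j, DenseRange (c.π.app j) := fun j =>
    ((isDominant_π_iff hc j).2 fun k φ => hd k j φ).1
  constructor
  · intro h
    refine ⟨i₀, 𝟙 _, fun j _ => ?_⟩
    haveI : ConnectedSpace (((Functor.const I).obj c.pt).obj j) := h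
    rw [connectedSpace_iff_univ, ← (hπ j).closure_range]
    exact IsConnected.closure (isConnected_range (c.π.app j).continuous)
  · rintro ⟨i, φ, h⟩
    haveI := h i (𝟙 i)
    haveI : Nonempty c.pt := by
      by_contra hne
      exact hne (hπ i).nonempty
    haveI := compactSpace_pt hc i₀
    refine { toPreconnectedSpace := ⟨?_⟩, toNonempty := ‹_› }
    rw [isPreconnected_iff_subset_of_disjoint]
    intro u v hu hv hsub huv
    rw [Set.univ_inter] at huv
    have hu' : IsClosed u := by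
      rw [← isOpen_compl_iff, show uᶜ = v from Set.eq_of_subset_of_subset
        (fun x hx => (hsub trivial).resolve_left hx)
        (fun x hx hxu => Set.eq_empty_iff_forall_notMem.1 huv x ⟨hxu, hx⟩)]
      exact hv
    have hv' : IsClosed v := by
      rw [← isOpen_compl_iff, show vᶜ = u from Set.eq_of_subset_of_subset
        (fun x hx => (hsub trivial).resolve_right hx)
        (fun x hx hxv => Set.eq_empty_iff_forall_notMem.1 huv x ⟨hx, hxv⟩)]
      exact hu
    obtain ⟨j, a, A, hA, hAu⟩ := exists_stage_compactOpen hc i ⟨u, hu⟩ hu'.isCompact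
    obtain ⟨k, b, B, hB, hBv⟩ := exists_stage_compactOpen hc j ⟨v, hv⟩ hv'.isCompact
    haveI : CompactSpace (D.obj k) :=
      QuasiCompact.compactSpace_of_compactSpace (D.map (b ≫ a ≫ φ))
    let F := Over.forget k
    haveI : ∀ (l : Over k), CompactSpace ((F ⋙ D).obj l) := fun l =>
      QuasiCompact.compactSpace_of_compactSpace (D.map l.hom)
    haveI : ∀ {l m : Over k} (x : l ⟶ m), IsAffineHom ((F ⋙ D).map x) := fun x =>
      ‹∀ {i j : I} (a : i ⟶ j), IsAffineHom (D.map a)› x.left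
    let A' : (D.obj k).Opens := D.map b ⁻¹ᵁ A
    have hAe : c.π.app k ⁻¹' (A' : Set (D.obj k)) = u :=
      (preimage_map_eq b _).trans (congrArg SetLike.coe hAu)
    have hBe : c.π.app k ⁻¹' (B : Set (D.obj k)) = v := congrArg SetLike.coe hBv
    obtain ⟨l, x, hx⟩ := exists_map_eq_top (F ⋙ D) (c.whisker F)
      ((Functor.Initial.isLimitWhiskerEquiv F c).symm hc) (i := Over.mk (𝟙 k)) (A' ⊔ B) (by
        rw [eq_top_iff]
        intro z _
        rcases hsub (Set.mem_univ z) with hz | hz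
        · exact Or.inl (hAe.ge hz)
        · exact Or.inr (hBe.ge hz))
    haveI := h l.left (l.hom ≫ b ≫ a)
    have hdisj : ∀ z : D.obj l.left, ¬ (D.map x.left z ∈ A' ∧ D.map x.left z ∈ B) := by
      intro z hz
      obtain ⟨w, hw⟩ := (hπ l.left).exists_mem_open
        (((A' ⊓ B).2).preimage (D.map x.left).continuous) ⟨z, hz⟩
      have e : D.map x.left (c.π.app l.left w) = c.π.app k w :=
        congrArg (fun m => m w) (c.w x.left)
      have h1 : w ∈ u := hAe.le (show c.π.app k w ∈ A' from e ▸ hw.1)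
      have h2 : w ∈ v := hBe.le (show c.π.app k w ∈ B from e ▸ hw.2)
      exact Set.eq_empty_iff_forall_notMem.1 huv w ⟨h1, h2⟩
    by_contra! hne
    obtain ⟨hnu, hnv⟩ := hne
    obtain ⟨p, -, hp⟩ := Set.not_subset.1 hnu
    obtain ⟨q, -, hq⟩ := Set.not_subset.1 hnv
    have e : ∀ w, D.map x.left (c.π.app l.left w) = c.π.app k w :=
      fun w => congrArg (fun m => m w) (c.w x.left)
    obtain ⟨z, -, hz⟩ := (isPreconnected_univ (α := D.obj l.left)) (D.map x.left ⁻¹ᵁ A')
      (D.map x.left ⁻¹ᵁ B) (D.map x.left ⁻¹ᵁ A').2 (D.map x.left ⁻¹ᵁ B).2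
      (fun z _ => hx.ge (TopologicalSpace.Opens.mem_top z))
      ⟨c.π.app l.left q, trivial, show D.map x.left _ ∈ A' from
        (e q).symm ▸ hAe.ge ((hsub trivial).resolve_right hq)⟩
      ⟨c.π.app l.left p, trivial, show D.map x.left _ ∈ B from
        (e p).symm ▸ hBe.ge ((hsub trivial).resolve_left hp)⟩
    exact hdisj z hz

/-- A limit which is not preconnected has stages which are not preconnected. -/
theorem exists_forall_not_preconnectedSpace (hc : IsLimit c) (i₀ : I) [CompactSpace (D.obj i₀)]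
    [QuasiSeparatedSpace (D.obj i₀)] (h : ¬ PreconnectedSpace c.pt) :
    ∃ (i : I) (_ : i ⟶ i₀), ∀ (j : I) (_ : j ⟶ i), ¬ PreconnectedSpace (D.obj j) := by
  haveI := compactSpace_pt hc i₀
  have h' : ¬ _root_.IsPreconnected (Set.univ : Set c.pt) := fun h' => h ⟨h'⟩
  rw [_root_.IsPreconnected] at h'
  push Not at h'
  obtain ⟨u, v, hu, hv, hsub, ⟨x, -, hx⟩, ⟨y, -, hy⟩, huv⟩ := h'
  rw [Set.univ_inter] at huv
  have hdis : ∀ z, z ∈ u → z ∈ v → False := fun z h1 h2 =>
    Set.eq_empty_iff_forall_notMem.1 huv z ⟨h1, h2⟩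
  have hu' : IsClosed u := by
    rw [← isOpen_compl_iff, show uᶜ = v from Set.eq_of_subset_of_subset
      (fun z hz => (hsub trivial).resolve_left hz) (fun z hz hzu => hdis z hzu hz)]
    exact hv
  have hv' : IsClosed v := by
    rw [← isOpen_compl_iff, show vᶜ = u from Set.eq_of_subset_of_subset
      (fun z hz => (hsub trivial).resolve_right hz) (fun z hz hzv => hdis z hz hzv)]
    exact hu
  obtain ⟨j, a, A, hA, hAu⟩ := exists_stage_compactOpen hc i₀ ⟨u, hu⟩ hu'.isCompact
  obtain ⟨k, b, B, hB, hBv⟩ := exists_stage_compactOpen hc j ⟨v, hv⟩ hv'.isCompact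
  haveI : CompactSpace (D.obj k) := QuasiCompact.compactSpace_of_compactSpace (D.map (b ≫ a))
  haveI : QuasiSeparatedSpace (D.obj k) := quasiSeparatedSpace_of_quasiSeparated (D.map (b ≫ a))
  let A' : (D.obj k).Opens := D.map b ⁻¹ᵁ A
  have hAe : c.π.app k ⁻¹' (A' : Set (D.obj k)) = u :=
    (preimage_map_eq b _).trans (congrArg SetLike.coe hAu)
  have hBe : c.π.app k ⁻¹' (B : Set (D.obj k)) = v := congrArg SetLike.coe hBv
  have hA' : IsCompact (A' : Set (D.obj k)) :=
    QuasiCompact.isCompact_preimage (f := D.map b) _ A.2 hA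
  obtain ⟨l₁, d₁, hd₁⟩ := exists_preimage_eq_bot hc (A' ⊓ B) (hA'.inter_of_isOpen hB A'.2 B.2) (by
    refine le_bot_iff.1 fun z hz => ?_
    exact hdis z (hAe.le hz.1) (hBe.le hz.2))
  haveI : CompactSpace (D.obj l₁) := QuasiCompact.compactSpace_of_compactSpace (D.map d₁)
  obtain ⟨l, d, hd⟩ := exists_map_preimage_le_map_preimage D c hc (U := ⊤)
    (V := D.map d₁ ⁻¹ᵁ A' ⊔ D.map d₁ ⁻¹ᵁ B) isCompact_univ (by
      intro z _
      rcases hsub (Set.mem_univ z) with hz | hz
      · exact Or.inl ((preimage_map_eq (c := c) d₁ _).ge (hAe.ge hz))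
      · exact Or.inr ((preimage_map_eq (c := c) d₁ _).ge (hBe.ge hz)))
  refine ⟨l, d ≫ d₁ ≫ b ≫ a, fun m e hm => ?_⟩
  let P : Set (D.obj m) := D.map (e ≫ d ≫ d₁) ⁻¹' A'
  let Q : Set (D.obj m) := D.map (e ≫ d ≫ d₁) ⁻¹' B
  obtain ⟨z, -, hz⟩ := hm.isPreconnected_univ P Q (A'.2.preimage (D.map _).continuous)
    (B.2.preimage (D.map _).continuous) (fun z _ => by
      have h1 := hd (show D.map e z ∈ D.map d ⁻¹ᵁ ⊤ from trivial)
      simp only [P, Q, D.map_comp]
      exact h1)
    ⟨c.π.app m x, trivial, (preimage_map_eq (e ≫ d ≫ d₁) _).ge (hAe.ge hx)⟩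
    ⟨c.π.app m y, trivial, (preimage_map_eq (e ≫ d ≫ d₁) _).ge (hBe.ge hy)⟩
  have h2 : D.map (e ≫ d) z ∈ D.map d₁ ⁻¹ᵁ (A' ⊓ B) := by
    simp only [P, Q, D.map_comp] at hz ⊢
    exact hz
  rw [hd₁] at h2
  exact h2

/-- A noetherian reducible limit has reducible stages. -/
theorem exists_forall_not_irreducibleSpace (hc : IsLimit c) (i₀ : I) [CompactSpace (D.obj i₀)]
    [QuasiSeparatedSpace (D.obj i₀)] [TopologicalSpace.NoetherianSpace c.pt]
    (h : ¬ IrreducibleSpace c.pt) :
    ∃ (i : I) (_ : i ⟶ i₀), ∀ (j : I) (_ : j ⟶ i), ¬ IrreducibleSpace (D.obj j) := by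
  by_cases hne : Nonempty c.pt
  · have h' : ¬ IsPreirreducible (Set.univ : Set c.pt) := fun h' =>
      h (@IrreducibleSpace.mk _ _ ⟨h'⟩ hne)
    rw [IsPreirreducible] at h'
    push Not at h'
    obtain ⟨u, v, hu, hv, ⟨x, -, hx⟩, ⟨y, -, hy⟩, huv⟩ := h'
    rw [Set.univ_inter] at huv
    obtain ⟨j, a, A, hA, hAu⟩ := exists_stage_compactOpen hc i₀ ⟨u, hu⟩
      (TopologicalSpace.NoetherianSpace.isCompact _)
    obtain ⟨k, b, B, hB, hBv⟩ := exists_stage_compactOpen hc j ⟨v, hv⟩
      (TopologicalSpace.NoetherianSpace.isCompact _)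
    haveI : QuasiSeparatedSpace (D.obj k) := quasiSeparatedSpace_of_quasiSeparated (D.map (b ≫ a))
    let A' : (D.obj k).Opens := D.map b ⁻¹ᵁ A
    have hAe : c.π.app k ⁻¹' (A' : Set (D.obj k)) = u :=
      (preimage_map_eq b _).trans (congrArg SetLike.coe hAu)
    have hBe : c.π.app k ⁻¹' (B : Set (D.obj k)) = v := congrArg SetLike.coe hBv
    have hA' : IsCompact (A' : Set (D.obj k)) :=
      QuasiCompact.isCompact_preimage (f := D.map b) _ A.2 hA
    obtain ⟨l, d, hd⟩ := exists_preimage_eq_bot hc (A' ⊓ B) (hA'.inter_of_isOpen hB A'.2 B.2) (by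
      refine le_bot_iff.1 fun z hz => ?_
      exact Set.eq_empty_iff_forall_notMem.1 huv z ⟨hAe.le hz.1, hBe.le hz.2⟩)
    refine ⟨l, d ≫ b ≫ a, fun m e hm => ?_⟩
    haveI := hm
    let P : Set (D.obj m) := D.map (e ≫ d) ⁻¹' A'
    let Q : Set (D.obj m) := D.map (e ≫ d) ⁻¹' B
    obtain ⟨z, hz⟩ := nonempty_preirreducible_inter (X := D.obj m) (s := P) (t := Q)
      (A'.2.preimage (D.map _).continuous) (B.2.preimage (D.map _).continuous)
      ⟨c.π.app m x, (preimage_map_eq (e ≫ d) _).ge (hAe.ge hx)⟩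
      ⟨c.π.app m y, (preimage_map_eq (e ≫ d) _).ge (hBe.ge hy)⟩
    have h2 : D.map e z ∈ D.map d ⁻¹ᵁ (A' ⊓ B) := by
      simp only [P, Q, D.map_comp] at hz
      exact hz
    rw [hd] at h2
    exact h2
  · obtain ⟨l, d, hd⟩ := exists_preimage_eq_bot hc (⊤ : (D.obj i₀).Opens) isCompact_univ (by
      refine le_bot_iff.1 fun z _ => (hne ⟨z⟩).elim)
    refine ⟨l, d, fun m e hm => ?_⟩
    obtain ⟨z⟩ := hm.toNonempty
    have h2 : D.map e z ∈ D.map d ⁻¹ᵁ (⊤ : (D.obj i₀).Opens) := trivial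
    rw [hd] at h2
    exact h2

end Groth.Agent.LimH13
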