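import Groth.Agent.Lib.LimH13.Descend

/-!
# Morphisms of systems which become closed immersions at the limit

Let `h : DX ⟶ DE` be a morphism of cofiltered systems, `DE` affine over a qcqs base `P`, such that
each `h_i` is locally of finite type and `DX_i ⟶ DX_j ×_{DE_j} DE_i` is a closed immersion.  If the
limit of `h` is a closed immersion then so is `h_i` for small enough `i`.
-/

universe u

set_option backward.isDefEq.respectTransparency false
set_option backward.defeqAttrib.useBackward true
set_option linter.style.haveILetI false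

open CategoryTheory CategoryTheory.Limits AlgebraicGeometry

namespace Groth.Agent.LimH13

open Groth.Agent.Descend

variable {I : Type u} [SmallCategory I] {DX DE : I ⥤ Scheme.{u}} (h : DX ⟶ DE)

/-- `DX_i ⟶ DX_j ×_{DE_j} DE_i`. -/
noncomputable def graphMap {i j : I} (a : i ⟶ j) : DX.obj i ⟶ pullback (h.app j) (DE.map a) :=
  pullback.lift (DX.map a) (h.app i) (h.naturality a)

@[reassoc (attr := simp)]
lemma graphMap_fst {i j : I} (a : i ⟶ j) : graphMap h a ≫ pullback.fst _ _ = DX.map a :=
  pullback.lift_fst _ _ _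

@[reassoc (attr := simp)]
lemma graphMap_snd {i j : I} (a : i ⟶ j) : graphMap h a ≫ pullback.snd _ _ = h.app i :=
  pullback.lift_snd _ _ _

/-- Closed immersions propagate down the system. -/
lemma isClosedImmersion_of_map (hcl : ∀ {i j : I} (a : i ⟶ j), IsClosedImmersion (graphMap h a))
    {i j : I} (a : i ⟶ j) [IsClosedImmersion (h.app j)] : IsClosedImmersion (h.app i) := by
  haveI := hcl a
  rw [← graphMap_snd h a]
  infer_instance

variable [IsCofiltered I] {cX : Cone DX} {cE : Cone DE}

/-- The affine case. -/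
theorem exists_isClosedImmersion_app_of_isAffine (hcX : IsLimit cX) (hcE : IsLimit cE)
    [∀ {i j : I} (a : i ⟶ j), IsAffineHom (DX.map a)]
    [∀ i, CompactSpace (DX.obj i)] [∀ i, QuasiSeparatedSpace (DX.obj i)]
    [∀ i, IsAffine (DE.obj i)] [∀ i, LocallyOfFiniteType (h.app i)]
    (hcl : ∀ {i j : I} (a : i ⟶ j), IsClosedImmersion (graphMap h a))
    (g : cX.pt ⟶ cE.pt) (hg : ∀ i, g ≫ cE.π.app i = cX.π.app i ≫ h.app i) [IsClosedImmersion g] :
    ∃ i, IsClosedImmersion (h.app i) := by
  haveI : ∀ {i j : I} (a : i ⟶ j), IsAffineHom (DE.map a) := fun a => inferInstance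
  haveI : IsAffine cE.pt := Scheme.isAffine_of_isLimit _ hcE
  haveI : IsAffine cX.pt := isAffine_of_isAffineHom g
  obtain ⟨i, hi⟩ := Scheme.exists_isAffine_of_isLimit DX cX hcX
  have hft : (h.app i).appTop.hom.FiniteType :=
    (HasRingHomProperty.iff_of_isAffine (P := @LocallyOfFiniteType)).1 inferInstance
  algebraize [(h.app i).appTop.hom]
  obtain ⟨s, hs⟩ := hft.out
  have hsurj : Function.Surjective g.appTop :=
    (IsClosedImmersion.isAffine_surjective_of_isAffine (f := g)).2
  have key : ∀ x : s, ∃ (j : I) (a : j ⟶ i),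
      (DX.map a).appTop x.1 ∈ (h.app j).appTop.hom.range := by
    intro x
    obtain ⟨r₀, hr₀⟩ := hsurj ((cX.π.app i).appTop x.1)
    obtain ⟨i', r, rfl⟩ := exists_appTop_π_eq_of_isLimit DE cE hcE r₀
    let k := IsCofiltered.min i i'
    let ai : k ⟶ i := IsCofiltered.minToLeft i i'
    let ai' : k ⟶ i' := IsCofiltered.minToRight i i'
    obtain ⟨j, b, hb⟩ := exists_appTop_map_eq_zero_of_isLimit DX cX hcX (i := k)
      ((DX.map ai).appTop x.1 - (h.app k).appTop ((DE.map ai').appTop r)) (by
        rw [map_sub, sub_eq_zero, ← CommRingCat.comp_apply, ← CommRingCat.comp_apply,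
          ← CommRingCat.comp_apply, ← Scheme.Hom.comp_appTop, ← Scheme.Hom.comp_appTop,
          ← Scheme.Hom.comp_appTop, Cone.w]
        refine hr₀.symm.trans ?_
        have hm : (g ≫ cE.π.app i').appTop = ((cX.π.app k ≫ h.app k) ≫ DE.map ai').appTop := by
          congr 1
          rw [← hg k, Category.assoc, cE.w]
        rw [Scheme.Hom.comp_appTop] at hm
        exact congrArg (fun m => m r) hm)
    refine ⟨j, b ≫ ai, (DE.map (b ≫ ai')).appTop r, ?_⟩
    rw [map_sub, sub_eq_zero, ← CommRingCat.comp_apply, ← CommRingCat.comp_apply,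
      ← Scheme.Hom.comp_appTop, ← Scheme.Hom.comp_appTop, ← Functor.map_comp] at hb
    rw [hb]
    have hm : (DE.map (b ≫ ai')).appTop ≫ (h.app j).appTop =
        (DX.map b ≫ h.app k ≫ DE.map ai').appTop := by
      rw [← Scheme.Hom.comp_appTop, h.naturality_assoc, DE.map_comp]
    exact congrArg (fun m => m r) hm
  choose j a hj using key
  classical
  obtain ⟨k, b, e, he⟩ := IsCofiltered.wideCospan a
  refine ⟨k, ?_⟩
  haveI : IsAffine (DX.obj k) := isAffine_of_isAffineHom (DX.map b)
  haveI := hcl b
  refine IsClosedImmersion.of_surjective_of_isAffine _ ?_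
  let ι := graphMap h b
  have hι : Function.Surjective ι.appTop :=
    (IsClosedImmersion.isAffine_surjective_of_isAffine (f := ι)).2
  let K : Subring Γ(pullback (h.app i) (DE.map b), ⊤) :=
    (h.app k).appTop.hom.range.comap ι.appTop.hom
  have hE : ∀ y, (pullback.snd (h.app i) (DE.map b)).appTop y ∈ K := fun y => by
    refine Subring.mem_comap.2 ⟨y, ?_⟩
    have hm : (pullback.snd (h.app i) (DE.map b)).appTop ≫ ι.appTop = (h.app k).appTop := by
      rw [← Scheme.Hom.comp_appTop, graphMap_snd]
    exact (congrArg (fun m => m y) hm).symm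
  have hsq := isPushout_appTop_of_isPullback (IsPullback.of_hasPullback (h.app i) (DE.map b))
  have htop : K = ⊤ := by
    refine eq_top_of_isPushout hsq K (fun (x : Γ(DX.obj i, ⊤)) => ?_) hE
    have hx : x ∈ Algebra.adjoin Γ(DE.obj i, ⊤) (s : Set Γ(DX.obj i, ⊤)) := by
      rw [hs]; trivial
    rw [← Subalgebra.mem_toSubring, Algebra.adjoin_eq_ring_closure] at hx
    refine (Subring.closure_le
      (t := K.comap (pullback.fst (h.app i) (DE.map b)).appTop.hom)).2 ?_ hx
    rintro _ (⟨y, rfl⟩ | hy)
    · rw [SetLike.mem_coe, Subring.mem_comap]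
      have hm := congrArg (fun m => m y) hsq.w
      exact (congrArg (fun z : Γ(pullback (h.app i) (DE.map b), ⊤) => z ∈ K) hm).mpr
        (hE ((DE.map b).appTop y))
    · rename_i x'
      obtain ⟨r, hr⟩ := hj ⟨_, hy⟩
      refine Subring.mem_comap.2 (Subring.mem_comap.2 ⟨(DE.map (e ⟨_, hy⟩)).appTop r, ?_⟩)
      have h1 : (pullback.fst (h.app i) (DE.map b)).appTop ≫ ι.appTop =
          (DX.map (a ⟨_, hy⟩)).appTop ≫ (DX.map (e ⟨_, hy⟩)).appTop := by
        rw [← Scheme.Hom.comp_appTop, ← Scheme.Hom.comp_appTop, graphMap_fst, ← DX.map_comp, he]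
      have h2 : (DE.map (e ⟨_, hy⟩)).appTop ≫ (h.app k).appTop =
          (h.app (j ⟨_, hy⟩)).appTop ≫ (DX.map (e ⟨_, hy⟩)).appTop := by
        rw [← Scheme.Hom.comp_appTop, ← Scheme.Hom.comp_appTop, h.naturality]
      have h3 : (h.app k).appTop ((DE.map (e ⟨_, hy⟩)).appTop r) =
          (DX.map (e ⟨_, hy⟩)).appTop ((h.app (j ⟨_, hy⟩)).appTop r) := congrArg (fun m => m r) h2
      have h4 : ι.appTop ((pullback.fst (h.app i) (DE.map b)).appTop x') =
          (DX.map (e ⟨_, hy⟩)).appTop ((DX.map (a ⟨_, hy⟩)).appTop x') := congrArg (fun m => m x') h1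
      exact (h3.trans (congrArg (fun z => (DX.map (e ⟨_, hy⟩)).appTop z) hr)).trans h4.symm
  intro y
  obtain ⟨z, rfl⟩ := hι y
  exact Subring.mem_comap.1 (htop.ge (Subring.mem_top z))

variable {P : Scheme.{u}} (eE : DE ⟶ (Functor.const I).obj P)

/-- A morphism of systems pulled back along `v : U ⟶ P`. -/
noncomputable def pbMor {U : Scheme.{u}} (v : U ⟶ P) :
    pbDiagram DX (h ≫ eE) v ⟶ pbDiagram DE eE v where
  app i := pullback.lift (pullback.fst v ((h ≫ eE).app i))
    (pullback.snd v ((h ≫ eE).app i) ≫ h.app i) (by simp [pullback.condition])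
  naturality i j a := by
    apply pullback.hom_ext <;> simp [pbDiagram]

omit [IsCofiltered I] in
/-- The morphism pulled back is a base change. -/
lemma pbMor_isPullback {U : Scheme.{u}} (v : U ⟶ P) (i : I) :
    IsPullback ((pbMor h eE v).app i) (pullback.snd v ((h ≫ eE).app i))
      (pullback.snd v (eE.app i)) (h.app i) := by
  refine IsPullback.of_right ?_ (pullback.lift_snd _ _ _) (IsPullback.of_hasPullback v (eE.app i))
  rw [show (pbMor h eE v).app i ≫ pullback.fst v (eE.app i) = pullback.fst v ((h ≫ eE).app i) from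
    pullback.lift_fst _ _ _]
  exact IsPullback.of_hasPullback v _

omit [IsCofiltered I] in
/-- The graph maps of the pulled back morphism are base changes of the graph maps. -/
lemma isClosedImmersion_graphMap_pbMor {U : Scheme.{u}} (v : U ⟶ P) {i j : I} (a : i ⟶ j)
    [IsClosedImmersion (graphMap h a)] : IsClosedImmersion (graphMap (pbMor h eE v) a) := by
  let σ : pullback ((pbMor h eE v).app j) ((pbDiagram DE eE v).map a) ⟶
      pullback (h.app j) (DE.map a) :=
    pullback.lift (pullback.fst _ _ ≫ pullback.snd v ((h ≫ eE).app j))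
      (pullback.snd _ _ ≫ pullback.snd v (eE.app i)) (by
        rw [Category.assoc, Category.assoc, ← (pbMor_isPullback h eE v j).w, ← pbMap_snd,
          pullback.condition_assoc])
  have hbot : IsPullback (pullback.snd ((pbMor h eE v).app j) ((pbDiagram DE eE v).map a)) σ
      (pullback.snd v (eE.app i)) (pullback.snd (h.app j) (DE.map a)) := by
    refine IsPullback.of_bot (v₂₁ := pullback.fst (h.app j) (DE.map a))
      (v₂₂ := DE.map a) ?_ (pullback.lift_snd _ _ _).symm
      (IsPullback.of_hasPullback (h.app j) (DE.map a)).flip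
    rw [pullback.lift_fst, ← pbMap_snd]
    exact (IsPullback.of_hasPullback _ ((pbDiagram DE eE v).map a)).flip.paste_vert
      (pbMor_isPullback h eE v j)
  have hw : graphMap (pbMor h eE v) a ≫ σ = pullback.snd v ((h ≫ eE).app i) ≫ graphMap h a := by
    apply pullback.hom_ext
    · rw [Category.assoc, pullback.lift_fst, graphMap_fst_assoc, Category.assoc, graphMap_fst,
        pbMap_snd]
    · rw [Category.assoc, pullback.lift_snd, graphMap_snd_assoc, Category.assoc, graphMap_snd,
        ← (pbMor_isPullback h eE v i).w]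
  have htop : IsPullback (graphMap (pbMor h eE v) a) (pullback.snd v ((h ≫ eE).app i)) σ
      (graphMap h a) := by
    refine IsPullback.of_right ?_ hw hbot
    rw [graphMap_snd, graphMap_snd]
    exact pbMor_isPullback h eE v i
  exact MorphismProperty.of_isPullback htop.flip inferInstance

/-- A morphism of systems which is a closed immersion at the limit is one at a finite stage; only
the parts over affine opens of the base have to be quasi-compact and quasi-separated. -/
theorem exists_isClosedImmersion_app' [CompactSpace P]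
    (hcX : IsLimit cX) (hcE : IsLimit cE)
    [∀ {i j : I} (a : i ⟶ j), IsAffineHom (DX.map a)]
    [∀ i, IsAffineHom (eE.app i)] [∀ i, LocallyOfFiniteType (h.app i)]
    (hXU : ∀ {U : Scheme.{u}} (v : U ⟶ P) [IsAffine U] [IsOpenImmersion v] (i : I),
      CompactSpace ((pbDiagram DX (h ≫ eE) v).obj i) ∧
        QuasiSeparatedSpace ((pbDiagram DX (h ≫ eE) v).obj i))
    (hcl : ∀ {i j : I} (a : i ⟶ j), IsClosedImmersion (graphMap h a))
    (g : cX.pt ⟶ cE.pt) (hg : ∀ i, g ≫ cE.π.app i = cX.π.app i ≫ h.app i) [IsClosedImmersion g] :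
    ∃ i, IsClosedImmersion (h.app i) := by
  obtain ⟨i₀⟩ := IsCofiltered.nonempty (C := I)
  let q : cE.pt ⟶ P := cE.π.app i₀ ≫ eE.app i₀
  have hq : ∀ i, cE.π.app i ≫ eE.app i = q := fun i => by
    let k := IsCofiltered.min i i₀
    have h1 : ∀ {m : I} (b : k ⟶ m), cE.π.app m ≫ eE.app m = cE.π.app k ≫ eE.app k := fun b => by
      rw [← t_nat DE eE b, ← cE.w b, Category.assoc]
    exact (h1 (IsCofiltered.minToLeft i i₀)).trans (h1 (IsCofiltered.minToRight i i₀)).symm
  have hqX : ∀ i, cX.π.app i ≫ (h ≫ eE).app i = g ≫ q := fun i => by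
    rw [NatTrans.comp_app, ← Category.assoc, ← hg, Category.assoc, hq]
  let 𝒰 := P.affineCover.finiteSubcover
  have key : ∀ w : 𝒰.I₀, ∃ i, IsClosedImmersion ((pbMor h eE (𝒰.f w)).app i) := by
    intro w
    haveI : IsAffine (𝒰.X w) := inferInstanceAs (IsAffine (Spec _))
    let v := 𝒰.f w
    let hQ := IsPullback.of_hasPullback v q
    let hR := IsPullback.of_hasPullback v (g ≫ q)
    haveI : ∀ i, QuasiSeparatedSpace ((pbDiagram DX (h ≫ eE) v).obj i) := fun i => (hXU v i).2
    haveI : ∀ i, CompactSpace ((pbDiagram DX (h ≫ eE) v).obj i) := fun i => (hXU v i).1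
    haveI : ∀ {i j : I} (a : i ⟶ j), IsAffineHom ((pbDiagram DX (h ≫ eE) v).map a) := fun a =>
      MorphismProperty.of_isPullback (pbMap_isPullback DX (h ≫ eE) v a).flip inferInstance
    haveI : ∀ i, IsAffine ((pbDiagram DE eE v).obj i) := fun i =>
      haveI : IsAffineHom (pullback.fst v (eE.app i)) :=
        MorphismProperty.pullback_fst _ _ inferInstance
      isAffine_of_isAffineHom (pullback.fst v (eE.app i))
    haveI : ∀ i, LocallyOfFiniteType ((pbMor h eE v).app i) := fun i =>
      MorphismProperty.of_isPullback (pbMor_isPullback h eE v i).flip inferInstance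
    have hgw : pullback.fst v (g ≫ q) ≫ v = (pullback.snd v (g ≫ q) ≫ g) ≫ q := by
      rw [Category.assoc]; exact pullback.condition
    let g' : pullback v (g ≫ q) ⟶ pullback v q := pullback.lift _ _ hgw
    have hg'P : IsPullback g' (pullback.snd v (g ≫ q)) (pullback.snd v q) g := by
      refine IsPullback.of_right ?_ (pullback.lift_snd _ _ _) hQ
      rw [pullback.lift_fst]
      exact hR
    haveI : IsClosedImmersion g' := MorphismProperty.of_isPullback hg'P.flip inferInstance
    refine exists_isClosedImmersion_app_of_isAffine (pbMor h eE v)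
      (pbIsLimit DX (h ≫ eE) v cX hqX hR hcX) (pbIsLimit DE eE v cE hq hQ hcE)
      (fun a => by haveI := hcl a; exact isClosedImmersion_graphMap_pbMor h eE v a) g' (fun i => ?_)
    apply pullback.hom_ext
    · simp [pbCone, pbMor, g']
    · simp [pbCone, pbMor, g', hg]
  choose j hj using key
  haveI : Finite 𝒰.I₀ := inferInstance
  cases nonempty_fintype 𝒰.I₀
  classical
  obtain ⟨k, hk⟩ := IsCofiltered.inf_objs_exists (Finset.univ.image j)
  refine ⟨k, ?_⟩
  rw [IsZariskiLocalAtTarget.iff_of_openCover (P := @IsClosedImmersion) (𝒰.pullback₂ (eE.app k))]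
  intro (w : 𝒰.I₀)
  obtain ⟨b⟩ := hk (Finset.mem_image_of_mem j (Finset.mem_univ w))
  haveI := hj w
  haveI := isClosedImmersion_of_map (pbMor h eE (𝒰.f w))
    (fun a => by haveI := hcl a; exact isClosedImmersion_graphMap_pbMor h eE (𝒰.f w) a) b
  show IsClosedImmersion (pullback.snd (h.app k) (pullback.snd (𝒰.f w) (eE.app k)))
  rw [← (pbMor_isPullback h eE (𝒰.f w) k).flip.isoPullback_inv_snd]
  infer_instance

/-- A morphism of systems which is a closed immersion at the limit is one at a finite stage. -/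
theorem exists_isClosedImmersion_app [CompactSpace P] [QuasiSeparatedSpace P]
    (hcX : IsLimit cX) (hcE : IsLimit cE)
    [∀ {i j : I} (a : i ⟶ j), IsAffineHom (DX.map a)]
    [∀ i, CompactSpace (DX.obj i)] [∀ i, QuasiSeparatedSpace (DX.obj i)]
    [∀ i, IsAffineHom (eE.app i)] [∀ i, LocallyOfFiniteType (h.app i)]
    (hcl : ∀ {i j : I} (a : i ⟶ j), IsClosedImmersion (graphMap h a))
    (g : cX.pt ⟶ cE.pt) (hg : ∀ i, g ≫ cE.π.app i = cX.π.app i ≫ h.app i) [IsClosedImmersion g] :
    ∃ i, IsClosedImmersion (h.app i) := by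
  refine exists_isClosedImmersion_app' h eE hcX hcE (fun v _ _ i => ⟨?_, ?_⟩) hcl g hg
  · haveI : QuasiCompact ((h ≫ eE).app i) :=
      haveI : QuasiSeparatedSpace (((Functor.const I).obj P).obj i) := ‹QuasiSeparatedSpace P›
      inferInstance
    haveI : QuasiCompact (pullback.fst v ((h ≫ eE).app i)) :=
      MorphismProperty.pullback_fst _ _ ‹_›
    exact QuasiCompact.compactSpace_of_compactSpace (pullback.fst v ((h ≫ eE).app i))
  · exact (pullback.snd v ((h ≫ eE).app i)).isOpenEmbedding.quasiSeparatedSpace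

end Groth.Agent.LimH13
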