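import Groth.Agent.Lib.LimH13.ImmersionFP
import Groth.Agent.Lib.LimH13.FPSystem
import Groth.Agent.Lib.LimH13.Eventually

/-!
# Systems with closed immersions as transition morphisms
-/

universe u

open CategoryTheory Limits AlgebraicGeometry Opposite TopologicalSpace

set_option backward.isDefEq.respectTransparency false
set_option backward.isDefEq.respectTransparency.types false
set_option linter.style.haveILetI false

noncomputable section

namespace Groth.Agent.LimH13

variable {I : Type u} [SmallCategory I] [IsCofiltered I]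

/-- The projections of a system of closed immersions are closed immersions. -/
theorem isClosedImmersion_π {D : I ⥤ Scheme.{u}} {c : Cone D} (hc : IsLimit c)
    (hcl : ∀ {i j : I} (a : i ⟶ j), IsClosedImmersion (D.map a)) (i : I) : IsClosedImmersion (c.π.app i) := by
  haveI : ∀ {i j : I} (a : i ⟶ j), IsAffineHom (D.map a) := fun a => by haveI := hcl a; infer_instance
  refine isClosedImmersion_iff_isAffineHom.2 ⟨isAffineHom_π_app D c hc i, fun U hU a => ?_⟩
  obtain ⟨j, φ, b, hb⟩ := exists_stage_section D c hc i U hU a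
  haveI := hcl φ
  obtain ⟨w, rfl⟩ := (D.map φ).app_surjective U hU b
  refine ⟨w, ?_⟩
  rw [← hb, ← CommRingCat.comp_apply, Scheme.Hom.app_eq_appLE, Scheme.Hom.app_eq_appLE,
    Scheme.Hom.appLE_comp_appLE]
  congr 3
  exact (c.w φ).symm

variable {DX DS : I ⥤ Scheme.{u}} (φ : DX ⟶ DS) {cS : Cone DS}

omit [IsCofiltered I] in
/-- The base changed transition maps are closed immersions. -/
theorem isClosedImmersion_trans {p q : I} (a : p ⟶ q) [IsClosedImmersion (graphMap φ a)] :
    IsClosedImmersion (FPSys.trans φ (cS := cS) a) := by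
  let h := pullback.snd (φ.app q) (DS.map a)
  let m : pullback (φ.app p) (cS.π.app p) ⟶ pullback h (cS.π.app p) :=
    pullback.map _ _ _ _ (graphMap φ a) (𝟙 _) (𝟙 _) (by simp [h]) (by simp)
  haveI : IsClosedImmersion m := by
    have hm : IsPullback (pullback.fst _ _) m (graphMap φ a) (pullback.fst h (cS.π.app p)) := by
      refine IsPullback.of_bot (v₂₁ := pullback.snd _ _) (v₂₂ := h) (h₃₁ := cS.π.app p) ?_
        (pullback.lift_fst _ _ _).symm (IsPullback.of_hasPullback _ _)
      rw [pullback.lift_snd, Category.comp_id, show graphMap φ a ≫ h = φ.app p from graphMap_snd φ a]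
      exact IsPullback.of_hasPullback _ _
    exact MorphismProperty.of_isPullback hm inferInstance
  have h2 : IsPullback (pullback.fst h (cS.π.app p) ≫ pullback.fst (φ.app q) (DS.map a))
      (pullback.snd h (cS.π.app p)) (φ.app q) (cS.π.app q) := by
    have := (IsPullback.of_hasPullback h (cS.π.app p)).paste_horiz (IsPullback.of_hasPullback (φ.app q) (DS.map a))
    rwa [cS.w] at this
  have e : FPSys.trans φ (cS := cS) a = m ≫ h2.isoPullback.hom := by
    apply pullback.hom_ext
    · simp [m]
    · simp [m]
  rw [e]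
  infer_instance

variable {cX : Cone DX} (f : cX.pt ⟶ cS.pt) (hf : ∀ p, cX.π.app p ≫ φ.app p = f ≫ cS.π.app p)

/-- The system over the limit of the bases. -/
abbrev baseDiag : I ⥤ Scheme.{u} := FPSys.diag φ (cS := cS) (𝟙 cS.pt) ⋙ Over.forget cS.pt

/-- Its cone. -/
abbrev baseCone : Cone (baseDiag φ (cS := cS)) :=
  (Over.forget cS.pt).mapCone (FPSys.cone φ (𝟙 cS.pt) f hf)

/-- Its limit is the source. -/
def isLimitBaseCone (hcX : IsLimit cX) (hcS : IsLimit cS) : IsLimit (baseCone φ f hf) :=
  haveI : IsConnected I := IsCofiltered.isConnected I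
  isLimitOfPreserves (Over.forget cS.pt) (FPSys.isLimit φ hcX hcS (𝟙 cS.pt) f hf)

end Groth.Agent.LimH13
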