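import Groth.Agent.Lib.LimH13.Top
import Mathlib.AlgebraicGeometry.Morphisms.UniversallyOpen

/-!
# Open maps and emptiness along limits
-/

universe u

set_option backward.isDefEq.respectTransparency false
set_option backward.defeqAttrib.useBackward true
set_option linter.style.haveILetI false

open CategoryTheory CategoryTheory.Limits AlgebraicGeometry

namespace Groth.Agent.LimH13

open Groth.Agent.Descend

variable {I : Type u} [SmallCategory I] [IsCofiltered I] {D : I ⥤ Scheme.{u}} {c : Cone D}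
  [∀ {i j : I} (a : i ⟶ j), IsAffineHom (D.map a)]

/-- Universally open projections. -/
theorem universallyOpen_π_iff (hc : IsLimit c) (i : I)
    (hs : ∀ (j : I) (_ : j ⟶ i), Surjective (c.π.app j)) :
    UniversallyOpen (c.π.app i) ↔ ∀ (j : I) (φ : j ⟶ i), UniversallyOpen (D.map φ) := by
  constructor
  · intro h j φ
    refine ⟨fun {X' Y'} i₁ i₂ f' sq => ?_⟩
    let r := pullback.fst i₁ (c.π.app j)
    haveI : Surjective r := MorphismProperty.pullback_fst _ _ (hs j φ)
    have h1 : IsPullback (r ≫ f') (pullback.snd i₁ (c.π.app j)) i₂ (c.π.app j ≫ D.map φ) :=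
      (IsPullback.of_hasPullback i₁ (c.π.app j)).paste_horiz sq
    rw [c.w φ] at h1
    have h2 : IsOpenMap (r ≫ f') := h.universally_isOpenMap _ _ _ h1
    intro U hU
    have : f' '' U = (r ≫ f') '' (r ⁻¹' U) := by
      conv_lhs => rw [← Set.image_preimage_eq U r.surjective]
      rw [Set.image_image]
      rfl
    rw [this]
    exact h2 _ (hU.preimage r.continuous)
  · intro h
    refine ⟨fun {X' Y'} i₁ i₂ f' sq => ?_⟩
    let F := Over.forget i
    let c' : Cone (F ⋙ D) := c.whisker F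
    have hc' : IsLimit c' := (Functor.Initial.isLimitWhiskerEquiv F c).symm hc
    have hq : ∀ k, c'.π.app k ≫ (overT D i).app k = c.π.app i := fun k => c.w k.hom
    haveI : ∀ k, IsAffineHom ((overT D i).app k) := fun k =>
      ‹∀ {i j : I} (a : i ⟶ j), IsAffineHom (D.map a)› k.hom
    have hsq : IsPullback f' i₁ i₂ (c.π.app i) := sq
    let k₀ : Over i := Over.mk (𝟙 i)
    have hopen : IsOpenMap ((pbCone (F ⋙ D) (overT D i) i₂ c' hq hsq).π.app k₀) := by
      rw [isOpenMap_π_iff (pbIsLimit (F ⋙ D) (overT D i) i₂ c' hq hsq hc') k₀ (fun k _ =>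
        MorphismProperty.of_isPullback (pbCone_isPullback (F ⋙ D) (overT D i) i₂ c' hq hsq k).flip
          (hs k.left k.hom))]
      intro k a
      exact (h k.left a.left).universally_isOpenMap _ _ _
        (pbMap_isPullback (F ⋙ D) (overT D i) i₂ a)
    haveI : IsIso ((overT D i).app k₀) := by
      show IsIso (D.map (𝟙 i)); rw [D.map_id]; infer_instance
    have hfst : IsOpenMap (pullback.fst i₂ ((overT D i).app k₀)) :=
      (pullback.fst i₂ ((overT D i).app k₀)).isOpenEmbedding.isOpenMap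
    show IsOpenMap f'
    rw [← pbCone_fst (F ⋙ D) (overT D i) i₂ c' hq hsq k₀]
    exact hfst.comp hopen

/-- A base change to the limit is open if those to small stages are. -/
theorem isOpenMap_of_eventually (hc : IsLimit c) {i₀ : I} {X₀ Y₀ : Scheme.{u}} (f₀ : X₀ ⟶ Y₀)
    (g₀ : Y₀ ⟶ D.obj i₀) {X Y : Scheme.{u}} (f : X ⟶ Y) (g : Y ⟶ c.pt) (qY : Y ⟶ Y₀)
    (qX : X ⟶ X₀) (hY : IsPullback qY g g₀ (c.π.app i₀)) (hX : IsPullback qX f f₀ qY)
    {i : I} (φ : i ⟶ i₀)
    (h : ∀ (j : I) (ψ : j ⟶ i) (Xj Yj : Scheme.{u}) (fj : Xj ⟶ Yj) (gj : Yj ⟶ D.obj j)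
      (pY : Yj ⟶ Y₀) (pX : Xj ⟶ X₀), IsPullback pY gj g₀ (D.map (ψ ≫ φ)) →
      IsPullback pX fj f₀ pY → IsOpenMap fj) : IsOpenMap f := by
  let F := Over.forget i
  let c' : Cone (F ⋙ D) := c.whisker F
  have hc' : IsLimit c' := (Functor.Initial.isLimitWhiskerEquiv F c).symm hc
  let t : F ⋙ D ⟶ (Functor.const (Over i)).obj (D.obj i₀) :=
    { app := fun k => D.map (k.hom ≫ φ)
      naturality := fun k l a => by
        show D.map a.left ≫ D.map (l.hom ≫ φ) = D.map (k.hom ≫ φ) ≫ 𝟙 _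
        rw [← D.map_comp, ← Category.assoc, Over.w a, Category.comp_id] }
  haveI : ∀ k, IsAffineHom (t.app k) := fun k =>
    ‹∀ {i j : I} (a : i ⟶ j), IsAffineHom (D.map a)› (k.hom ≫ φ)
  have hq : ∀ k, c'.π.app k ≫ t.app k = c.π.app i₀ := fun k => c.w (k.hom ≫ φ)
  let E := pbDiagram (F ⋙ D) t g₀
  let e : Cone E := pbCone (F ⋙ D) t g₀ c' hq hY
  have he : IsLimit e := pbIsLimit (F ⋙ D) t g₀ c' hq hY hc'
  let tE := pbFst (F ⋙ D) t g₀
  have hqE : ∀ k, e.π.app k ≫ tE.app k = qY := fun k => pbCone_fst (F ⋙ D) t g₀ c' hq hY k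
  let cX := pbCone E tE f₀ e hqE hX
  have hcX : IsLimit cX := pbIsLimit E tE f₀ e hqE hX he
  show IsOpenMap f
  rw [(isBasis_preimage_isAffineOpen _ cX hcX).isOpenMap_iff]
  rintro _ ⟨_, ⟨k, W, -, rfl⟩, rfl⟩
  have hsq : IsPullback (cX.π.app k) f (pullback.snd f₀ (tE.app k)) (e.π.app k) :=
    pbCone_isPullback E tE f₀ e hqE hX k
  have hopen : IsOpenMap (pullback.snd f₀ (tE.app k)) :=
    h k.left k.hom _ _ (pullback.snd f₀ (tE.app k)) (pullback.snd g₀ (t.app k))
      (pullback.fst g₀ (t.app k)) (pullback.fst f₀ (tE.app k))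
      (IsPullback.of_hasPullback g₀ (t.app k)) (IsPullback.of_hasPullback f₀ (tE.app k))
  have : f '' ((cX.π.app k ⁻¹ᵁ W : X.Opens) : Set X) =
      e.π.app k ⁻¹' ((pullback.snd f₀ (tE.app k)).base '' (SetLike.coe (W : (pullback f₀ (tE.app k)).Opens) : Set ↥(pullback f₀ (tE.app k)))) := by
    ext y
    constructor
    · rintro ⟨x, hx, rfl⟩
      exact ⟨cX.π.app k x, hx, congrArg (fun m => m x) hsq.w⟩
    · rintro ⟨w, hw, hwy⟩
      obtain ⟨x, hx1, hx2⟩ := Scheme.exists_preimage_of_isPullback hsq w y hwy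
      exact ⟨x, by show cX.π.app k x ∈ W; exact hx1 ▸ hw, hx2⟩
  rw [this]
  exact (hopen _ W.2).preimage (e.π.app k).continuous

/-- Empty base changes to the limit are empty at a stage. -/
theorem exists_isEmpty_pullback (hc : IsLimit c) (i : I) {T : Scheme.{u}} (a : T ⟶ D.obj i)
    [CompactSpace T] (h : IsEmpty ↥(pullback a (c.π.app i))) :
    ∃ (j : I) (φ : j ⟶ i), IsEmpty ↥(pullback a (D.map φ)) := by
  by_contra! H
  let F := Over.forget i
  let c' : Cone (F ⋙ D) := c.whisker F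
  have hc' : IsLimit c' := (Functor.Initial.isLimitWhiskerEquiv F c).symm hc
  have hq : ∀ k, c'.π.app k ≫ (overT D i).app k = c.π.app i := fun k => c.w k.hom
  haveI : ∀ k, IsAffineHom ((overT D i).app k) := fun k =>
    ‹∀ {i j : I} (a : i ⟶ j), IsAffineHom (D.map a)› k.hom
  haveI : ∀ k, Nonempty ((pbDiagram (F ⋙ D) (overT D i) a).obj k) := fun k => H k.left k.hom
  obtain ⟨p⟩ := Scheme.nonempty_of_isLimit _ _ (pbIsLimit (F ⋙ D) (overT D i) a c' hq
    (IsPullback.of_hasPullback a (c.π.app i)) hc')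
  exact h.elim p

end Groth.Agent.LimH13
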