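import Groth.Agent.S4787
import Groth.Agent.Lib.LimH13.Stalk
import Groth.Agent.Lib.LimH13.Open
import Groth.Agent.Lib.ConsH13.IndCons
import Groth.Agent.Lib.ConsTop3.Scheme
import Groth.Agent.Lib.ProConsDesc12.Basic
import Mathlib.AlgebraicGeometry.Morphisms.UniversallyOpen

/-!
# Closures of pro-constructible sets along flat limits
-/

set_option autoImplicit false
set_option backward.isDefEq.respectTransparency false
set_option linter.style.haveILetI false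
universe u

open CategoryTheory CategoryTheory.Limits AlgebraicGeometry Topology
open Groth.Agent.Descend

namespace Groth.Agent.LimH13

variable {I : Type u} [SmallCategory I] [IsCofiltered I] {D : I ⥤ Scheme.{u}} {c : Cone D}
  [∀ {i j : I} (a : i ⟶ j), IsAffineHom (D.map a)]

theorem preimage_subset_closure_iff (hc : IsLimit c) (i₁ : I) [CompactSpace (D.obj i₁)]
    (hfl : ∀ (j : I) (φ : j ⟶ i₁), Flat (D.map φ))
    (Z' Z'' : Set (D.obj i₁)) (hZ' : ProCons.IsProConstructible Z') (hZ'' : ProCons.IsProConstructible Z'')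
    (hcl : IsConstructible (closure Z')) :
    (⇑(c.π.app i₁) ⁻¹' Z'' : Set c.pt) ⊆ closure (⇑(c.π.app i₁) ⁻¹' Z' : Set c.pt) ↔
      ∃ (j : I) (φ : j ⟶ i₁), ⇑(D.map φ) ⁻¹' Z'' ⊆ closure (⇑(D.map φ) ⁻¹' Z') := by
  haveI : Flat (c.π.app i₁) := flat_π hc i₁ hfl
  rw [← ProConsDesc12.preimage_closure_eq _ (Flat.generalizingMap _) hZ']
  have hj : ∀ (j : I) (φ : j ⟶ i₁),
      closure (⇑(D.map φ) ⁻¹' Z') = ⇑(D.map φ) ⁻¹' closure Z' := fun j φ => by
    haveI := hfl j φ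
    exact (ProConsDesc12.preimage_closure_eq _ (Flat.generalizingMap _) hZ').symm
  simp only [hj]
  let F := Over.forget i₁
  let c' : Cone (F ⋙ D) := c.whisker F
  have hc' : IsLimit c' := (Functor.Initial.isLimitWhiskerEquiv F c).symm hc
  haveI : ∀ (k l : Over i₁) (a : k ⟶ l), IsAffineHom ((F ⋙ D).map a) := fun k l a =>
    ‹∀ {i j : I} (a : i ⟶ j), IsAffineHom (D.map a)› a.left
  haveI : CompactSpace ↥((F ⋙ D).obj (Over.mk (𝟙 i₁))) := ‹CompactSpace (D.obj i₁)›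
  have key := Groth.Agent.S4787.result (F ⋙ D) c' hc' (Over.mk (𝟙 i₁))
    (fun k => ⇑(D.map k.hom) ⁻¹' Z'') (fun k => ⇑(D.map k.hom) ⁻¹' closure Z')
    (fun k => ConsH13.isProConstructible_preimage _ hZ'')
    (fun k => ConsH13.isIndConstructible_preimage _
      (ConsTop3.isIndConstructible_of_isLocallyConstructible hcl.isLocallyConstructible))
    (fun k l a x hx => by
      show D.map l.hom (D.map a.left x) ∈ Z''
      rw [← Scheme.Hom.comp_apply, ← D.map_comp, Over.w a]; exact hx)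
    (fun k l a x hx => by
      have h2 : D.map l.hom (D.map a.left x) ∈ closure Z' := hx
      rw [← Scheme.Hom.comp_apply, ← D.map_comp, Over.w a] at h2; exact h2)
  have hπ : ∀ (k : Over i₁) (Z : Set (D.obj i₁)),
      ⇑(c'.π.app k) ⁻¹' (⇑(D.map k.hom) ⁻¹' Z) = ⇑(c.π.app i₁) ⁻¹' Z := fun k Z => by
    ext x
    show D.map k.hom (c.π.app k.left x) ∈ Z ↔ _
    rw [← Scheme.Hom.comp_apply, c.w k.hom]; rfl
  haveI : Nonempty (Over i₁) := ⟨Over.mk (𝟙 i₁)⟩
  constructor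
  · intro h
    obtain ⟨k, -, hk⟩ := key.1 (by
      intro x hx
      have h1 := Set.mem_iInter.1 hx (Over.mk (𝟙 i₁))
      rw [hπ] at h1
      exact Set.mem_iUnion.2 ⟨Over.mk (𝟙 i₁), by rw [hπ]; exact h h1⟩)
    exact ⟨k.left, k.hom, hk k (𝟙 k)⟩
  · rintro ⟨j, φ, h⟩
    have h' := key.2 ⟨Over.mk φ, Over.homMk φ, fun k a (x : D.obj k.left) hx => by
      show D.map k.hom x ∈ closure Z'
      have he : D.map a.left ≫ D.map φ = D.map k.hom :=
        (D.map_comp _ _).symm.trans (congrArg D.map (Over.w a))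
      have e1 : D.map φ (D.map a.left x) = D.map k.hom x := congrArg (fun m => m x) he
      have h3 : D.map k.hom x ∈ closure Z' :=
        (congrArg (fun q => q ∈ closure Z') e1).mp (h ((congrArg (fun q => q ∈ Z'') e1).mpr hx))
      exact h3⟩
    intro x hx
    have h4 : x ∈ ⋂ k, ⇑(c'.π.app k) ⁻¹' (⇑(D.map k.hom) ⁻¹' Z'') :=
      Set.mem_iInter.2 fun k => by rw [hπ]; exact hx
    obtain ⟨k, hk⟩ := Set.mem_iUnion.1 (h' h4)
    rw [hπ] at hk
    exact hk

theorem isDominant_iff_eventually_of_flat (hc : IsLimit c) (i₀ : I) [CompactSpace (D.obj i₀)]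
    (hfl : ∀ (i j : I) (φ : i ⟶ j), Flat (D.map φ))
    {X₀ Y₀ : Scheme.{u}} (f₀ : X₀ ⟶ Y₀) (g₀ : Y₀ ⟶ D.obj i₀)
    [QuasiCompact (f₀ ≫ g₀)] [QuasiCompact g₀] [QuasiSeparated g₀]
    (hcl : IsConstructible (closure (Set.range ⇑f₀)))
    {X Y : Scheme.{u}} (f : X ⟶ Y) (g : Y ⟶ c.pt) (qY : Y ⟶ Y₀) (qX : X ⟶ X₀)
    (hY : IsPullback qY g g₀ (c.π.app i₀)) (hX : IsPullback qX f f₀ qY) :
    IsDominant f ↔ ∃ (j : I) (φ : j ⟶ i₀) (Xj Yj : Scheme.{u}) (fj : Xj ⟶ Yj) (gj : Yj ⟶ D.obj j)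
      (pY : Yj ⟶ Y₀) (pX : Xj ⟶ X₀), IsPullback pY gj g₀ (D.map φ) ∧ IsPullback pX fj f₀ pY ∧
      IsDominant fj := by
  haveI : QuasiCompact f₀ := QuasiCompact.of_comp f₀ g₀
  haveI : CompactSpace Y₀ := QuasiCompact.compactSpace_of_compactSpace g₀
  have huniv : ProCons.IsProConstructible (Set.univ : Set Y₀) :=
    ConsTop3.isProConstructible_of_isLocallyConstructible IsConstructible.univ.isLocallyConstructible
  have hrange : ProCons.IsProConstructible (Set.range ⇑f₀) := by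
    rw [← Set.image_univ]
    exact ConsTop3.isProConstructible_image f₀
      (ConsTop3.isProConstructible_of_isLocallyConstructible IsConstructible.univ.isLocallyConstructible)
  let F := Over.forget i₀
  let c' : Cone (F ⋙ D) := c.whisker F
  have hc' : IsLimit c' := (Functor.Initial.isLimitWhiskerEquiv F c).symm hc
  let t : F ⋙ D ⟶ (Functor.const (Over i₀)).obj (D.obj i₀) := overT D i₀
  haveI : ∀ k, IsAffineHom (t.app k) := fun k =>
    ‹∀ {i j : I} (a : i ⟶ j), IsAffineHom (D.map a)› k.hom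
  have hq : ∀ k, c'.π.app k ≫ t.app k = c.π.app i₀ := fun k => c.w k.hom
  have he : IsLimit (pbCone (F ⋙ D) t g₀ c' hq hY) := pbIsLimit (F ⋙ D) t g₀ c' hq hY hc'
  let k₀ : Over i₀ := Over.mk (𝟙 i₀)
  let p₀ : (pbDiagram (F ⋙ D) t g₀).obj k₀ ⟶ Y₀ := pullback.fst g₀ (t.app k₀)
  haveI : IsIso (t.app k₀) := by
    show IsIso (D.map (𝟙 i₀)); rw [D.map_id]; infer_instance
  haveI : IsIso p₀ := inferInstanceAs (IsIso (pullback.fst g₀ (t.app k₀)))
  haveI : CompactSpace ((pbDiagram (F ⋙ D) t g₀).obj k₀) := pb_compactSpace (F ⋙ D) t g₀ k₀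
  have hflE : ∀ (k : Over i₀) (a : k ⟶ k₀), Flat ((pbDiagram (F ⋙ D) t g₀).map a) := fun k a =>
    MorphismProperty.of_isPullback (pbMap_isPullback (F ⋙ D) t g₀ a).flip (hfl _ _ a.left)
  have hcl' : IsConstructible (closure (⇑p₀ ⁻¹' Set.range ⇑f₀)) := by
    rw [← p₀.isOpenEmbedding.isOpenMap.preimage_closure_eq_closure_preimage p₀.continuous]
    exact hcl.preimage_of_isOpenEmbedding p₀.isOpenEmbedding
  have hmain := preimage_subset_closure_iff (D := (pbDiagram (F ⋙ D) t g₀)) (c := pbCone (F ⋙ D) t g₀ c' hq hY) he k₀ hflE (⇑p₀ ⁻¹' Set.range ⇑f₀)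
    Set.univ (ConsH13.isProConstructible_preimage _ hrange)
    (ConsTop3.isProConstructible_of_isLocallyConstructible IsConstructible.univ.isLocallyConstructible) hcl'
  -- identify the preimages with ranges
  have hlim : ⇑((pbCone (F ⋙ D) t g₀ c' hq hY).π.app k₀) ⁻¹' (⇑p₀ ⁻¹' Set.range ⇑f₀) = Set.range ⇑f := by
    ext y
    show p₀ ((pbCone (F ⋙ D) t g₀ c' hq hY).π.app k₀ y) ∈ Set.range ⇑f₀ ↔ _
    rw [← Scheme.Hom.comp_apply, show (pbCone (F ⋙ D) t g₀ c' hq hY).π.app k₀ ≫ p₀ = qY from pbCone_fst (F ⋙ D) t g₀ c' hq hY k₀]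
    refine ⟨fun ⟨x, hx⟩ => ?_, fun ⟨x, hx⟩ => ⟨qX x, by rw [← hx, ← Scheme.Hom.comp_apply, hX.w]; rfl⟩⟩
    obtain ⟨z, -, hz⟩ := Scheme.exists_preimage_of_isPullback hX x y hx
    exact ⟨z, hz⟩
  rw [hlim, Set.preimage_univ] at hmain
  have hdom : IsDominant f ↔ Set.univ ⊆ closure (Set.range ⇑f) := by
    rw [isDominant_iff, denseRange_iff_closure_range, ← Set.univ_subset_iff]
  rw [hdom, hmain]
  constructor
  · rintro ⟨k, a, hk⟩
    let pY : (pbDiagram (F ⋙ D) t g₀).obj k ⟶ Y₀ := pullback.fst g₀ (t.app k)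
    refine ⟨k.left, k.hom, pullback f₀ pY, (pbDiagram (F ⋙ D) t g₀).obj k, pullback.snd f₀ pY, pullback.snd g₀ (t.app k), pY,
      pullback.fst f₀ pY, IsPullback.of_hasPullback g₀ (t.app k), IsPullback.of_hasPullback f₀ pY, ?_⟩
    rw [isDominant_iff, denseRange_iff_closure_range, ← Set.univ_subset_iff]
    rw [Set.preimage_univ] at hk
    refine hk.trans (closure_mono ?_)
    intro y hy
    obtain ⟨x, hx⟩ := (show p₀ ((pbDiagram (F ⋙ D) t g₀).map a y) ∈ Set.range ⇑f₀ from hy)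
    rw [← Scheme.Hom.comp_apply, show (pbDiagram (F ⋙ D) t g₀).map a ≫ p₀ = pY from pbMap_fst (F ⋙ D) t g₀ a] at hx
    obtain ⟨z, -, hz⟩ := Scheme.exists_preimage_of_isPullback (IsPullback.of_hasPullback f₀ pY) x y hx
    exact ⟨z, hz⟩
  · rintro ⟨j, φ, Xj, Yj, fj, gj, pY, pX, h1, h2, hfj⟩
    let k : Over i₀ := Over.mk φ
    let a : k ⟶ k₀ := Over.homMk φ
    refine ⟨k, a, ?_⟩
    rw [Set.preimage_univ]
    let ε : Yj ≅ (pbDiagram (F ⋙ D) t g₀).obj k := h1.isoIsPullback _ _ (IsPullback.of_hasPullback g₀ (t.app k))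
    have hε : ε.hom ≫ pullback.fst g₀ (t.app k) = pY := h1.isoIsPullback_hom_fst _ _ _
    have hd : DenseRange (fj ≫ ε.hom) := (inferInstance : IsDominant (fj ≫ ε.hom)).denseRange
    rw [← hd.closure_range]
    refine closure_mono ?_
    rintro _ ⟨x, rfl⟩
    show p₀ ((pbDiagram (F ⋙ D) t g₀).map a ((fj ≫ ε.hom) x)) ∈ Set.range ⇑f₀
    rw [← Scheme.Hom.comp_apply, show (pbDiagram (F ⋙ D) t g₀).map a ≫ p₀ = pullback.fst g₀ (t.app k) from pbMap_fst (F ⋙ D) t g₀ a,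
      ← Scheme.Hom.comp_apply, Category.assoc, hε, ← h2.w]
    exact ⟨pX x, rfl⟩

end Groth.Agent.LimH13
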