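import Mathlib
import Groth.Agent.Lib.DVRVal.Criterion
import Groth.Agent.Lib.ValCritRes.Criterion
import Groth.Agent.Lib.RedSep.Basic
import Groth.Agent.Lib.SchPt.Basic

/-!
Valuative criteria over a locally Noetherian base tested on discrete valuation rings of the residue
fields of a dense set of points.
-/

universe u

open CategoryTheory CategoryTheory.Limits AlgebraicGeometry TopologicalSpace IsLocalRing

namespace Groth.Agent.LimH13

variable {X S Z : Scheme.{u}}

lemma range_subset_of_mem_open {A : Type u} [CommRing A] [IsLocalRing A]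
    (φ : Spec (CommRingCat.of A) ⟶ X) (U : X.Opens) (h : φ (closedPoint A) ∈ U) :
    Set.range φ ⊆ (U : Set X) := by
  rintro _ ⟨p, rfl⟩
  exact ((IsLocalRing.specializes_closedPoint p).map φ.continuous).mem_open U.2 h

/-- If lifts exist along the discrete valuation rings of `κ(z)`, they exist along all the valuation
rings of `κ(z)`. -/
theorem exists_lift_of_dvr [IsLocallyNoetherian S] (h : Z ⟶ X) (f : X ⟶ S) [QuasiCompact f]
    [LocallyOfFiniteType (h ≫ f)] (z : Z)
    (H : ∀ A : ValuationSubring (Z.residueField z), IsDiscreteValuationRing A →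
      ∀ y : Spec (CommRingCat.of A) ⟶ S,
        Spec.map (CommRingCat.ofHom A.subtype) ≫ y = Z.fromSpecResidueField z ≫ h ≫ f →
        ∃ l : Spec (CommRingCat.of A) ⟶ X,
          Spec.map (CommRingCat.ofHom A.subtype) ≫ l = Z.fromSpecResidueField z ≫ h ∧ l ≫ f = y)
    (R : ValuationSubring (Z.residueField z)) (φ : Spec (CommRingCat.of R) ⟶ S)
    (w : Spec.map (CommRingCat.ofHom R.subtype) ≫ φ = Z.fromSpecResidueField z ≫ h ≫ f) :
    ∃ φ' : Spec (CommRingCat.of R) ⟶ X,
      Spec.map (CommRingCat.ofHom R.subtype) ≫ φ' = Z.fromSpecResidueField z ≫ h ∧ φ' ≫ f = φ := by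
  classical
  set m := Z.fromSpecResidueField z ≫ h with hm
  have hmpt : ∀ p, m p = h z := fun p => by
    rw [hm, Scheme.Hom.comp_apply, Scheme.fromSpecResidueField_apply]
  obtain ⟨_, ⟨W, hW, rfl⟩, hsW, -⟩ :=
    S.isBasis_affineOpens.exists_subset_of_mem_open (Set.mem_univ (φ (closedPoint R))) isOpen_univ
  replace hW : IsAffineOpen W := hW
  haveI := hW.isOpenImmersion_fromSpec
  have hφW : Set.range φ ⊆ Set.range hW.fromSpec := by
    rw [hW.range_fromSpec]; exact range_subset_of_mem_open φ W hsW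
  obtain ⟨φ₀, hφ₀⟩ : ∃ φ₀, φ₀ ≫ hW.fromSpec = φ :=
    ⟨IsOpenImmersion.lift hW.fromSpec φ hφW, IsOpenImmersion.lift_fac _ _ _⟩
  obtain ⟨ρ, rfl⟩ := Spec.map_surjective φ₀
  have hzW : (h ≫ f) z ∈ W := by
    have e : (h ≫ f) z = φ (Spec.map (CommRingCat.ofHom R.subtype) (closedPoint (Z.residueField z))) :=
      ((congrArg (fun q => (h ≫ f) q) (Scheme.fromSpecResidueField_apply z
        (closedPoint (Z.residueField z)))).symm).trans
        (congrArg (fun q : Spec (Z.residueField z) ⟶ S => q (closedPoint (Z.residueField z))) w).symm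
    rw [e]
    exact range_subset_of_mem_open φ W hsW (Set.mem_range_self _)
  -- the structure homomorphism `Γ(S, W) → κ(z)` is essentially of finite type
  set θ : Γ(S, W) ⟶ (Z.residueField z) := ρ ≫ CommRingCat.ofHom R.subtype with hθ
  have hθw : Spec.map θ ≫ hW.fromSpec = m ≫ f := by
    change Spec.map (ρ ≫ CommRingCat.ofHom R.subtype) ≫ _ = _
    erw [Spec.map_comp]
    rw [Category.assoc]
    erw [hφ₀, w]
    rw [hm, Category.assoc]
  obtain ⟨_, ⟨V, hV, rfl⟩, hzV, hVW⟩ :=
    Z.isBasis_affineOpens.exists_subset_of_mem_open (show z ∈ (h ≫ f) ⁻¹ᵁ W from hzW)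
      ((h ≫ f) ⁻¹ᵁ W).2
  replace hV : IsAffineOpen V := hV
  replace hVW : V ≤ (h ≫ f) ⁻¹ᵁ W := hVW
  have hess : θ.hom.EssFiniteType := by
    have e : θ = (h ≫ f).appLE W V hVW ≫ Z.presheaf.germ V z hzV ≫ Z.residue z := by
      apply Spec.map_injective
      rw [← cancel_mono hW.fromSpec, hθw, Spec.map_comp, Category.assoc,
        Category.assoc, IsAffineOpen.SpecMap_appLE_fromSpec _ hW hV hVW, Spec.map_comp]
      simp only [Scheme.fromSpecResidueField, ← hV.fromSpecStalk_eq_fromSpecStalk hzV,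
        IsAffineOpen.fromSpecStalk, Category.assoc]
    rw [e]
    refine RingHom.EssFiniteType.comp (f := ((h ≫ f).appLE W V hVW).hom) ?_ ?_
    · exact (LocallyOfFiniteType.finiteType_appLE (f := h ≫ f) hW hV hVW).essFiniteType
    · refine RingHom.EssFiniteType.comp (f := (Z.presheaf.germ V z hzV).hom) ?_ ?_
      · letI : Algebra Γ(Z, V) (Z.presheaf.stalk z) := (Z.presheaf.germ V z hzV).hom.toAlgebra
        haveI := hV.isLocalization_stalk ⟨z, hzV⟩
        have : Algebra.EssFiniteType Γ(Z, V) (Z.presheaf.stalk z) :=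
          Algebra.EssFiniteType.of_isLocalization _ (hV.primeIdealOf ⟨z, hzV⟩).asIdeal.primeCompl
        exact this
      · exact (RingHom.FiniteType.of_surjective _ (Z.residue_surjective z)).essFiniteType
  -- finitely many affine opens cover the preimage of `W`
  have hcov : ∀ x : X, x ∈ f ⁻¹ᵁ W → ∃ U : X.Opens, IsAffineOpen U ∧ x ∈ U ∧ U ≤ f ⁻¹ᵁ W := fun x hx => by
    obtain ⟨_, ⟨U, hU, rfl⟩, hxU, hUW⟩ := X.isBasis_affineOpens.exists_subset_of_mem_open hx (f ⁻¹ᵁ W).2
    exact ⟨U, hU, hxU, hUW⟩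
  choose U hU hxU hUW using hcov
  obtain ⟨t, ht⟩ := (f.isCompact_preimage hW.isCompact).elim_finite_subcover
    (fun x : {x // x ∈ f ⁻¹ᵁ W} => (U x.1 x.2 : Set X)) (fun x => (U x.1 x.2).2)
    (fun x hx => Set.mem_iUnion.mpr ⟨⟨x, hx⟩, hxU x hx⟩)
  haveI : ∀ (x : X) (hx : x ∈ f ⁻¹ᵁ W), IsOpenImmersion (hU x hx).fromSpec := fun x hx =>
    (hU x hx).isOpenImmersion_fromSpec
  let t' := t.filter fun i => h z ∈ U i.1 i.2
  have hev : ∀ i : {i // i ∈ t'}, ∃ ev : Γ(X, U i.1.1 i.1.2) ⟶ (Z.residueField z),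
      Spec.map ev ≫ (hU i.1.1 i.1.2).fromSpec = m := fun i => by
    have hr : Set.range m ⊆ Set.range (hU i.1.1 i.1.2).fromSpec := by
      rintro _ ⟨p, rfl⟩
      rw [IsAffineOpen.range_fromSpec, hmpt]
      exact (Finset.mem_filter.mp i.2).2
    obtain ⟨ev, hev⟩ := Spec.map_surjective (IsOpenImmersion.lift (hU i.1.1 i.1.2).fromSpec m hr)
    exact ⟨ev, by rw [hev, IsOpenImmersion.lift_fac]⟩
  choose ev hev using hev
  by_cases hcase : ∃ i : {i // i ∈ t'}, ∀ b, (ev i).hom b ∈ R
  · obtain ⟨i, hi⟩ := hcase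
    let α : Γ(X, U i.1.1 i.1.2) ⟶ CommRingCat.of R :=
      CommRingCat.ofHom ((ev i).hom.codRestrict R.toSubring hi)
    have hα : α ≫ CommRingCat.ofHom R.subtype = ev i := CommRingCat.hom_ext (RingHom.ext fun _ => rfl)
    refine ⟨Spec.map α ≫ (hU i.1.1 i.1.2).fromSpec, ?_, ?_⟩
    · rw [← Spec.map_comp_assoc, hα, hev i]
    · have hc : (Spec.map α ≫ (hU i.1.1 i.1.2).fromSpec) ≫ f =
          Spec.map (f.appLE W (U i.1.1 i.1.2) (hUW _ _) ≫ α) ≫ hW.fromSpec := by
        rw [Spec.map_comp, Category.assoc, Category.assoc,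
          IsAffineOpen.SpecMap_appLE_fromSpec f hW (hU i.1.1 i.1.2) (hUW _ _)]
      rw [hc, ← hφ₀]
      congr 2
      apply CommRingCat.hom_ext
      refine RingHom.ext fun o => Subtype.ext ?_
      have e : (f.appLE W (U i.1.1 i.1.2) (hUW _ _) ≫ α) ≫ CommRingCat.ofHom R.subtype = θ := by
        apply Spec.map_injective
        rw [← cancel_mono hW.fromSpec, hθw, Spec.map_comp, Category.assoc, ← hc,
          Category.assoc, ← Spec.map_comp_assoc _ (CommRingCat.ofHom R.subtype), hα, reassoc_of% (hev i)]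
      exact RingHom.congr_fun (congrArg CommRingCat.Hom.hom e) o
  exfalso
  simp only [not_exists, not_forall] at hcase
  choose b hb using hcase
  let c : {i // i ∈ t'} → (Z.residueField z) := fun i => ((ev i).hom (b i))⁻¹
  have hcR : ∀ i, c i ∈ R := fun i => (R.mem_or_inv_mem _).resolve_left (hb i)
  have hb0 : ∀ i, (ev i).hom (b i) ≠ 0 := fun i e => hb i (e ▸ R.zero_mem)
  letI : Algebra Γ(S, W) (Z.residueField z) := θ.hom.toAlgebra
  let C := Algebra.adjoin Γ(S, W) (Set.range c)
  let R' : Subalgebra Γ(S, W) (Z.residueField z) := { R.toSubring with algebraMap_mem' := fun o => (ρ.hom o).2 }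
  have hCR : C ≤ R' := Algebra.adjoin_le (by rintro _ ⟨i, rfl⟩; exact hcR i)
  let ι : C →+* R := C.val.toRingHom.codRestrict R.toSubring fun y => hCR y.2
  let p : Ideal C := (maximalIdeal R).comap ι
  haveI : IsNoetherianRing Γ(S, W) := IsLocallyNoetherian.component_noetherian ⟨W, hW⟩
  haveI : IsNoetherianRing C := isNoetherianRing_of_fg (Subalgebra.fg_def.mpr ⟨_, Set.finite_range c, rfl⟩)
  haveI hp : p.IsPrime := Ideal.comap_isPrime _ _
  let χ : Localization.AtPrime p →+* (Z.residueField z) :=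
    IsLocalization.lift (M := p.primeCompl) (g := C.val.toRingHom) fun y => isUnit_iff_ne_zero.mpr fun e =>
      y.2 (by
        change ι y.1 ∈ maximalIdeal R
        rw [show ι y.1 = 0 from Subtype.ext e]
        exact zero_mem _)
  have hχ : ∀ y : C, χ (algebraMap C _ y) = (y : (Z.residueField z)) := fun y => IsLocalization.lift_eq _ y
  have hχess : χ.EssFiniteType := by
    letI := χ.toAlgebra
    haveI : IsScalarTower Γ(S, W) (Localization.AtPrime p) (Z.residueField z) := IsScalarTower.of_algebraMap_eq fun o => by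
      rw [IsScalarTower.algebraMap_apply Γ(S, W) C (Localization.AtPrime p) o]
      exact (hχ (algebraMap Γ(S, W) C o)).symm
    haveI : Algebra.EssFiniteType Γ(S, W) (Z.residueField z) := hess
    exact Algebra.EssFiniteType.of_comp Γ(S, W) (Localization.AtPrime p) (Z.residueField z)
  have hcp : ∀ i, (⟨c i, Algebra.subset_adjoin ⟨i, rfl⟩⟩ : C) ∈ p := fun i hu => by
    apply hb i
    obtain ⟨q, hq⟩ := hu.exists_right_inv
    have : c i * (q : (Z.residueField z)) = 1 := congrArg Subtype.val hq
    have : (q : (Z.residueField z)) = (ev i).hom (b i) := by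
      rw [eq_comm, ← inv_inj]; exact eq_inv_of_mul_eq_one_left this
    exact this ▸ q.2
  -- some chart contains `h z`
  have hne : Nonempty {i // i ∈ t'} := by
    obtain ⟨i, hit, hi⟩ := Set.mem_iUnion₂.mp
      (ht (show h z ∈ f ⁻¹' (W : Set S) by rw [Set.mem_preimage, ← Scheme.Hom.comp_apply]; exact hzW))
    exact ⟨⟨i, Finset.mem_filter.mpr ⟨hit, hi⟩⟩⟩
  obtain ⟨i₀⟩ := hne
  have hker : RingHom.ker χ ≠ maximalIdeal (Localization.AtPrime p) := fun e => by
    have hmem : algebraMap C (Localization.AtPrime p) ⟨c i₀, Algebra.subset_adjoin ⟨i₀, rfl⟩⟩ ∈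
        maximalIdeal (Localization.AtPrime p) :=
      (IsLocalization.AtPrime.to_map_mem_maximal_iff _ p _).mpr (hcp i₀)
    rw [← e, RingHom.mem_ker, hχ] at hmem
    exact inv_ne_zero (hb0 i₀) hmem
  obtain ⟨A, hA, hAmem, hAlt⟩ := Groth.Agent.DVRVal.exists_dvr _ _ χ hχess hker
  have hθA : ∀ o, θ.hom o ∈ A := fun o => by
    have := hAmem (algebraMap C _ (algebraMap Γ(S, W) C o))
    rwa [hχ] at this
  have hyw : Spec.map (CommRingCat.ofHom A.subtype) ≫
      Spec.map (CommRingCat.ofHom (θ.hom.codRestrict A.toSubring hθA)) ≫ hW.fromSpec =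
        Z.fromSpecResidueField z ≫ h ≫ f := by
    rw [← Spec.map_comp_assoc, ← Category.assoc (Z.fromSpecResidueField z), ← hm, ← hθw]
    rfl
  obtain ⟨l, hl1, hl2⟩ := H A hA _ hyw
  have hlW : l (closedPoint A) ∈ f ⁻¹ᵁ W := by
    have e := congrArg (fun q : Spec (CommRingCat.of A) ⟶ S => q (closedPoint A)) hl2
    change f (l _) ∈ W
    refine (e.symm ▸ ?_ : (l ≫ f) (closedPoint A) ∈ W)
    exact hW.range_fromSpec.le (Set.mem_range_self _)
  obtain ⟨i, hit, hi⟩ := Set.mem_iUnion₂.mp (ht hlW)
  have hlU := range_subset_of_mem_open l (U i.1 i.2) hi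
  have hiz : h z ∈ U i.1 i.2 := by
    have e := (congrArg (fun q : Spec (Z.residueField z) ⟶ X => q (closedPoint (Z.residueField z))) hl1).trans
      (hmpt (closedPoint (Z.residueField z)))
    exact e ▸ hlU (Set.mem_range_self _)
  let i' : {i // i ∈ t'} := ⟨i, Finset.mem_filter.mpr ⟨hit, hiz⟩⟩
  obtain ⟨lA, hlA⟩ := Spec.map_surjective
    (IsOpenImmersion.lift (hU i.1 i.2).fromSpec l (by rw [IsAffineOpen.range_fromSpec]; exact hlU))
  have e : lA ≫ CommRingCat.ofHom A.subtype = ev i' := by
    apply Spec.map_injective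
    rw [← cancel_mono (hU i.1 i.2).fromSpec, hev i', Spec.map_comp, Category.assoc, hlA,
      IsOpenImmersion.lift_fac, hl1]
  have hle : A.valuation ((ev i').hom (b i')) ≤ 1 := by
    rw [A.valuation_le_one_iff, ← e]
    exact (lA.hom (b i')).2
  have hlt := hAlt (algebraMap C _ ⟨c i', Algebra.subset_adjoin ⟨i', rfl⟩⟩)
    ((IsLocalization.AtPrime.to_map_mem_maximal_iff _ p _).mpr (hcp i'))
  rw [hχ] at hlt
  have := mul_lt_one_of_lt_of_le hlt hle
  rw [← map_mul, show (c i' * (ev i').hom (b i')) = 1 from inv_mul_cancel₀ (hb0 i'), map_one] at this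
  exact lt_irrefl _ this

lemma exists_generic_specializes (x : X) :
    ∃ η : X, closure {η} ∈ irreducibleComponents (X : Type u) ∧ η ⤳ x := by
  obtain ⟨T, hT, hsub⟩ := exists_preirreducible (closure {x}) isIrreducible_singleton.closure.isPreirreducible |>.imp
    (fun T h => (show T ∈ irreducibleComponents (X : Type u) ∧ closure {x} ⊆ T from
      ⟨⟨⟨⟨x, h.2.1 (subset_closure rfl)⟩, h.1⟩, fun u hu hsub => (h.2.2 u hu.2 hsub).le⟩, h.2.1⟩))
  have hc : IsClosed T := isClosed_of_mem_irreducibleComponents T hT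
  obtain ⟨η, hη⟩ := QuasiSober.sober hT.1 hc
  refine ⟨η, hη.symm ▸ hT, ?_⟩
  rw [specializes_iff_mem_closure, hη.def]
  exact hsub (subset_closure rfl)

/-- Universal closedness tested on discrete valuation rings of the function fields of the
irreducible components. -/
theorem universallyClosed_of_dvr_generic [IsLocallyNoetherian S] (f : X ⟶ S) [LocallyOfFiniteType f]
    [QuasiCompact f] [IsSeparated f]
    (H : ∀ η : X, closure {η} ∈ irreducibleComponents (X : Type u) →
      ∀ A : ValuationSubring (X.residueField η), IsDiscreteValuationRing A →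
      ∀ y : Spec (CommRingCat.of A) ⟶ S,
        Spec.map (CommRingCat.ofHom A.subtype) ≫ y = X.fromSpecResidueField η ≫ f →
        ∃ l : Spec (CommRingCat.of A) ⟶ X,
          Spec.map (CommRingCat.ofHom A.subtype) ≫ l = X.fromSpecResidueField η ∧ l ≫ f = y) :
    UniversallyClosed f := by
  haveI : IsLocallyNoetherian X := LocallyOfFiniteType.isLocallyNoetherian f
  refine UniversallyClosed.of_valuativeCriterion f fun sq => ?_
  obtain ⟨η, hη, hηy⟩ := exists_generic_specializes (sq.i₁ (closedPoint sq.K))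
  set a := X.fromSpecResidueField η with ha
  have hrι : Set.range a.imageι = closure {η} := by
    rw [Scheme.Hom.imageι, Scheme.IdealSheafData.range_subschemeι, Scheme.Hom.support_ker,
      Scheme.range_fromSpecResidueField]
  haveI : LocallyOfFiniteType a.imageι := inferInstance
  haveI : IsSeparated (a.imageι ≫ f) := inferInstance
  haveI : IsLocallyNoetherian a.image := LocallyOfFiniteType.isLocallyNoetherian a.imageι
  have hlift : ∀ (Q : Scheme.{u}) [IsReduced Q] (q : Q ⟶ X), (∀ p, η ⤳ q p) →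
      ∃ q' : Q ⟶ a.image, q' ≫ a.imageι = q := fun Q _ q hq =>
    RedSepLib.exists_lift_of_range_subset q a.imageι (by
      rw [hrι]; rintro _ ⟨p, rfl⟩; exact (hq p).mem_closure)
  have hex : ValuativeCriterion.Existence (a.imageι ≫ f) := by
    refine ValCritRes.existence_of_lifts a.toImage (a.imageι ≫ f) a.toImage.denseRange fun z R φ w => ?_
    obtain ⟨g, hg⟩ := Spec.map_surjective ((Spec (X.residueField η)).fromSpecResidueField z)
    have w' : Spec.map (CommRingCat.ofHom R.subtype) ≫ φ =
        Spec.map (CommRingCat.ofHom g.hom) ≫ a ≫ f := by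
      rw [w, CommRingCat.ofHom_hom, hg, ← Category.assoc a.toImage, a.toImage_imageι]
    let ρ : R.comap g.hom →+* R :=
      (g.hom.comp (R.comap g.hom).subtype).codRestrict R.toSubring fun x => x.2
    obtain ⟨φ₁, ⟨hφ₁, hφ₁'⟩, -⟩ := ValCritRes.existsUnique_descend g.hom R ρ (fun _ => rfl) φ (a ≫ f) w'
    haveI : LocallyOfFiniteType (𝟙 X ≫ f) := inferInstance
    obtain ⟨l, hl1, hl2⟩ := exists_lift_of_dvr (𝟙 X) f η (fun A hA y hy => by
      obtain ⟨l, h1, h2⟩ := H η hη A hA y (by simpa using hy)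
      exact ⟨l, by simpa using h1, h2⟩) (R.comap g.hom) φ₁ (by simpa using hφ₁')
    obtain ⟨l', hl'⟩ := hlift _ (Spec.map (CommRingCat.ofHom ρ) ≫ l) fun p => by
      rw [Scheme.Hom.comp_apply]
      have hb : (⟨⊥, Ideal.isPrime_bot⟩ : PrimeSpectrum (R.comap g.hom)) ⤳
          Spec.map (CommRingCat.ofHom ρ) p :=
        (PrimeSpectrum.le_iff_specializes _ _).mp bot_le
      have e : η = l (Spec.map (CommRingCat.ofHom (R.comap g.hom).subtype) (closedPoint (X.residueField η))) := by
        have := congrArg (fun q : Spec (X.residueField η) ⟶ X => q (closedPoint _)) hl1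
        exact (Scheme.fromSpecResidueField_apply η (closedPoint (X.residueField η))).symm.trans this.symm
      have eb : Spec.map (CommRingCat.ofHom (R.comap g.hom).subtype) (closedPoint (X.residueField η)) =
          (⟨⊥, Ideal.isPrime_bot⟩ : PrimeSpectrum (R.comap g.hom)) := by
        apply PrimeSpectrum.ext
        change (maximalIdeal (X.residueField η)).comap (R.comap g.hom).subtype = ⊥
        rw [isField_iff_maximalIdeal_eq.mp (Field.toIsField _)]
        exact (RingHom.injective_iff_ker_eq_bot _).mp Subtype.val_injective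
      exact (specializes_of_eq (e.trans (congrArg l eb))).trans (hb.map l.continuous)
    refine ⟨l', ?_, ?_⟩
    · have hρ : CommRingCat.ofHom ρ ≫ CommRingCat.ofHom R.subtype =
          CommRingCat.ofHom (R.comap g.hom).subtype ≫ g := CommRingCat.hom_ext (RingHom.ext fun _ => rfl)
      rw [← cancel_mono a.imageι, Category.assoc, Category.assoc, hl', ← Spec.map_comp_assoc, hρ,
        Spec.map_comp_assoc, hl1, Category.comp_id, hg, a.toImage_imageι]
    · rw [← Category.assoc l', hl', Category.assoc, hl2, hφ₁]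
  have hK : ∀ p : Spec (CommRingCat.of sq.K), η ⤳ sq.i₁ p := fun p => by
    rw [Subsingleton.elim p (closedPoint sq.K)]; exact hηy
  obtain ⟨i₁', hi₁'⟩ := hlift _ sq.i₁ hK
  obtain ⟨⟨⟨l, h1, h2⟩⟩⟩ := hex ⟨sq.R, sq.K, i₁', sq.i₂, ⟨by
    rw [← sq.commSq.w, ← hi₁', Category.assoc]⟩⟩
  exact ⟨⟨⟨l ≫ a.imageι, by rw [reassoc_of% h1, hi₁'], by rw [Category.assoc]; exact h2⟩⟩⟩

/-- Separatedness tested on discrete valuation rings of residue fields at a dense set of points. -/
theorem isSeparated_of_dvr_dense [IsLocallyNoetherian S] (f : X ⟶ S) [LocallyOfFiniteType f]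
    (h : Z ⟶ X) [LocallyOfFiniteType h]
    (hd : ∀ x : X, ∃ z : Z, h z ⤳ x)
    (H : ∀ (z : Z) (A : ValuationSubring (Z.residueField z)), IsDiscreteValuationRing A →
      (∀ x : X, x ⤳ h z → x = h z) →
      ∀ l₁ l₂ : Spec (CommRingCat.of A) ⟶ X, l₁ ≫ f = l₂ ≫ f →
        Spec.map (CommRingCat.ofHom A.subtype) ≫ l₁ = Z.fromSpecResidueField z ≫ h →
        Spec.map (CommRingCat.ofHom A.subtype) ≫ l₂ = Z.fromSpecResidueField z ≫ h → l₁ = l₂) :
    IsSeparated f where
  isClosedImmersion_diagonal := by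
    haveI : IsLocallyNoetherian X := LocallyOfFiniteType.isLocallyNoetherian f
    haveI : IsLocallyNoetherian (pullback f f) :=
      LocallyOfFiniteType.isLocallyNoetherian (pullback.fst f f ≫ f)
    refine .of_isPreimmersion _ (IsClosedMap.isClosed_range
      ((isClosedMap_iff_specializingMap (pullback.diagonal f)).mpr fun x t (hxt : _ ⤳ t) => ?_))
    obtain ⟨η, hη, hηx⟩ := exists_generic_specializes x
    obtain ⟨z, hz⟩ := hd η
    have hzη : h z = η := (SchPt.closure_mem_irreducibleComponents_iff.mp hη) _ hz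
    have hsp : (h ≫ pullback.diagonal f) z ⤳ t := by
      rw [Scheme.Hom.comp_apply, hzη]
      exact (hηx.map (pullback.diagonal f).continuous).trans hxt
    by_cases hne : t = (h ≫ pullback.diagonal f) z
    · refine ⟨x, specializes_rfl, ?_⟩
      refine Specializes.antisymm hxt ?_ |>.eq
      rw [hne, Scheme.Hom.comp_apply, hzη]
      exact hηx.map (pullback.diagonal f).continuous
    obtain ⟨A, ψ, hA, hψ2, hψ1⟩ := DVRVal.exists_dvr_specializes (h ≫ pullback.diagonal f) z t hsp hne
    have e1 : Spec.map (CommRingCat.ofHom A.subtype) ≫ ψ ≫ pullback.fst f f =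
        Z.fromSpecResidueField z ≫ h := by rw [reassoc_of% hψ1]; simp
    have e2 : Spec.map (CommRingCat.ofHom A.subtype) ≫ ψ ≫ pullback.snd f f =
        Z.fromSpecResidueField z ≫ h := by rw [reassoc_of% hψ1]; simp
    have he := H z A hA (fun x' hx' => by
      rw [hzη] at hx' ⊢
      exact (SchPt.closure_mem_irreducibleComponents_iff.mp hη) _ hx') _ _
      (by rw [Category.assoc, Category.assoc, pullback.condition]) e1 e2
    have hψ : (ψ ≫ pullback.fst f f) ≫ pullback.diagonal f = ψ := by
      apply pullback.hom_ext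
      · simp
      · rw [Category.assoc, pullback.diagonal_snd, Category.comp_id, he]
    have e : pullback.diagonal f ((ψ ≫ pullback.fst f f) (closedPoint A)) = t :=
      (congrArg (fun q : _ ⟶ pullback.diagonalObj f => q (closedPoint A)) hψ).trans hψ2
    refine ⟨(ψ ≫ pullback.fst f f) (closedPoint A), ?_, e⟩
    exact (pullback.diagonal f).isEmbedding.isInducing.specializes_iff.mp
      (hxt.trans (specializes_of_eq e.symm))

end Groth.Agent.LimH13

namespace Groth.Agent.LimH13

variable {X S Z : Scheme.{u}}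

/-- A discrete valuation ring of `κ(h z)` is induced by one of `κ(z)`. -/
theorem exists_dvr_extension (h : Z ⟶ X) [LocallyOfFiniteType h] (z : Z)
    (A : ValuationSubring (X.residueField (h z))) [IsDiscreteValuationRing A] :
    ∃ V : ValuationSubring (Z.residueField z), IsDiscreteValuationRing V ∧
      V.comap (h.residueFieldMap z).hom = A := by
  let g := (h.residueFieldMap z).hom
  have hg : g.EssFiniteType := by
    have h1 : ((X.residue (h z) ≫ h.residueFieldMap z)).hom.EssFiniteType := by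
      rw [Scheme.residue_residueFieldMap]
      exact (LocallyOfFiniteType.stalkMap h z).comp
        (RingHom.FiniteType.of_surjective _ (Z.residue_surjective z)).essFiniteType
    letI := g.toAlgebra
    letI := (X.residue (h z)).hom.toAlgebra
    letI : Algebra (X.presheaf.stalk (h z)) (Z.residueField z) :=
      (X.residue (h z) ≫ h.residueFieldMap z).hom.toAlgebra
    haveI : IsScalarTower (X.presheaf.stalk (h z)) (X.residueField (h z)) (Z.residueField z) :=
      IsScalarTower.of_algebraMap_eq fun _ => rfl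
    haveI : Algebra.EssFiniteType (X.presheaf.stalk (h z)) (Z.residueField z) := h1
    exact Algebra.EssFiniteType.of_comp (X.presheaf.stalk (h z)) (X.residueField (h z)) (Z.residueField z)
  have hess : (g.comp A.subtype).EssFiniteType := by
    refine RingHom.EssFiniteType.comp (f := A.subtype) ?_ hg
    haveI : Algebra.EssFiniteType A (X.residueField (h z)) :=
      Algebra.EssFiniteType.of_isLocalization _ (nonZeroDivisors A)
    exact this
  have hinj : Function.Injective (g.comp A.subtype) := fun a b hab => Subtype.ext (g.injective hab)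
  obtain ⟨V, hV, hmem, hlt⟩ := DVRVal.exists_dvr A _ (g.comp A.subtype) hess (fun e => by
    rw [(RingHom.injective_iff_ker_eq_bot _).mp hinj] at e
    exact IsDiscreteValuationRing.not_a_field A e.symm)
  refine ⟨V, hV, le_antisymm (fun x hx => ?_) fun x hx => hmem ⟨x, hx⟩⟩
  by_contra hxA
  have hx0 : x ≠ 0 := fun e => hxA (e ▸ A.zero_mem)
  have hinv : x⁻¹ ∈ A := (A.mem_or_inv_mem x).resolve_left hxA
  have hlt' := hlt ⟨x⁻¹, hinv⟩ (fun hu => hxA (by
    obtain ⟨q, hq⟩ := hu.exists_right_inv
    have e : x⁻¹ * (q : X.residueField (h z)) = 1 := congrArg Subtype.val hq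
    have : (q : X.residueField (h z)) = x := by
      rw [eq_comm, ← inv_inj]; exact eq_inv_of_mul_eq_one_left e
    exact this ▸ q.2))
  have := mul_lt_one_of_lt_of_le hlt' ((V.valuation_le_one_iff (g x)).mpr hx)
  rw [← map_mul, RingHom.comp_apply] at this
  change V.valuation (g x⁻¹ * g x) < 1 at this
  rw [← map_mul g, inv_mul_cancel₀ hx0, map_one, map_one] at this
  exact lt_irrefl _ this

lemma range_fracIso {A : Type u} [CommRing A] [IsDomain A] {K : Type u} [Field K] [Algebra A K]
    [IsFractionRing A K] (a : Spec (CommRingCat.of K) ⟶ X) (y : Spec (CommRingCat.of A) ⟶ S)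
    (f : X ⟶ S) (w : Spec.map (CommRingCat.ofHom (algebraMap A K)) ≫ y = a ≫ f) :
    ∃ e : Spec (CommRingCat.of K) ≅ Spec (CommRingCat.of (FractionRing A)),
      (e.inv ≫ a) ≫ f = Spec.map (CommRingCat.ofHom (algebraMap A (FractionRing A))) ≫ y ∧
      e.hom ≫ Spec.map (CommRingCat.ofHom (algebraMap A (FractionRing A))) =
        Spec.map (CommRingCat.ofHom (algebraMap A K)) := by
  obtain ⟨e, he⟩ := DVRVal.exists_iff_fractionRing (A := A) K
  exact ⟨e, by rw [Category.assoc, ← w, ← he, Category.assoc, Iso.inv_hom_id_assoc], he⟩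

end Groth.Agent.LimH13
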