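import Groth.Agent.Lib.LimH13.Struct
import Mathlib.AlgebraicGeometry.Morphisms.Finite
import Mathlib.AlgebraicGeometry.Morphisms.Integral
import Mathlib.AlgebraicGeometry.AffineTransitionLimit
import Mathlib.RingTheory.IntegralClosure.IsIntegralClosure.Basic

/-!
# An integral limit is eventually finite
-/

universe u

open CategoryTheory Limits AlgebraicGeometry Opposite TopologicalSpace

set_option backward.isDefEq.respectTransparency false
set_option backward.isDefEq.respectTransparency.types false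
set_option linter.style.haveILetI false

noncomputable section

namespace Groth.Agent.LimH13

/-- A ring map which becomes integral on generators after a finite extension is finite. -/
theorem finite_comp_of_generators {R A B : Type u} [CommRing R] [CommRing A] [CommRing B]
    (φ : R →+* A) (ψ : A →+* B) (hψ : ψ.Finite) (hφ : φ.FiniteType) (G : Set A)
    (hG : ∀ a, a ∈ Subring.closure (Set.range φ ∪ G))
    (hint : ∀ g ∈ G, (ψ.comp φ).IsIntegralElem (ψ g)) : (ψ.comp φ).Finite := by
  rw [RingHom.finite_iff_isIntegral_and_finiteType]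
  refine ⟨?_, hψ.finiteType.comp hφ⟩
  letI : Algebra R B := (ψ.comp φ).toAlgebra
  have hmem : ∀ a, IsIntegral R (ψ a) := fun a => by
    induction hG a using Subring.closure_induction with
    | mem x hx =>
      rcases hx with ⟨r, rfl⟩ | hx
      · exact isIntegral_algebraMap (R := R) (A := B) (x := r)
      · exact hint x hx
    | zero => rw [map_zero]; exact isIntegral_zero
    | one => rw [map_one]; exact isIntegral_one
    | add x y _ _ hx hy => rw [map_add]; exact hx.add hy
    | neg x _ hx => rw [map_neg]; exact hx.neg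
    | mul x y _ _ hx hy => rw [map_mul]; exact hx.mul hy
  intro b
  obtain ⟨p, hp, hpb⟩ := hψ.to_isIntegral b
  let C := integralClosure R B
  let ψ' : A →+* C := ψ.codRestrict C hmem
  have hb : IsIntegral C b := by
    refine ⟨p.map ψ', hp.map ψ', ?_⟩
    rw [Polynomial.eval₂_map]
    exact hpb
  exact isIntegral_trans (R := R) b hb

variable {I : Type u} [SmallCategory I] [IsCofiltered I] {S : Scheme.{u}} [CompactSpace S]
  [QuasiSeparatedSpace S] {D : I ⥤ Scheme.{u}} {t : D ⟶ (Functor.const I).obj S} {c : Cone D}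

omit [IsCofiltered I] [CompactSpace S] [QuasiSeparatedSpace S] in
theorem app_comp_eq {k j : I} (φ : k ⟶ j) (U : S.Opens) :
    (t.app k).app U = (t.app j).app U ≫ (D.map φ).appLE ((t.app j) ⁻¹ᵁ U) ((t.app k) ⁻¹ᵁ U)
      (by rw [← Scheme.Hom.comp_preimage, t.naturality φ]; simp) := by
  have h : D.map φ ≫ t.app j = t.app k := by
    rw [t.naturality φ]
    simp
  rw [Scheme.Hom.app_eq_appLE, Scheme.Hom.app_eq_appLE, Scheme.Hom.appLE_comp_appLE]
  congr 1
  exact h.symm

omit [CompactSpace S] [QuasiSeparatedSpace S] in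
/-- Finiteness over one affine open of the base. -/
theorem exists_finite_app (hc : IsLimit c) [∀ {i j : I} (a : i ⟶ j), IsFinite (D.map a)]
    [∀ i, CompactSpace (D.obj i)] [∀ i, LocallyOfFiniteType (t.app i)] (i₁ : I)
    [IsAffineHom (t.app i₁)] [hint : IsIntegralHom (c.π.app i₁ ≫ t.app i₁)] (U : S.Opens)
    (hU : IsAffineOpen U) :
    ∃ j, ∀ (k : I) (_ : k ⟶ j), ((t.app k).app U).hom.Finite := by
  classical
  haveI : ∀ {i j : I} (a : i ⟶ j), IsAffineHom (D.map a) := fun a => inferInstance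
  let V : (D.obj i₁).Opens := t.app i₁ ⁻¹ᵁ U
  have hV : IsAffineOpen V := hU.preimage (t.app i₁)
  let φ : Γ(S, U) →+* Γ(D.obj i₁, V) := ((t.app i₁).app U).hom
  have hφ : φ.FiniteType := by
    have h := (t.app i₁).finiteType_appLE hU hV le_rfl
    rwa [← Scheme.Hom.app_eq_appLE] at h
  obtain ⟨s, hs⟩ : ∃ s : Finset Γ(D.obj i₁, V), ∀ a, a ∈ Subring.closure (Set.range φ ∪ (s : Set _)) := by
    letI := φ.toAlgebra
    obtain ⟨⟨s, hs⟩⟩ : Algebra.FiniteType Γ(S, U) Γ(D.obj i₁, V) := hφ
    refine ⟨s, fun a => ?_⟩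
    have h := congrArg Subalgebra.toSubring hs
    rw [Algebra.adjoin_eq_ring_closure, Algebra.top_toSubring] at h
    exact h.ge (Subring.mem_top a)
  have hint' := hint.isIntegral_app U hU
  rw [Scheme.Hom.comp_app] at hint'
  have step : ∀ a : s, ∃ (j : I) (f : j ⟶ i₁),
      (((D.map f).app V).hom.comp φ).IsIntegralElem (((D.map f).app V).hom a.1) := by
    intro a
    obtain ⟨p, hp, hpa⟩ := hint' (((c.π.app i₁).app V).hom a.1)
    have h0 : (c.π.app i₁).app V (Polynomial.eval₂ φ a.1 p) = 0 := by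
      change ((c.π.app i₁).app V).hom (Polynomial.eval₂ φ a.1 p) = 0
      rw [Polynomial.hom_eval₂]
      exact hpa
    obtain ⟨j, f, hf⟩ := exists_app_map_eq_zero_of_isLimit D c hc (U := V) hV.isCompact _ h0
    refine ⟨j, f, p, hp, ?_⟩
    rw [← Polynomial.hom_eval₂]
    exact hf
  choose j f hj using step
  obtain ⟨m, fm, hm⟩ := IsCofiltered.inf_exists
    ((Finset.univ.image j) ∪ {i₁})
    (Finset.univ.image fun a : s => ⟨j a, i₁, Finset.mem_union_left _ (Finset.mem_image_of_mem _ (Finset.mem_univ a)),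
      Finset.mem_union_right _ (Finset.mem_singleton_self _), f a⟩)
  let g : m ⟶ i₁ := fm (Finset.mem_union_right _ (Finset.mem_singleton_self _))
  refine ⟨m, fun k h => ?_⟩
  let φk : k ⟶ i₁ := h ≫ g
  rw [app_comp_eq φk U, CommRingCat.hom_comp]
  have hpre : t.app k ⁻¹ᵁ U = D.map φk ⁻¹ᵁ V := by
    rw [← Scheme.Hom.comp_preimage, t.naturality φk]
    simp
  refine finite_comp_of_generators φ _ ?_ hφ s hs fun a ha => ?_
  · rw [show ((D.map φk).appLE V (t.app k ⁻¹ᵁ U) hpre.le) =
      (D.map φk).app V ≫ (D.obj k).presheaf.map (eqToHom hpre).op from rfl, CommRingCat.hom_comp]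
    refine RingHom.Finite.comp ?_ ((D.map φk).finite_app V hV)
    exact RingHom.Finite.of_surjective _
      ((ConcreteCategory.bijective_of_isIso ((D.obj k).presheaf.map (eqToHom hpre).op)).2)
  · let a' : s := ⟨a, ha⟩
    let fk : k ⟶ j a' := h ≫ fm (Finset.mem_union_left _ (Finset.mem_image_of_mem _ (Finset.mem_univ a')))
    have hfk : fk ≫ f a' = φk := by
      simp only [fk, φk, g, Category.assoc]
      congr 1
      exact hm _ _ (Finset.mem_image_of_mem _ (Finset.mem_univ a'))
    obtain ⟨p, hp, hpa⟩ := hj a'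
    refine ⟨p, hp, ?_⟩
    rw [← Polynomial.hom_eval₂] at hpa ⊢
    have hcomp : (D.map φk).appLE V (t.app k ⁻¹ᵁ U) hpre.le = (D.map (f a')).app V ≫
        (D.map fk).appLE (D.map (f a') ⁻¹ᵁ V) (t.app k ⁻¹ᵁ U)
          (by rw [← Scheme.Hom.comp_preimage, ← D.map_comp, hfk]; exact hpre.le) := by
      rw [Scheme.Hom.app_eq_appLE, Scheme.Hom.appLE_comp_appLE]
      congr 1
      rw [← D.map_comp, hfk]
    rw [hcomp, CommRingCat.hom_comp, RingHom.comp_apply]
    exact (congrArg _ hpa).trans (map_zero _)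

/-- If the limit is integral over the base, so is some member finite. -/
theorem exists_isFinite_structureMap (hc : IsLimit c) [∀ {i j : I} (a : i ⟶ j), IsFinite (D.map a)]
    [∀ i, CompactSpace (D.obj i)] [∀ i, QuasiSeparatedSpace (D.obj i)]
    [∀ i, LocallyOfFiniteType (t.app i)] (i₀ : I) [IsIntegralHom (c.π.app i₀ ≫ t.app i₀)] :
    ∃ i₁, ∀ (i : I) (_ : i ⟶ i₁), IsFinite (t.app i) := by
  classical
  haveI : ∀ {i j : I} (a : i ⟶ j), IsAffineHom (D.map a) := fun a => inferInstance
  obtain ⟨i₁, hi₁⟩ := exists_isAffineHom_structureMap (t := t) hc i₀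
  let i₂ := IsCofiltered.min i₀ i₁
  haveI : IsAffineHom (t.app i₂) := hi₁ i₂ (IsCofiltered.minToRight i₀ i₁)
  haveI : IsIntegralHom (c.π.app i₂ ≫ t.app i₂) := by
    have h := t.naturality (IsCofiltered.minToLeft i₀ i₁)
    have h' : D.map (IsCofiltered.minToLeft i₀ i₁) ≫ t.app i₀ = t.app i₂ := h.trans (Category.comp_id _)
    rw [← h', ← Category.assoc, c.w]
    infer_instance
  obtain ⟨s, hs⟩ := isCompact_univ.elim_finite_subcover (fun U : S.affineOpens => (U.1 : Set S))
    (fun U => U.1.2) (by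
      intro x _
      obtain ⟨_, ⟨U, hU, rfl⟩, hx, -⟩ :=
        S.isBasis_affineOpens.exists_subset_of_mem_open (Set.mem_univ x) isOpen_univ
      exact Set.mem_iUnion.2 ⟨⟨U, hU⟩, hx⟩)
  have key : ∀ U : s, ∃ j, ∀ (k : I) (_ : k ⟶ j),
      ((t.app k).app (U.1.1.ι ''ᵁ ⊤)).hom.Finite := fun U =>
    exists_finite_app hc i₂ _ (by rw [Scheme.Opens.ι_image_top]; exact U.1.2)
  choose j hj using key
  obtain ⟨m, fm⟩ := IsCofiltered.inf_objs_exists (insert i₂ (Finset.univ.image j))
  refine ⟨m, fun k h => ?_⟩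
  haveI : IsAffineHom (t.app k) :=
    hi₁ k (h ≫ (fm (Finset.mem_insert_self _ _)).some ≫ IsCofiltered.minToRight i₀ i₁)
  refine (IsZariskiLocalAtTarget.iff_of_iSup_eq_top (P := @IsFinite) (fun U : s => U.1.1)
    (top_le_iff.mp fun x _ => ?_)).mpr fun U => ?_
  · obtain ⟨U, hU, hx⟩ := Set.mem_iUnion₂.mp (hs (Set.mem_univ x))
    exact Opens.mem_iSup.mpr ⟨⟨U, hU⟩, hx⟩
  · haveI : IsAffine (U.1.1 : Scheme.{u}) := U.1.2
    refine (HasAffineProperty.iff_of_isAffine (P := @IsFinite)).mpr ⟨U.1.2.preimage (t.app k), ?_⟩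
    rw [morphismRestrict_appTop, CommRingCat.hom_comp]
    refine RingHom.Finite.comp ?_ (hj U k
      (h ≫ (fm (Finset.mem_insert_of_mem (Finset.mem_image_of_mem _ (Finset.mem_univ U)))).some))
    exact RingHom.Finite.of_surjective _ (ConcreteCategory.bijective_of_isIso _).2

end Groth.Agent.LimH13
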