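import Groth.Agent.Lib.LimH13.KerFG
import Groth.Agent.Lib.LimH13.FiniteStage

/-!
# Finite closed subschemes of finite presentation
-/

universe u

open CategoryTheory Limits AlgebraicGeometry Opposite TopologicalSpace

set_option backward.isDefEq.respectTransparency false
set_option backward.isDefEq.respectTransparency.types false
set_option linter.style.haveILetI false

noncomputable section

namespace Groth.Agent.LimH13

theorem isFinite_of_le {Y S : Scheme.{u}} (g : Y ⟶ S) {J J' : Y.IdealSheafData} (h : J ≤ J')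
    [IsFinite (J.subschemeι ≫ g)] : IsFinite (J'.subschemeι ≫ g) := by
  rw [← Scheme.IdealSheafData.inclusion_subschemeι h, Category.assoc]
  haveI : IsFinite (Scheme.IdealSheafData.inclusion h) := inferInstance
  infer_instance

/-- A closed subscheme integral over the base lies in a finitely presented one finite over the base. -/
theorem exists_ifg_finite {Y S Z : Scheme.{u}} [CompactSpace Y] [QuasiSeparatedSpace Y] [CompactSpace S]
    [QuasiSeparatedSpace S] (g : Y ⟶ S) [LocallyOfFiniteType g] (ι : Z ⟶ Y) [IsClosedImmersion ι]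
    [IsIntegralHom (ι ≫ g)] :
    ∃ J₁ : Y.IdealSheafData, IFG J₁ ∧ J₁ ≤ ι.ker ∧ IsFinite (J₁.subschemeι ≫ g) := by
  haveI : IsFiltered (FGIdx ι.ker) :=
    haveI := isDirected_fgIdx ι.ker
    isFiltered_of_directed_le_nonempty _
  haveI : IsConnected (FGIdx ι.ker)ᵒᵖ := IsCofiltered.isConnected _
  let E := fgDiag ι.ker ⋙ Over.forget Y
  let t : E ⟶ (Functor.const (FGIdx ι.ker)ᵒᵖ).obj S :=
    { app := fun a => ((fgDiag ι.ker).obj a).hom ≫ g
      naturality := fun a b h => by
        change ((fgDiag ι.ker).map h).left ≫ ((fgDiag ι.ker).obj b).hom ≫ g = _ ≫ 𝟙 S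
        rw [Category.comp_id, ← Category.assoc, Over.w ((fgDiag ι.ker).map h)] }
  have hcE : IsLimit ((Over.forget Y).mapCone (fgCone ι)) :=
    isLimitOfPreserves (Over.forget Y) (isLimitFGCone ι)
  haveI : ∀ {a b} (h : a ⟶ b), IsFinite (E.map h) := fun {a b} h =>
    haveI := isClosedImmersion_fgDiag_map ι.ker h
    inferInstanceAs (IsFinite ((fgDiag ι.ker).map h).left)
  haveI : ∀ a, CompactSpace (E.obj a) := fun a =>
    haveI := (fgDiag_props ι.ker a).1
    QuasiCompact.compactSpace_of_compactSpace ((fgDiag ι.ker).obj a).hom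
  haveI : ∀ a, QuasiSeparatedSpace (E.obj a) := fun a =>
    haveI := (fgDiag_props ι.ker a).1
    quasiSeparatedSpace_of_quasiSeparated ((fgDiag ι.ker).obj a).hom
  haveI : ∀ a, LocallyOfFiniteType (t.app a) := fun a =>
    haveI := (fgDiag_props ι.ker a).1
    inferInstanceAs (LocallyOfFiniteType (((fgDiag ι.ker).obj a).hom ≫ g))
  let a₀ : (FGIdx ι.ker)ᵒᵖ := op (Classical.arbitrary _)
  haveI : IsIntegralHom (((Over.forget Y).mapCone (fgCone ι)).π.app a₀ ≫ t.app a₀) := by
    change IsIntegralHom (((fgCone ι).π.app a₀).left ≫ ((fgDiag ι.ker).obj a₀).hom ≫ g)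
    rw [← Category.assoc, Over.w ((fgCone ι).π.app a₀)]
    assumption
  obtain ⟨a₁, ha₁⟩ := exists_isFinite_structureMap (t := t) hcE a₀
  exact ⟨a₁.unop.1, a₁.unop.2.1, a₁.unop.2.2, ha₁ a₁ (𝟙 _)⟩

/-- The scheme-theoretic image in an affine scheme over the base is integral if the source is. -/
theorem isIntegralHom_image {X P S : Scheme.{u}} (h : X ⟶ P) (g : P ⟶ S) [IsAffineHom g]
    [QuasiCompact h] [IsIntegralHom (h ≫ g)] : IsIntegralHom (h.ker.subschemeι ≫ g) := by
  haveI : IsAffineHom (h.ker.subschemeι ≫ g) := inferInstance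
  refine ⟨fun U hU => ?_⟩
  let V : P.affineOpens := ⟨g ⁻¹ᵁ U, hU.preimage g⟩
  rw [Scheme.Hom.comp_app]
  intro x
  obtain ⟨y, rfl⟩ := h.ker.subschemeι_app_surjective V x
  have hint := IsIntegralHom.isIntegral_app (h ≫ g) U hU ((h.app V.1).hom y)
  rw [Scheme.Hom.comp_app, CommRingCat.hom_comp] at hint
  obtain ⟨p, hp, hpy⟩ := hint
  refine ⟨p, hp, ?_⟩
  rw [CommRingCat.hom_comp]
  refine (Polynomial.hom_eval₂ p (g.app U).hom (h.ker.subschemeι.app V.1).hom y).symm.trans ?_
  have hpy : (h.app V.1).hom (Polynomial.eval₂ (g.app U).hom y p) = 0 :=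
    (Polynomial.hom_eval₂ p (g.app U).hom (h.app V.1).hom y).trans hpy
  have hmem : Polynomial.eval₂ (g.app U).hom y p ∈ h.ker.ideal V := by
    rw [Scheme.Hom.ker_apply]
    exact hpy
  rw [← Scheme.IdealSheafData.ker_subschemeι h.ker, Scheme.Hom.ker_apply] at hmem
  exact hmem

end Groth.Agent.LimH13
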