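import Groth.Agent.Lib.LimH13.Iso
import Groth.Agent.Lib.Descend.Stage
import Mathlib.AlgebraicGeometry.Morphisms.Immersion

/-!
# Factorisations of immersions descend
-/

set_option autoImplicit false
set_option backward.isDefEq.respectTransparency false
set_option linter.style.haveILetI false
universe u

open CategoryTheory CategoryTheory.Limits AlgebraicGeometry
open Groth.Agent.Descend

namespace Groth.Agent.LimH13

variable {I : Type u} [SmallCategory I] [IsCofiltered I] {D : I ⥤ Scheme.{u}} {c : Cone D}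
  [∀ (i j : I) (a : i ⟶ j), IsAffineHom (D.map a)]

theorem immersion_factors_iff (hc : IsLimit c) (i₀ : I) [CompactSpace (D.obj i₀)]
    {Z₁ Z₂ : Scheme.{u}} (ι₁ : Z₁ ⟶ D.obj i₀) (ι₂ : Z₂ ⟶ D.obj i₀)
    [QuasiCompact ι₁] [IsImmersion ι₂] [LocallyOfFinitePresentation ι₂] [QuasiCompact ι₂] :
    (∃ k : pullback ι₁ (c.π.app i₀) ⟶ pullback ι₂ (c.π.app i₀),
        k ≫ pullback.snd ι₂ (c.π.app i₀) = pullback.snd ι₁ (c.π.app i₀)) ↔
      ∃ (j : I) (φ : j ⟶ i₀) (k : pullback ι₁ (D.map φ) ⟶ pullback ι₂ (D.map φ)),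
        k ≫ pullback.snd ι₂ (D.map φ) = pullback.snd ι₁ (D.map φ) := by
  constructor
  · rintro ⟨k, hk⟩
    let F := Over.forget i₀
    let c' : Cone (F ⋙ D) := c.whisker F
    have hc' : IsLimit c' := (Functor.Initial.isLimitWhiskerEquiv F c).symm hc
    let t : F ⋙ D ⟶ (Functor.const (Over i₀)).obj (D.obj i₀) := overT D i₀
    have hq : ∀ l, c'.π.app l ≫ t.app l = c.π.app i₀ := fun l => c.w l.hom
    have hP := IsPullback.of_hasPullback ι₁ (c.π.app i₀)
    have hlim := pbIsLimit (F ⋙ D) t ι₁ c' hq hP hc'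
    haveI : CompactSpace Z₁ := QuasiCompact.compactSpace_of_compactSpace ι₁
    let e := pullback.fst ι₁ ι₂
    let q₁ := pullback.fst ι₁ (c.π.app i₀)
    let σ : pullback ι₁ (c.π.app i₀) ⟶ pullback ι₁ ι₂ := pullback.lift q₁ (k ≫ pullback.fst ι₂ _) (by
      rw [Category.assoc, pullback.condition, pullback.condition, reassoc_of% hk])
    have hσ : σ ≫ e = q₁ := pullback.lift_fst _ _ _
    haveI : IsIso (pullback.snd e q₁) :=
      ⟨pullback.lift σ (𝟙 _) (by rw [hσ, Category.id_comp]),
        by rw [← cancel_mono (pullback.snd e q₁), Category.assoc, pullback.lift_snd, Category.comp_id,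
          Category.id_comp], pullback.lift_snd _ _ _⟩
    obtain ⟨l, hl⟩ := exists_isIso (f := e) (t := pbFst (F ⋙ D) t ι₁) hlim
      (fun j => pbCone_fst (F ⋙ D) t ι₁ c' hq hP j) (IsPullback.of_hasPullback e q₁)
    let w := inv (pullback.snd e ((pbFst (F ⋙ D) t ι₁).app l))
    let κ : pullback ι₁ (D.map l.hom) ⟶ Z₂ := w ≫ pullback.fst _ _ ≫ pullback.snd ι₁ ι₂
    refine ⟨l.left, l.hom, pullback.lift κ (pullback.snd ι₁ (D.map l.hom)) ?_, pullback.lift_snd _ _ _⟩
    have h1 : w ≫ pullback.fst _ _ ≫ e = pullback.fst ι₁ (D.map l.hom) := by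
      rw [pullback.condition]
      exact (IsIso.inv_hom_id_assoc _ _).trans rfl
    rw [← pullback.condition, ← h1]
    simp only [κ, e, Category.assoc]
    congr 2
    exact pullback.condition.symm
  · rintro ⟨j, φ, k, hk⟩
    have hw : c.π.app j ≫ D.map φ = c.π.app i₀ := c.w φ
    let β : pullback ι₁ (c.π.app i₀) ⟶ pullback ι₁ (D.map φ) :=
      pullback.lift (pullback.fst _ _) (pullback.snd _ _ ≫ c.π.app j)
        (by rw [Category.assoc, hw]; exact pullback.condition)
    refine ⟨pullback.lift (β ≫ k ≫ pullback.fst _ _) (pullback.snd _ _) ?_, pullback.lift_snd _ _ _⟩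
    rw [Category.assoc, Category.assoc, pullback.condition, reassoc_of% hk, pullback.lift_snd_assoc,
      Category.assoc, hw]

end Groth.Agent.LimH13
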