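import Groth.Agent.Lib.LimH13.Constr
import Groth.Agent.Lib.LimH13.Reduced
import Mathlib.CategoryTheory.CofilteredSystem
import Mathlib.AlgebraicGeometry.Noetherian

/-!
# Maximal points, reduced and integral limits of open immersions
-/

universe u

set_option backward.isDefEq.respectTransparency false
set_option backward.defeqAttrib.useBackward true
set_option linter.style.haveILetI false

open CategoryTheory CategoryTheory.Limits AlgebraicGeometry Topology

namespace Groth.Agent.LimH13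

/-- A maximal point: no proper generization. -/
def IsMaxPt {X : Type*} [TopologicalSpace X] (x : X) : Prop := ∀ z : X, z ⤳ x → z = x

/-- Every point has a maximal generization. -/
lemma exists_isMaxPt_specializes {X : Type*} [TopologicalSpace X] [QuasiSober X] [T0Space X]
    (x : X) : ∃ z : X, IsMaxPt z ∧ z ⤳ x := by
  let Z : irreducibleComponents X := ⟨_, irreducibleComponent_mem_irreducibleComponents x⟩
  have hg := genericPoints.isGenericPoint_ofComponent Z
  refine ⟨(genericPoints.ofComponent Z).1, fun w hw => ?_, hg.specializes mem_irreducibleComponent⟩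
  have hirr : IsIrreducible (closure ({w} : Set X)) := isIrreducible_singleton.closure
  have hle : (Z.1 : Set X) ⊆ closure {w} := by
    rw [← hg.def]
    exact closure_minimal (Set.singleton_subset_iff.2 hw.mem_closure) isClosed_closure
  have heq : closure ({w} : Set X) ⊆ Z.1 := Z.2.2 hirr hle
  have h2 : (genericPoints.ofComponent Z).1 ⤳ w :=
    hg.specializes (heq (subset_closure rfl))
  exact (hw.antisymm h2).eq

/-- An open containing all maximal points is dense. -/
lemma dense_of_isMaxPt_mem {X : Type*} [TopologicalSpace X] [QuasiSober X] [T0Space X] {U : Set X}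
    (h : ∀ z, IsMaxPt z → z ∈ U) : Dense U := fun x => by
  obtain ⟨z, hz, hzx⟩ := exists_isMaxPt_specializes x
  exact closure_mono (Set.singleton_subset_iff.2 (h z hz)) hzx.mem_closure

/-- With finitely many maximal points a dense open contains all of them. -/
lemma mem_of_dense_of_isMaxPt {X : Type*} [TopologicalSpace X] [QuasiSober X] [T0Space X]
    (hfin : {z : X | IsMaxPt z}.Finite) {U : Set X} (hUo : IsOpen U) (hU : Dense U) {z : X}
    (hz : IsMaxPt z) : z ∈ U := by
  let W : Set X := (⋃ w ∈ {w : X | IsMaxPt w} \ {z}, closure {w})ᶜ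
  have hWo : IsOpen W := (Set.Finite.isClosed_biUnion (hfin.subset Set.sdiff_subset)
    fun w _ => isClosed_closure).isOpen_compl
  have hzW : z ∈ W := by
    simp only [W, Set.mem_compl_iff, Set.mem_iUnion₂, not_exists]
    rintro w ⟨-, hwz⟩ h
    exact hwz (hz w (specializes_iff_mem_closure.2 h))
  obtain ⟨y, hyW, hyU⟩ := dense_iff_inter_open.1 hU W hWo ⟨z, hzW⟩
  obtain ⟨v, hv, hvy⟩ := exists_isMaxPt_specializes y
  have hvz : v = z := by
    by_contra hne
    exact hyW (Set.mem_biUnion (⟨hv, hne⟩ : v ∈ {w : X | IsMaxPt w} \ {z}) hvy.mem_closure)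
  exact hvz ▸ hvy.mem_open hUo hyU

variable {I : Type u} [SmallCategory I] [IsCofiltered I] {D : I ⥤ Scheme.{u}} {c : Cone D}
  [∀ {i j : I} (a : i ⟶ j), IsAffineHom (D.map a)]

/-- Specializations in the limit are detected on the stages. -/
lemma specializes_of_forall (hc : IsLimit c) {z s : c.pt}
    (h : ∀ j, c.π.app j z ⤳ c.π.app j s) : z ⤳ s := by
  refine specializes_iff_forall_open.2 fun U hU hs => ?_
  obtain ⟨_, ⟨_, ⟨i, V, -, rfl⟩, rfl⟩, hsV, hle⟩ :=
    (isBasis_preimage_isAffineOpen D c hc).exists_subset_of_mem_open hs hU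
  exact hle ((h i).mem_open V.2 hsV)

/-- A compatible system of nonempty finite sets of points has a point in the limit. -/
lemma exists_point_of_finite (hc : IsLimit c) (M : ∀ i, Set (D.obj i)) (hfin : ∀ i, (M i).Finite)
    (hne : ∀ i, (M i).Nonempty)
    (hmap : ∀ {i j : I} (a : i ⟶ j), Set.MapsTo (D.map a) (M i) (M j)) :
    ∃ z : c.pt, ∀ i, c.π.app i z ∈ M i := by
  let G : I ⥤ Type u :=
    { obj := fun i => (M i : Type u)
      map := fun {i j} a => TypeCat.ofHom fun x : M i => (⟨D.map a x.1, hmap a x.2⟩ : M j)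
      map_id := fun i => by
        ext x
        simp
      map_comp := fun a b => by
        ext x
        simp }
  haveI : ∀ i, Finite (G.obj i) := fun i => (hfin i).to_subtype
  haveI : ∀ i, Nonempty (G.obj i) := fun i => (hne i).to_subtype
  obtain ⟨sec, hsec⟩ := nonempty_sections_of_finite_cofiltered_system G
  obtain ⟨z, hz⟩ := exists_limit_point hc (fun i => (sec i).1)
    (fun a => congrArg Subtype.val (hsec a))
  exact ⟨z, fun i => (hz i).symm ▸ (sec i).2⟩

/-- Maximal points of the limit are those with maximal images. -/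
theorem isMaxPt_iff (hc : IsLimit c) (hfin : ∀ i, {s : D.obj i | IsMaxPt s}.Finite)
    (hsys : ∀ (i j : I) (g : i ⟶ j) (s : D.obj i), IsMaxPt s → IsMaxPt (D.map g s)) (s : c.pt) :
    IsMaxPt s ↔ ∀ i, IsMaxPt (c.π.app i s) := by
  constructor
  · intro hs
    obtain ⟨z, hz⟩ := exists_point_of_finite hc
      (fun i => {w : D.obj i | IsMaxPt w ∧ w ⤳ c.π.app i s})
      (fun i => (hfin i).subset fun w hw => hw.1)
      (fun i => exists_isMaxPt_specializes _) (fun {i j} a w hw => ⟨hsys i j a w hw.1, by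
        rw [← map_π_apply a s]
        exact hw.2.map (D.map a).continuous⟩)
    have := hs z (specializes_of_forall hc fun j => (hz j).2)
    subst this
    exact fun i => (hz i).1
  · intro h z hz
    exact limit_point_ext hc fun i => h i _ (hz.map (c.π.app i).continuous)

/-- Density of the preimages of an open in the members of the system and in the limit. -/
theorem dense_preimage (hc : IsLimit c) (hfin : ∀ i, {s : D.obj i | IsMaxPt s}.Finite)
    (hsys : ∀ (i j : I) (g : i ⟶ j) (s : D.obj i), IsMaxPt s → IsMaxPt (D.map g s))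
    (i₀ : I) (V₀ : (D.obj i₀).Opens) (h : Dense (V₀ : Set (D.obj i₀))) :
    (∀ (i : I) (g : i ⟶ i₀), Dense ((D.map g ⁻¹ᵁ V₀ : (D.obj i).Opens) : Set (D.obj i))) ∧
      Dense ((c.π.app i₀ ⁻¹ᵁ V₀ : c.pt.Opens) : Set c.pt) :=
  ⟨fun i g => dense_of_isMaxPt_mem fun z hz =>
    mem_of_dense_of_isMaxPt (hfin i₀) V₀.2 h (hsys i i₀ g z hz),
   dense_of_isMaxPt_mem fun z hz =>
    mem_of_dense_of_isMaxPt (hfin i₀) V₀.2 h ((isMaxPt_iff hc hfin hsys z).1 hz i₀)⟩

/-- If the preimage in the limit is dense then so is the preimage at a stage. -/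
theorem exists_dense_preimage (hc : IsLimit c) (hfin : ∀ i, {s : D.obj i | IsMaxPt s}.Finite)
    (hsys : ∀ (i j : I) (g : i ⟶ j) (s : D.obj i), IsMaxPt s → IsMaxPt (D.map g s))
    (i₀ : I) (V₀ : (D.obj i₀).Opens)
    (h : Dense ((c.π.app i₀ ⁻¹ᵁ V₀ : c.pt.Opens) : Set c.pt))
    (hcfin : {s : c.pt | IsMaxPt s}.Finite) :
    ∃ (i : I) (g : i ⟶ i₀), Dense ((D.map g ⁻¹ᵁ V₀ : (D.obj i).Opens) : Set (D.obj i)) := by
  by_contra! H
  let F := Over.forget i₀
  let c' : Cone (F ⋙ D) := c.whisker F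
  have hc' : IsLimit c' := (Functor.Initial.isLimitWhiskerEquiv F c).symm hc
  haveI : ∀ {k l : Over i₀} (x : k ⟶ l), IsAffineHom ((F ⋙ D).map x) := fun x =>
    ‹∀ {i j : I} (a : i ⟶ j), IsAffineHom (D.map a)› x.left
  obtain ⟨z, hz⟩ := exists_point_of_finite hc'
    (fun k => {w : D.obj k.left | IsMaxPt w ∧ D.map k.hom w ∉ V₀})
    (fun k => (hfin k.left).subset fun w hw => hw.1)
    (fun k => by
      by_contra hne
      refine H k.left k.hom (dense_of_isMaxPt_mem fun w hw => ?_)
      by_contra hw'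
      exact hne ⟨w, hw, hw'⟩)
    (fun {k l} a w hw => ⟨hsys _ _ a.left w hw.1, by
      show D.map l.hom (D.map a.left w) ∉ V₀
      rw [← Scheme.Hom.comp_apply, ← D.map_comp, Over.w a]
      exact hw.2⟩)
  have hmax : IsMaxPt (z : c.pt) := fun w hw => limit_point_ext hc' fun k =>
    (hz k).1 _ (hw.map (c.π.app k.left).continuous)
  refine (hz (Over.mk (𝟙 i₀))).2 ?_
  show D.map (𝟙 i₀) (c.π.app i₀ z) ∈ V₀
  rw [D.map_id]
  exact mem_of_dense_of_isMaxPt hcfin (c.π.app i₀ ⁻¹ᵁ V₀).2 h hmax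

/-- Reducedness for systems of open immersions with finitely generated nilradical. -/
theorem exists_forall_isReduced (hc : IsLimit c) (i₀ : I) [CompactSpace (D.obj i₀)]
    (hoi : ∀ (i j : I) (φ : i ⟶ j), IsOpenImmersion (D.map φ))
    (hN : ∀ U : (D.obj i₀).affineOpens, (nilradical Γ(D.obj i₀, U)).FG) [IsReduced c.pt] :
    ∃ (i : I) (_ : i ⟶ i₀), ∀ (j : I) (_ : j ⟶ i), IsReduced (D.obj j) := by
  classical
  let 𝒰 := isCompact_univ.elim_finite_subcover
    (fun U : (D.obj i₀).affineOpens => (U.1 : Set (D.obj i₀))) (fun U => U.1.2) (by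
      intro x _
      obtain ⟨_, ⟨U, hU, rfl⟩, hx, -⟩ := (D.obj i₀).isBasis_affineOpens.exists_subset_of_mem_open
        (Set.mem_univ x) isOpen_univ
      exact Set.mem_iUnion.2 ⟨⟨U, hU⟩, hx⟩)
  obtain ⟨s, hs⟩ := 𝒰
  choose G hG using fun U : s => hN U.1
  have key : ∀ p : (U : s) × G U, ∃ (j : I) (a : j ⟶ i₀), (D.map a).app p.1.1.1 p.2.1 = 0 := by
    rintro ⟨U, g⟩
    refine exists_app_map_eq_zero_of_isLimit D c hc U.1.2.isCompact g.1 ?_
    haveI : _root_.IsReduced Γ(((Functor.const I).obj c.pt).obj i₀, c.π.app i₀ ⁻¹ᵁ U.1.1) :=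
      IsReduced.component_reduced (X := c.pt) (c.π.app i₀ ⁻¹ᵁ U.1.1)
    have hg : g.1 ∈ nilradical Γ(D.obj i₀, U.1.1) := hG U ▸ Ideal.subset_span g.2
    exact ((mem_nilradical.1 hg).map ((c.π.app i₀).app U.1.1).hom).eq_zero
  choose j a hj using key
  obtain ⟨k, b, e, he⟩ := IsCofiltered.wideCospan a
  refine ⟨k, b, fun m d => ?_⟩
  haveI := hoi m i₀ (d ≫ b)
  haveI : ∀ y : D.obj m, _root_.IsReduced ((D.obj m).presheaf.stalk y) := fun y => by
    obtain ⟨U, hU, hxU⟩ := Set.mem_iUnion₂.1 (hs (Set.mem_univ (D.map (d ≫ b) y)))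
    let φ := (D.map (d ≫ b)).stalkMap y
    let r : Γ(D.obj i₀, U.1) →+* (D.obj i₀).presheaf.stalk (D.map (d ≫ b) y) :=
      ((D.obj i₀).presheaf.germ U.1 _ hxU).hom
    letI := r.toAlgebra
    haveI := U.2.isLocalization_stalk ⟨_, hxU⟩
    refine ⟨fun z hz => ?_⟩
    obtain ⟨w, rfl⟩ := (ConcreteCategory.bijective_of_isIso φ).2 z
    obtain ⟨n, hn⟩ := hz
    have hw : w ^ n = 0 := (ConcreteCategory.bijective_of_isIso φ).1 (by
      rw [map_pow, map_zero]; exact hn)
    obtain ⟨f, u, rfl⟩ := IsLocalization.exists_mk'_eq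
      (U.2.primeIdealOf ⟨_, hxU⟩).asIdeal.primeCompl w
    rw [← IsLocalization.mk'_pow, IsLocalization.mk'_eq_zero_iff] at hw
    obtain ⟨v, hv⟩ := hw
    have hnil : (v.1 * f) ∈ nilradical Γ(D.obj i₀, U.1) := mem_nilradical.2 ⟨n + 1, by
      rw [show (v.1 * f) ^ (n + 1) = v.1 ^ n * f * (v.1 * f ^ n) by ring,
        show v.1 * f ^ n = 0 from hv, mul_zero]⟩
    have hker : nilradical Γ(D.obj i₀, U.1) ≤ RingHom.ker (φ.hom.comp r) := by
      rw [← hG ⟨U, hU⟩, Ideal.span_le]
      intro g hg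
      have h0 : (D.map (d ≫ b)).app U.1 g = 0 := by
        rw [Scheme.Hom.congr_app (show D.map (d ≫ b) =
          D.map (d ≫ e ⟨⟨U, hU⟩, ⟨g, hg⟩⟩) ≫ D.map (a ⟨⟨U, hU⟩, ⟨g, hg⟩⟩) by
          rw [← D.map_comp, Category.assoc, he]) U.1, Scheme.Hom.comp_app]
        simp only [CommRingCat.comp_apply]
        rw [hj ⟨⟨U, hU⟩, ⟨g, hg⟩⟩, map_zero, map_zero]
      show φ ((D.obj i₀).presheaf.germ U.1 _ hxU g) = 0
      rw [Scheme.Hom.germ_stalkMap_apply, h0, map_zero]
    have h2 : φ.hom (r (v.1 * f)) = 0 := hker hnil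
    have hvu : IsUnit (r v.1) := IsLocalization.map_units _ v
    have h3 : r f = 0 := by
      have h4 : r (v.1 * f) = 0 := (ConcreteCategory.bijective_of_isIso φ).1
        (h2.trans (map_zero _).symm)
      rw [map_mul] at h4
      exact hvu.mul_right_eq_zero.1 h4
    have h5 : IsLocalization.mk' ((D.obj i₀).presheaf.stalk (D.map (d ≫ b) y)) f u = 0 := by
      rw [IsLocalization.mk'_eq_mul_mk'_one]
      show r f * _ = 0
      rw [h3, zero_mul]
    rw [h5, map_zero]
  exact isReduced_of_isReduced_stalk _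

/-- Irreducibility of the stages of a system of open immersions into a noetherian scheme. -/
theorem exists_forall_irreducibleSpace (hc : IsLimit c) (i₀ : I) [IsNoetherian (D.obj i₀)]
    (hoi : ∀ (i j : I) (φ : i ⟶ j), IsOpenImmersion (D.map φ)) [IrreducibleSpace c.pt] :
    ∃ (i : I) (_ : i ⟶ i₀), ∀ (j : I) (_ : j ⟶ i), IrreducibleSpace (D.obj j) := by
  let η : c.pt := genericPoint c.pt
  let g := c.π.app i₀ η
  haveI : TopologicalSpace.NoetherianSpace (D.obj i₀) := inferInstance
  let bad : Set (Set (D.obj i₀)) := {Z ∈ irreducibleComponents (D.obj i₀) | g ∉ Z}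
  have hbad : IsClosed (⋃ Z ∈ bad, Z) := Set.Finite.isClosed_biUnion
    (TopologicalSpace.NoetherianSpace.finite_irreducibleComponents.subset fun Z hZ => hZ.1)
    fun Z hZ => isClosed_of_mem_irreducibleComponents Z hZ.1
  let V : (D.obj i₀).Opens := ⟨(⋃ Z ∈ bad, Z)ᶜ, hbad.isOpen_compl⟩
  have hgen : ∀ {p : D.obj i₀} {x : c.pt}, p ⤳ c.π.app i₀ x → g ⤳ p := by
    intro p x hp
    have hr : p ∈ Set.range (c.π.app i₀) := by
      rw [range_π_eq hc i₀]
      refine Set.mem_iInter₂.2 fun j φ => ?_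
      haveI := hoi j i₀ φ
      exact hp.mem_open (D.map φ).isOpenEmbedding.isOpen_range
        ⟨c.π.app j x, map_π_apply φ x⟩
    obtain ⟨y, rfl⟩ := hr
    exact (genericPoint_specializes (α := c.pt) y).map (c.π.app i₀).continuous
  let F := Over.forget i₀
  let c' : Cone (F ⋙ D) := c.whisker F
  have hc' : IsLimit c' := (Functor.Initial.isLimitWhiskerEquiv F c).symm hc
  haveI : ∀ {k l : Over i₀} (x : k ⟶ l), IsAffineHom ((F ⋙ D).map x) := fun x =>
    ‹∀ {i j : I} (a : i ⟶ j), IsAffineHom (D.map a)› x.left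
  haveI : ∀ (l : Over i₀), CompactSpace ((F ⋙ D).obj l) := fun l =>
    QuasiCompact.compactSpace_of_compactSpace (D.map l.hom)
  obtain ⟨k, a, hk⟩ := exists_map_eq_top (F ⋙ D) c' hc' (i := Over.mk (𝟙 i₀)) V (by
    rw [eq_top_iff]
    intro x _ hx
    obtain ⟨Z, ⟨hZ, hgZ⟩, hxZ⟩ := Set.mem_iUnion₂.1 hx
    have hg := hZ.1.isGenericPoint_genericPoint (isClosed_of_mem_irreducibleComponents Z hZ)
    have h1 : g ⤳ hZ.1.genericPoint := hgen (hg.specializes hxZ)
    refine hgZ ?_
    have hle : Z ⊆ closure {g} := by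
      rw [← hg.def]
      exact closure_minimal (Set.singleton_subset_iff.2 h1.mem_closure) isClosed_closure
    exact hZ.2 isIrreducible_singleton.closure hle (subset_closure rfl))
  refine ⟨k.left, k.hom, fun j φ => ?_⟩
  haveI := hoi j i₀ (φ ≫ k.hom)
  have hspec : ∀ y : D.obj j, c.π.app j η ⤳ y := by
    intro y
    refine (D.map (φ ≫ k.hom)).isOpenEmbedding.isInducing.specializes_iff.1 ?_
    rw [map_π_apply]
    have hy : D.map a.left (D.map φ y) ∈ V := hk.ge (TopologicalSpace.Opens.mem_top _)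
    have e : a.left = k.hom := by simpa using Over.w a
    rw [e, ← Scheme.Hom.comp_apply, ← D.map_comp] at hy
    obtain ⟨p, hp, hpy⟩ := exists_isMaxPt_specializes (D.map (φ ≫ k.hom) y)
    have hcomp : closure ({p} : Set (D.obj i₀)) ∈ irreducibleComponents (D.obj i₀) := by
      refine ⟨isIrreducible_singleton.closure, fun Z hZ hle => ?_⟩
      intro z hz
      have hgp := hZ.closure.isGenericPoint_genericPoint isClosed_closure
      have := hp _ (hgp.specializes (subset_closure (hle (subset_closure rfl))))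
      rw [← this, hgp.def]
      exact subset_closure hz
    by_contra hgy
    refine hy (Set.mem_iUnion₂.2 ⟨closure {p}, ⟨hcomp, fun h => hgy ?_⟩, hpy.mem_closure⟩)
    have hgp : g = p := by
      have := hp g
      by_contra hne
      have h1 : p ⤳ g := specializes_iff_mem_closure.2 h
      have h2 : g ⤳ p := hgen h1
      exact hne (h1.antisymm h2).eq.symm
    show g ⤳ _
    rw [hgp]
    exact hpy
  haveI : Nonempty (D.obj j) := ⟨c.π.app j η⟩
  haveI : PreirreducibleSpace (D.obj j) := ⟨fun U V hU hV ⟨y, _, hy⟩ ⟨z, _, hz⟩ =>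
    ⟨c.π.app j η, Set.mem_univ _, (hspec y).mem_open hU hy, (hspec z).mem_open hV hz⟩⟩
  exact IrreducibleSpace.mk ‹_›

end Groth.Agent.LimH13
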