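import Groth.Agent.Lib.LimH13.ModelRefine
import Groth.Agent.Lib.QCGen12.Finite
import Mathlib.RingTheory.FiniteType

/-!
# The chart which is added to a model
-/

universe u

open CategoryTheory Limits AlgebraicGeometry Opposite TopologicalSpace

set_option backward.isDefEq.respectTransparency false
set_option backward.isDefEq.respectTransparency.types false
set_option backward.defeqAttrib.useBackward true

noncomputable section

namespace Groth.Agent.LimH13

theorem resLE_toSpecΓ {X Y : Scheme.{u}} (f : X ⟶ Y) (U : Y.Opens) (V : X.Opens) (e : V ≤ f ⁻¹ᵁ U) :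
    f.resLE U V e ≫ U.toSpecΓ = V.toSpecΓ ≫ Spec.map (f.appLE U V e) := by
  delta Scheme.Opens.toSpecΓ
  rw [Scheme.toSpecΓ_naturality_assoc, Category.assoc, ← Spec.map_comp, ← Spec.map_comp,
    Scheme.Hom.appTop, Scheme.Hom.resLE_app_top, Iso.inv_hom_id_assoc]

theorem isOpenImmersion_ι_comp {X Y T : Scheme.{u}} (f : X ⟶ Y) (O : X.Opens) (o : T ⟶ X)
    [IsOpenImmersion o] (ho : o.opensRange = O) [IsOpenImmersion (o ≫ f)] :
    IsOpenImmersion (O.ι ≫ f) := by
  have hr : Set.range O.ι = Set.range o := by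
    rw [Scheme.Opens.range_ι, ← ho]
    rfl
  rw [← IsOpenImmersion.isoOfRangeEq_hom_fac O.ι o hr, Category.assoc]
  infer_instance

/-- A ring of finite type over the integers inside a product. -/
theorem lftz_spec {R : Type u} [CommRing R] (s : Finset R) (hs : Subring.closure (s : Set R) = ⊤) :
    LFTZ (Spec (.of R)) := by
  rw [LFTZ, show Limits.IsTerminal.from specULiftZIsTerminal (Spec (.of R)) =
    Spec.map (CommRingCat.ofHom ((Int.castRingHom R).comp ULift.ringEquiv.toRingHom)) from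
    specULiftZIsTerminal.hom_ext _ _, HasRingHomProperty.Spec_iff (P := @LocallyOfFiniteType)]
  have hft : (Int.castRingHom R).FiniteType := by
    change @Algebra.FiniteType ℤ R _ _ (Int.castRingHom R).toAlgebra
    letI := (Int.castRingHom R).toAlgebra
    refine ⟨⟨s, top_le_iff.mp fun x _ => ?_⟩⟩
    have hx : x ∈ Subring.closure (s : Set R) := hs ▸ Subring.mem_top x
    have hle : Subring.closure (s : Set R) ≤ (Algebra.adjoin ℤ (s : Set R)).toSubring :=
      Subring.closure_le.mpr Algebra.subset_adjoin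
    exact hle hx
  refine RingHom.FiniteType.of_comp_finiteType (f := (ULift.ringEquiv.symm : ℤ ≃+* ULift.{u} ℤ).toRingHom) ?_
  change RingHom.FiniteType (A := ℤ) (B := R) _
  convert hft using 1
  exact RingHom.ext_int _ _

/-- Sections over an affine open of a scheme of finite type over the integers are finitely generated. -/
theorem LFTZ.exists_gens {Y : Scheme.{u}} (hY : LFTZ Y) {D : Y.Opens} (hD : IsAffineOpen D) :
    ∃ t : Finset Γ(Y, D), Subring.closure (t : Set Γ(Y, D)) = ⊤ := by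
  haveI : LocallyOfFiniteType (Limits.IsTerminal.from specULiftZIsTerminal Y) := hY
  have h1 := (Limits.IsTerminal.from specULiftZIsTerminal Y).finiteType_appLE (isAffineOpen_top _) hD
    (by simp)
  have hsurj : Function.Surjective (Int.castRingHom Γ(Spec (.of (ULift.{u} ℤ)), ⊤)) := fun x => by
    refine ⟨((Scheme.ΓSpecIso (.of (ULift.{u} ℤ))).hom x).down,
      (Scheme.ΓSpecIso (.of (ULift.{u} ℤ))).commRingCatIsoToRingEquiv.injective ?_⟩
    change (Scheme.ΓSpecIso (.of (ULift.{u} ℤ))).hom.hom (Int.castRingHom _ _) =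
      (Scheme.ΓSpecIso (.of (ULift.{u} ℤ))).hom.hom x
    rw [eq_intCast, map_intCast]
    apply ULift.ext
    simp
  have h2 := h1.comp (RingHom.FiniteType.of_surjective _ hsurj)
  have h3 : (Int.castRingHom Γ(Y, D)).FiniteType := by
    convert h2 using 1
    exact RingHom.ext_int _ _
  letI := (Int.castRingHom Γ(Y, D)).toAlgebra
  obtain ⟨⟨t, ht⟩⟩ : @Algebra.FiniteType ℤ Γ(Y, D) _ _ (Int.castRingHom Γ(Y, D)).toAlgebra := h3
  refine ⟨t, top_le_iff.mp fun x _ => ?_⟩
  have hx : x ∈ (Algebra.adjoin ℤ (t : Set Γ(Y, D))).toSubring := by rw [ht]; trivial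
  have hle : (Algebra.adjoin ℤ (t : Set Γ(Y, D))).toSubring ≤ Subring.closure (t : Set Γ(Y, D)) := by
    rw [Algebra.adjoin_eq_ring_closure]
    refine Subring.closure_le.mpr ?_
    rintro y (⟨n, rfl⟩ | hy)
    · exact (eq_intCast (algebraMap ℤ Γ(Y, D)) n).symm ▸ intCast_mem _ n
    · exact Subring.subset_closure hy
  exact hle hx

/-- A basic open as an open of the spectrum. -/
abbrev specD (R : CommRingCat.{u}) (f : R) : (Spec R).Opens := PrimeSpectrum.basicOpen f

variable {U Y : Scheme.{u}} [CompactSpace Y]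

/-- The chart. -/
theorem exists_chart (hY : LFTZ Y) (g : U ⟶ Y) [QuasiCompact g] (W' : Y.Opens) (W : U.Opens)
    (e : g ⁻¹ᵁ W' = W) {κ : Type u} [Finite κ] (h : κ → Γ(Y, W'))
    (hh : ∀ k, IsAffineOpen (Y.basicOpen (h k))) (hcov : W' = ⨆ k, Y.basicOpen (h k))
    {A : CommRingCat.{u}} (q : A ⟶ Γ(U, W)) (a : κ → A)
    (ha : ∀ k, g.appLE W' W e.ge (h k) = q.hom (a k))
    (hloc : ∀ k, @IsLocalization.Away A _ (a k) Γ(U, U.basicOpen (q.hom (a k))) _
      (q ≫ U.presheaf.map (homOfLE (U.basicOpen_le (q.hom (a k)))).op).hom.toAlgebra) :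
    ∃ (R : CommRingCat.{u}) (θA : R ⟶ A) (j : (W' : Scheme.{u}) ⟶ Spec R) (ek : κ → R),
      LFTZ (Spec R) ∧ IsOpenImmersion j ∧
      g.resLE W' W e.ge ≫ j = W.toSpecΓ ≫ Spec.map q ≫ Spec.map θA ∧
      (∀ k, θA.hom (ek k) = a k) ∧
      Set.range j = ⋃ k, (specD R (ek k) : Set (Spec R)) := by
  classical
  let p : Γ(Y, W') →+* Γ(U, W) := (g.appLE W' W e.ge).hom
  have hWc : IsCompact (W : Set U) := by
    rw [← e]
    exact g.isCompact_preimage (hY.isCompact W')
  haveI := hY.quasiSeparatedSpace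
  let P := Γ(Y, W') × A
  have hgen : ∀ (k : κ) (x : Γ(Y, Y.basicOpen (h k))), ∃ r : P, p r.1 = q.hom r.2 ∧
      ∃ N : ℕ, Y.presheaf.map (homOfLE (Y.basicOpen_le (h k))).op r.1 =
        Y.presheaf.map (homOfLE (Y.basicOpen_le (h k))).op (h k) ^ N * x := by
    intro k x
    obtain ⟨n, y, hy⟩ := exists_eq_pow_mul_of_isCompact_of_isQuasiSeparated Y W' (hY.isCompact W')
      (IsQuasiSeparated.of_quasiSeparatedSpace _) (h k) x
    letI := (q ≫ U.presheaf.map (homOfLE (U.basicOpen_le (q.hom (a k)))).op).hom.toAlgebra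
    haveI := hloc k
    let ρ : Γ(U, W) →+* Γ(U, U.basicOpen (q.hom (a k))) :=
      (U.presheaf.map (homOfLE (U.basicOpen_le (q.hom (a k)))).op).hom
    obtain ⟨⟨b, ⟨_, m, rfl⟩⟩, hb⟩ := IsLocalization.surj (Submonoid.powers (a k)) (ρ (p y))
    have hb' : ρ (p y) * ρ (q.hom (a k ^ m)) = ρ (q.hom b) := hb
    rw [← map_mul, ← sub_eq_zero, ← map_sub] at hb'
    obtain ⟨M, hM⟩ := exists_pow_mul_eq_zero_of_res_basicOpen_eq_zero_of_isCompact U hWc
      (p y * q.hom (a k ^ m) - q.hom b) (q.hom (a k)) hb'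
    refine ⟨(h k ^ (M + m) * y, a k ^ M * b), ?_, M + m + n, ?_⟩
    · simp only [map_mul, map_pow]
      rw [show p (h k) = q.hom (a k) from ha k]
      rw [mul_sub, sub_eq_zero, map_pow] at hM
      rw [← hM, pow_add]
      ring
    · rw [map_mul, map_pow]
      rw [show Y.presheaf.map (homOfLE (Y.basicOpen_le (h k))).op y = _ from hy, pow_add]
      simp only [TopCat.Presheaf.restrictOpenCommRingCat_apply, pow_add]
      ring
  choose r hr N hN using hgen
  choose t ht using fun k => hY.exists_gens (hh k)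
  cases nonempty_fintype κ
  let S : Finset P := (Finset.univ.image fun k => (h k, a k)) ∪
    Finset.univ.biUnion fun k => (t k).image (r k)
  let R₀ : Subring P := Subring.closure (S : Set P)
  let θY : CommRingCat.of R₀ ⟶ Γ(Y, W') := CommRingCat.ofHom ((RingHom.fst _ _).comp R₀.subtype)
  let θA : CommRingCat.of R₀ ⟶ A := CommRingCat.ofHom ((RingHom.snd _ _).comp R₀.subtype)
  have hcompat : θY ≫ g.appLE W' W e.ge = θA ≫ q := by
    ext ⟨x, hx⟩
    have hle : R₀ ≤ (p.comp (RingHom.fst _ _)).eqLocus (q.hom.comp (RingHom.snd _ _)) := by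
      refine Subring.closure_le.mpr ?_
      intro z hz
      simp only [S, Finset.coe_union, Set.mem_union, Finset.mem_coe, Finset.mem_image,
        Finset.mem_biUnion, Finset.mem_univ, true_and] at hz
      rcases hz with ⟨k, rfl⟩ | ⟨k, z, -, rfl⟩
      · exact ha k
      · exact hr k z
    exact hle hx
  let ek : κ → CommRingCat.of R₀ := fun k => ⟨(h k, a k),
    Subring.subset_closure (Finset.mem_union_left _ (Finset.mem_image_of_mem _ (Finset.mem_univ k)))⟩
  let j : (W' : Scheme.{u}) ⟶ Spec (.of R₀) := W'.toSpecΓ ≫ Spec.map θY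
  have hjpre : ∀ k, j ⁻¹ᵁ PrimeSpectrum.basicOpen (ek k) = W'.ι ⁻¹ᵁ Y.basicOpen (h k) := by
    intro k
    rw [Scheme.Hom.comp_preimage]
    exact W'.toSpecΓ_preimage_basicOpen (h k)
  have hchart : ∀ k, IsOpenImmersion (Y.homOfLE (Y.basicOpen_le (h k)) ≫ j) ∧
      (specD (.of R₀) (ek k) : Set (Spec (.of R₀))) ⊆
        Set.range (Y.homOfLE (Y.basicOpen_le (h k)) ≫ j) := by
    intro k
    let ψ : CommRingCat.of R₀ ⟶ Γ(Y, Y.basicOpen (h k)) :=
      θY ≫ Y.presheaf.map (homOfLE (Y.basicOpen_le (h k))).op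
    have heq : Y.homOfLE (Y.basicOpen_le (h k)) ≫ j = (Y.basicOpen (h k)).toSpecΓ ≫ Spec.map ψ := by
      rw [Spec.map_comp, Scheme.Opens.toSpecΓ_SpecMap_presheaf_map_assoc]
    rw [heq]
    haveI : IsIso (Y.basicOpen (h k)).toSpecΓ := by
      haveI : IsAffine (Y.basicOpen (h k)).toScheme := hh k
      delta Scheme.Opens.toSpecΓ
      infer_instance
    letI := ψ.hom.toAlgebra
    suffices IsLocalization.Away (ek k) Γ(Y, Y.basicOpen (h k)) by
      haveI : IsOpenImmersion (Spec.map ψ) :=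
        IsOpenImmersion.of_isLocalization (S := Γ(Y, Y.basicOpen (h k))) (ek k)
      refine ⟨inferInstance, fun z hz => ?_⟩
      rw [← PrimeSpectrum.localization_away_comap_range Γ(Y, Y.basicOpen (h k)) (ek k)] at hz
      obtain ⟨w, rfl⟩ := hz
      let w' : Spec Γ(Y, Y.basicOpen (h k)) := w
      refine ⟨inv (Y.basicOpen (h k)).toSpecΓ w', ?_⟩
      refine (Scheme.Hom.comp_apply _ (Spec.map ψ) _).trans ?_
      have hw : (Y.basicOpen (h k)).toSpecΓ (inv (Y.basicOpen (h k)).toSpecΓ w') = w' := by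
        rw [← Scheme.Hom.comp_apply, IsIso.inv_hom_id]
        rfl
      exact congrArg (fun v => Spec.map ψ v) hw
    let res : Γ(Y, W') →+* Γ(Y, Y.basicOpen (h k)) :=
      (Y.presheaf.map (homOfLE (Y.basicOpen_le (h k))).op).hom
    have hu : IsUnit (res (h k)) := RingedSpace.isUnit_res_basicOpen Y.toRingedSpace (h k)
    refine IsLocalization.Away.mk (ek k) hu (fun z => ?_) (fun b b' hbb => ?_)
    · have hz : z ∈ Subring.closure (t k : Set _) := ht k ▸ Subring.mem_top z
      suffices ∃ (n : ℕ) (b : R₀), z * res (h k) ^ n = res b.1.1 from this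
      induction hz using Subring.closure_induction with
      | mem x hx =>
        refine ⟨N k x, ⟨r k x, Subring.subset_closure (Finset.mem_union_right _
          (Finset.mem_biUnion.mpr ⟨k, Finset.mem_univ k, Finset.mem_image_of_mem _ hx⟩))⟩, ?_⟩
        rw [mul_comm]
        exact (hN k x).symm
      | zero => exact ⟨0, 0, by simp⟩
      | one => exact ⟨0, 1, by simp⟩
      | add x y _ _ hx hy =>
        obtain ⟨n, b, hx⟩ := hx
        obtain ⟨m, c, hy⟩ := hy
        refine ⟨n + m, b * ek k ^ m + c * ek k ^ n, ?_⟩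
        change _ = res (b.1.1 * h k ^ m + c.1.1 * h k ^ n)
        rw [map_add, map_mul, map_mul, map_pow, map_pow, ← hx, ← hy]
        ring
      | neg x _ hx =>
        obtain ⟨n, b, hx⟩ := hx
        refine ⟨n, -b, ?_⟩
        change _ = res (-b.1.1)
        rw [map_neg, ← hx, neg_mul]
      | mul x y _ _ hx hy =>
        obtain ⟨n, b, hx⟩ := hx
        obtain ⟨m, c, hy⟩ := hy
        refine ⟨n + m, b * c, ?_⟩
        change _ = res (b.1.1 * c.1.1)
        rw [map_mul, ← hx, ← hy]
        ring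
    · have hd : res ((b - b').1.1) = 0 := by
        change res b.1.1 = res b'.1.1 at hbb
        change res (b.1.1 - b'.1.1) = 0
        rw [map_sub, hbb, sub_self]
      obtain ⟨n, hn⟩ := exists_pow_mul_eq_zero_of_res_basicOpen_eq_zero_of_isCompact Y
        (hY.isCompact W') _ (h k) hd
      have hq : q.hom ((ek k ^ n * (b - b')).1.2) = 0 := by
        have h1 := congrArg (fun φ => φ.hom (ek k ^ n * (b - b'))) hcompat
        change p ((ek k ^ n * (b - b')).1.1) = q.hom ((ek k ^ n * (b - b')).1.2) at h1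
        rw [← h1]
        have : (ek k ^ n * (b - b')).1.1 = h k ^ n * (b - b').1.1 := rfl
        rw [this, hn, map_zero]
      letI := (q ≫ U.presheaf.map (homOfLE (U.basicOpen_le (q.hom (a k)))).op).hom.toAlgebra
      haveI := hloc k
      obtain ⟨⟨_, m, rfl⟩, hm⟩ := (IsLocalization.map_eq_zero_iff (Submonoid.powers (a k))
        Γ(U, U.basicOpen (q.hom (a k))) ((ek k ^ n * (b - b')).1.2)).mp (by
          change (U.presheaf.map _).hom (q.hom _) = 0
          rw [hq, map_zero])
      refine ⟨m + n, ?_⟩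
      rw [← sub_eq_zero, ← mul_sub, pow_add, mul_assoc]
      refine Subtype.ext (Prod.ext ?_ hm)
      change h k ^ m * (h k ^ n * (b - b').1.1) = 0
      rw [hn, mul_zero]
  have hcover : ∀ x : W', ∃ k, j x ∈ PrimeSpectrum.basicOpen (ek k) := by
    intro x
    obtain ⟨k, hk⟩ := Opens.mem_iSup.mp (hcov.le x.2)
    refine ⟨k, ?_⟩
    have hk' : x ∈ j ⁻¹ᵁ PrimeSpectrum.basicOpen (ek k) := by rw [hjpre]; exact hk
    exact hk'
  haveI hj : IsOpenImmersion j := by
    refine QCGen12.isOpenImmersion_of_restrict j (fun k => PrimeSpectrum.basicOpen (ek k)) hcover fun k => ?_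
    haveI := (hchart k).1
    haveI : IsOpenImmersion ((j ⁻¹ᵁ PrimeSpectrum.basicOpen (ek k)).ι ≫ j) := by
      refine isOpenImmersion_ι_comp j _ (Y.homOfLE (Y.basicOpen_le (h k))) ?_
      rw [Scheme.opensRange_homOfLE, hjpre]
    haveI : IsOpenImmersion (j ∣_ PrimeSpectrum.basicOpen (ek k) ≫
        Scheme.Opens.ι (X := Spec (.of R₀)) (PrimeSpectrum.basicOpen (ek k))) := by
      rw [morphismRestrict_ι]
      assumption
    exact IsOpenImmersion.of_comp _ (Scheme.Opens.ι (X := Spec (.of R₀)) (PrimeSpectrum.basicOpen (ek k)))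
  refine ⟨.of R₀, θA, j, ek, ?_, hj, ?_, fun k => rfl, Set.Subset.antisymm ?_ (Set.iUnion_subset fun k => ?_)⟩
  · refine lftz_spec (R := R₀) (S.attach.image fun z => ⟨z.1, Subring.subset_closure z.2⟩) ?_
    rw [eq_top_iff]
    rintro ⟨x, hx⟩ -
    have key : R₀ ≤ (Subring.closure ((S.attach.image fun z => (⟨z.1, Subring.subset_closure z.2⟩ : R₀)) :
        Set R₀)).map R₀.subtype :=
      Subring.closure_le.mpr fun z hz => ⟨⟨z, Subring.subset_closure hz⟩,
        Subring.subset_closure (Finset.mem_coe.mpr (Finset.mem_image.mpr ⟨⟨z, hz⟩, Finset.mem_attach _ _, rfl⟩)), rfl⟩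
    obtain ⟨y, hy, hyx⟩ := key hx
    rwa [show (⟨x, hx⟩ : R₀) = y from Subtype.ext hyx.symm]
  · rw [reassoc_of% (resLE_toSpecΓ g W' W e.ge), ← Spec.map_comp, hcompat, Spec.map_comp]
  · rintro _ ⟨x, rfl⟩
    obtain ⟨k, hk⟩ := hcover x
    exact Set.mem_iUnion.mpr ⟨k, hk⟩
  · intro z hz
    obtain ⟨w, rfl⟩ := (hchart k).2 hz
    exact ⟨_, (Scheme.Hom.comp_apply _ j w).symm⟩

end Groth.Agent.LimH13
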