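import Groth.Agent.Lib.LimH13.AffineSpec
import Groth.Prelude.Def_Coh
import Mathlib.AlgebraicGeometry.Noetherian
import Mathlib.AlgebraicGeometry.AffineTransitionLimit

/-!
# Refining an affine morphism to a scheme of finite type over the integers
-/

universe u

open CategoryTheory Limits AlgebraicGeometry Opposite TopologicalSpace

set_option backward.isDefEq.respectTransparency false
set_option backward.isDefEq.respectTransparency.types false
set_option backward.defeqAttrib.useBackward true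

noncomputable section

namespace Groth.Agent.LimH13

/-- Locally of finite type over the integers. -/
def LFTZ (Y : Scheme.{u}) : Prop :=
  LocallyOfFiniteType (Limits.IsTerminal.from specULiftZIsTerminal Y)

theorem LFTZ.isLocallyNoetherian {Y : Scheme.{u}} (h : LFTZ Y) : IsLocallyNoetherian Y := by
  haveI : LocallyOfFiniteType (Limits.IsTerminal.from specULiftZIsTerminal Y) := h
  haveI : IsNoetherianRing (ULift.{u} ℤ) := isNoetherianRing_of_ringEquiv ℤ ULift.ringEquiv.symm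
  exact LocallyOfFiniteType.isLocallyNoetherian (Limits.IsTerminal.from specULiftZIsTerminal Y)

theorem LFTZ.isNoetherian {Y : Scheme.{u}} (h : LFTZ Y) [CompactSpace Y] : IsNoetherian Y := by
  haveI := h.isLocallyNoetherian
  exact ⟨⟩

theorem LFTZ.isCompact {Y : Scheme.{u}} (h : LFTZ Y) [CompactSpace Y] (V : Y.Opens) :
    IsCompact (V : Set Y) := by
  haveI := h.isNoetherian
  exact NoetherianSpace.isCompact _

theorem LFTZ.quasiSeparatedSpace {Y : Scheme.{u}} (h : LFTZ Y) : QuasiSeparatedSpace Y := by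
  haveI := h.isLocallyNoetherian
  infer_instance

theorem LFTZ.of_comp {Y Y' : Scheme.{u}} (h : LFTZ Y) (p : Y' ⟶ Y) [LocallyOfFiniteType p] :
    LFTZ Y' := by
  haveI : LocallyOfFiniteType (Limits.IsTerminal.from specULiftZIsTerminal Y) := h
  rw [LFTZ, show Limits.IsTerminal.from specULiftZIsTerminal Y' =
    p ≫ Limits.IsTerminal.from specULiftZIsTerminal Y from specULiftZIsTerminal.hom_ext _ _]
  infer_instance

theorem basicOpen_appLE_of_eq {X Y : Scheme.{u}} (f : X ⟶ Y) (V : Y.Opens) (W : X.Opens)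
    (e : f ⁻¹ᵁ V = W) (s : Γ(Y, V)) :
    X.basicOpen (f.appLE V W e.ge s) = f ⁻¹ᵁ Y.basicOpen s := by
  rw [Scheme.basicOpen_appLE, inf_eq_right]
  exact (f.preimage_mono (Y.basicOpen_le s)).trans e.le

/-- Functions on a compact open of a limit come from a stage. -/
theorem exists_refinement_of_isLimit {I : Type u} [SmallCategory I] [Quiver.IsThin I] [IsCofiltered I] (D : I ⥤ Scheme.{u})
    (c : Cone D) (hc : IsLimit c) [∀ {i j} (f : i ⟶ j), IsAffineHom (D.map f)]
    [∀ i, CompactSpace (D.obj i)] (hLFT : ∀ i, LFTZ (D.obj i))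
    (W : c.pt.Opens) (hW : IsCompact (W : Set c.pt)) {κ : Type u} [Finite κ]
    (a : κ → Γ(c.pt, W)) (ha : ∀ k, IsAffineOpen (c.pt.basicOpen (a k))) :
    ∃ (m : I) (W' : (D.obj m).Opens) (e : c.π.app m ⁻¹ᵁ W' = W) (h : κ → Γ(D.obj m, W')),
      ∀ k, (c.π.app m).appLE W' W e.ge (h k) = a k ∧ IsAffineOpen ((D.obj m).basicOpen (h k)) := by
  classical
  obtain ⟨i, V, hV, hVW⟩ := exists_preimage_eq D c hc W hW
  subst hVW
  haveI hEc : ∀ (i : _) (V : (D.obj i).Opens) (j : Over i), CompactSpace ((opensDiagram D i V).obj j) :=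
    fun i V j => isCompact_iff_compactSpace.mp ((hLFT j.left).isCompact _)
  haveI hEq : ∀ (i : _) (V : (D.obj i).Opens) (j : Over i),
      QuasiSeparatedSpace ((opensDiagram D i V).obj j) := fun i V j => by
    haveI := (hLFT j.left).quasiSeparatedSpace
    exact (isQuasiSeparated_iff_quasiSeparatedSpace _ (D.map j.hom ⁻¹ᵁ V).2).mp (.of_quasiSeparatedSpace _)
  have step : ∀ k, ∃ (j : Over i) (h : Γ(D.obj j.left, D.map j.hom ⁻¹ᵁ V)),
      (c.π.app j.left).appLE (D.map j.hom ⁻¹ᵁ V) (c.π.app i ⁻¹ᵁ V)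
        (by rw [← Scheme.Hom.comp_preimage, c.w]) h = a k ∧
      IsAffineOpen ((D.obj j.left).basicOpen h) := by
    intro k
    obtain ⟨j, t, ht⟩ := exists_appTop_π_eq_of_isLimit (opensDiagram D i V) (opensCone D c i V)
      (isLimitOpensCone D c hc i V) ((c.π.app i ⁻¹ᵁ V).topIso.inv (a k))
    let h := (D.map j.hom ⁻¹ᵁ V).topIso.hom t
    have e0 : c.π.app i ⁻¹ᵁ V ≤ c.π.app j.left ⁻¹ᵁ (D.map j.hom ⁻¹ᵁ V) := by
      rw [← Scheme.Hom.comp_preimage, c.w]
    have hh : (c.π.app j.left).appLE (D.map j.hom ⁻¹ᵁ V) (c.π.app i ⁻¹ᵁ V) e0 h = a k := by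
      have h1 : ((c.π.app j.left).resLE (D.map j.hom ⁻¹ᵁ V) (c.π.app i ⁻¹ᵁ V) e0).app ⊤ t =
          (c.π.app i ⁻¹ᵁ V).topIso.inv (a k) := ht.symm
      rw [Scheme.Hom.resLE_app_top] at h1
      exact (c.π.app i ⁻¹ᵁ V).topIso.symm.commRingCatIsoToRingEquiv.injective h1
    have hpre : c.π.app j.left ⁻¹ᵁ (D.obj j.left).basicOpen h = c.pt.basicOpen (a k) := by
      rw [← hh]
      exact (basicOpen_appLE_of_eq (c.π.app j.left) _ _
        (by rw [← Scheme.Hom.comp_preimage, c.w]) h).symm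
    haveI : IsAffine (opensCone D c j.left ((D.obj j.left).basicOpen h)).pt := by
      change IsAffineOpen (c.π.app j.left ⁻¹ᵁ (D.obj j.left).basicOpen h)
      rw [hpre]
      exact ha k
    obtain ⟨l, hl⟩ := Scheme.exists_isAffine_of_isLimit _ _
      (isLimitOpensCone D c hc j.left ((D.obj j.left).basicOpen h))
    refine ⟨Over.mk (l.hom ≫ j.hom), (D.map l.hom).appLE _ _ (by
      change D.map (l.hom ≫ j.hom) ⁻¹ᵁ V ≤ _
      rw [D.map_comp, Scheme.Hom.comp_preimage]) h, ?_, ?_⟩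
    · rw [← hh]
      have h3 := congrArg (fun φ => φ.hom h) (Scheme.Hom.appLE_comp_appLE (c.π.app l.left) (D.map l.hom)
        (D.map j.hom ⁻¹ᵁ V) (D.map (l.hom ≫ j.hom) ⁻¹ᵁ V) (c.π.app i ⁻¹ᵁ V)
        (by rw [D.map_comp, Scheme.Hom.comp_preimage]) (by rw [← Scheme.Hom.comp_preimage, c.w]))
      refine Eq.trans h3 ?_
      congr! 3
      exact c.w l.hom
    · change IsAffineOpen ((D.obj l.left).basicOpen _)
      rw [Scheme.basicOpen_appLE, inf_eq_right.mpr]
      · exact hl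
      · change _ ≤ D.map (l.hom ≫ j.hom) ⁻¹ᵁ V
        rw [D.map_comp, Scheme.Hom.comp_preimage]
        exact (D.map l.hom).preimage_mono ((D.obj j.left).basicOpen_le h)
  choose j h hh haff using step
  cases nonempty_fintype κ
  obtain ⟨m, hm⟩ := IsCofiltered.inf_objs_exists (insert i (Finset.univ.image fun k => (j k).left))
  let fi : m ⟶ i := (hm (Finset.mem_insert_self _ _)).some
  let fj : ∀ k, m ⟶ (j k).left := fun k =>
    (hm (Finset.mem_insert_of_mem (Finset.mem_image_of_mem _ (Finset.mem_univ k)))).some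
  have hfac : ∀ k, fi = fj k ≫ (j k).hom := fun k => Subsingleton.elim _ _
  refine ⟨m, D.map fi ⁻¹ᵁ V, by rw [← Scheme.Hom.comp_preimage, c.w], fun k => (D.map (fj k)).appLE _ _
      (by rw [hfac k, D.map_comp, Scheme.Hom.comp_preimage]) (h k), fun k => ⟨?_, ?_⟩⟩
  · rw [← hh k]
    have h3 := congrArg (fun φ => φ.hom (h k)) (Scheme.Hom.appLE_comp_appLE (c.π.app m) (D.map (fj k))
      (D.map (j k).hom ⁻¹ᵁ V) (D.map fi ⁻¹ᵁ V) (c.π.app i ⁻¹ᵁ V)
      (by rw [hfac k, D.map_comp, Scheme.Hom.comp_preimage]) (by rw [← Scheme.Hom.comp_preimage, c.w]))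
    refine Eq.trans h3 ?_
    congr! 3
    exact c.w (fj k)
  · rw [Scheme.basicOpen_appLE, inf_eq_right.mpr]
    · exact (haff k).preimage (D.map (fj k))
    · rw [hfac k, D.map_comp, Scheme.Hom.comp_preimage]
      exact (D.map (fj k)).preimage_mono ((D.obj (j k).left).basicOpen_le (h k))

/-- The data produced by refining an affine morphism. -/
theorem exists_refinement {U Y₀ : Scheme.{u}} [CompactSpace Y₀] (hY₀ : LFTZ Y₀) (g : U ⟶ Y₀)
    [IsAffineHom g] (W : U.Opens) (hW : IsCompact (W : Set U)) {κ : Type u} [Finite κ]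
    (a : κ → Γ(U, W)) (ha : ∀ k, IsAffineOpen (U.basicOpen (a k))) :
    ∃ (Y : Scheme.{u}) (_ : CompactSpace Y) (_ : LFTZ Y) (g' : U ⟶ Y) (_ : IsAffineHom g')
      (W' : Y.Opens) (e : g' ⁻¹ᵁ W' = W) (h : κ → Γ(Y, W')),
      ∀ k, g'.appLE W' W e.ge (h k) = a k ∧ IsAffineOpen (Y.basicOpen (h k)) := by
  haveI : QuasiSeparatedSpace Y₀ := hY₀.quasiSeparatedSpace
  haveI : IsFiltered (SubAlg.Idx (RelSpec.QCAlg.directImage g)) :=
    isFiltered_of_directed_le_nonempty _
  haveI : ∀ {i j} (a : i ⟶ j), IsAffineHom ((SubAlg.affDiag g).map a) :=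
    fun a => SubAlg.isAffineHom_affDiag_map g a
  have hLFT : ∀ j, LFTZ ((SubAlg.affDiag g).obj j) := fun j => by
    haveI : LocallyOfFiniteType j.unop.alg.π := SubAlg.locallyOfFiniteType_π j.unop.ft
    exact hY₀.of_comp j.unop.alg.π
  haveI : Quiver.IsThin (SubAlg.Idx (RelSpec.QCAlg.directImage g))ᵒᵖ := fun _ _ =>
    ⟨fun x y => Quiver.Hom.unop_inj (Subsingleton.elim _ _)⟩
  have key := exists_refinement_of_isLimit (κ := κ) (SubAlg.affDiag g) (SubAlg.affCone g)
    (SubAlg.isLimitAffCone g) hLFT W hW a ha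
  obtain ⟨m, W', e, h, H⟩ := key
  exact ⟨_, inferInstance, hLFT m, (SubAlg.affCone g).π.app m, SubAlg.isAffineHom_affCone_π g m,
    W', e, h, H⟩

end Groth.Agent.LimH13
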