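import Groth.Agent.Lib.LimH13.Stalk
import Mathlib.AlgebraicGeometry.Noetherian
import Mathlib.RingTheory.Ideal.AssociatedPrime.Localization
import Mathlib.RingTheory.Ideal.AssociatedPrime.Finiteness
import Mathlib.RingTheory.Flat.FaithfullyFlat.Basic
import Mathlib.CategoryTheory.CofilteredSystem

/-!
# Associated points along a flat limit
-/

set_option autoImplicit false
set_option backward.isDefEq.respectTransparency false
set_option linter.style.haveILetI false
universe u

open CategoryTheory CategoryTheory.Limits AlgebraicGeometry TopologicalSpace IsLocalRing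

namespace Groth.Agent.LimH13

/-- The maximal ideal of the local ring at `x` is associated to the local ring. -/
def IsAssPt (X : Scheme.{u}) (x : X) : Prop :=
  IsAssociatedPrime (maximalIdeal (X.presheaf.stalk x)) (X.presheaf.stalk x)

theorem ass_descend {A B : Type u} [CommRing A] [IsLocalRing A] [IsNoetherianRing A] [CommRing B]
    [IsLocalRing B] [IsNoetherianRing B] (f : A →+* B) [IsLocalHom f] (hf : f.Flat)
    (h : IsAssociatedPrime (maximalIdeal B) B) : IsAssociatedPrime (maximalIdeal A) A := by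
  by_contra hn
  obtain ⟨-, y, hy⟩ := isAssociatedPrime_iff.1 h
  obtain ⟨a, ham, ha⟩ : ∃ a ∈ maximalIdeal A, a ∈ nonZeroDivisors A := by
    by_contra hcon
    push Not at hcon
    have hfin := associatedPrimes.finite A A
    have hsub : (maximalIdeal A : Set A) ⊆ ⋃ p ∈ hfin.toFinset, (p : Set A) := by
      intro a ha
      have h1 : a ∈ ((nonZeroDivisors A : Submonoid A) : Set A)ᶜ := hcon a ha
      rw [← biUnion_associatedPrimes_eq_compl_nonZeroDivisors] at h1
      simpa using h1
    obtain ⟨p, hp, hle⟩ := (Ideal.subset_union_prime ⊥ ⊥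
      (fun p hp _ _ => (AssociatedPrimes.mem_iff.1 (hfin.mem_toFinset.1 hp)).isPrime)).1 hsub
    have hp' := AssociatedPrimes.mem_iff.1 (hfin.mem_toFinset.1 hp)
    rw [← (maximalIdeal.isMaximal A).eq_of_le hp'.isPrime.ne_top hle] at hp'
    exact hn hp'
  algebraize [f]
  have hreg : IsSMulRegular B (algebraMap A B a) :=
    IsSMulRegular.of_flat fun u v huv => (mul_cancel_left_mem_nonZeroDivisors ha).1 huv
  have hmem : f a ∈ maximalIdeal B := fun hu => ham (isUnit_of_map_unit f a hu)
  rw [hy, Submodule.mem_colon_singleton, Submodule.mem_bot, smul_eq_mul] at hmem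
  have h0 : y = 0 := hreg (show algebraMap A B a • y = algebraMap A B a • 0 by rw [smul_zero, smul_eq_mul]; exact hmem)
  have h1 : (1 : B) ∈ maximalIdeal B := by
    rw [hy, Submodule.mem_colon_singleton, h0, smul_zero]
    exact zero_mem _
  exact (maximalIdeal B).ne_top_iff_one.1 (maximalIdeal.isMaximal B).ne_top h1

theorem ass_map {X Y : Scheme.{u}} [IsLocallyNoetherian X] [IsLocallyNoetherian Y] (f : X ⟶ Y) [Flat f]
    {x : X} (h : IsAssPt X x) : IsAssPt Y (f x) :=
  ass_descend (f.stalkMap x).hom (Flat.stalkMap f x) h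

theorem finite_assPt (X : Scheme.{u}) [IsLocallyNoetherian X] [CompactSpace X] :
    {x : X | IsAssPt X x}.Finite := by
  obtain ⟨s, hs⟩ := isCompact_univ.elim_finite_subcover (fun V : X.affineOpens => (V.1 : Set X))
    (fun V => V.1.2) fun x _ => by
      obtain ⟨V, hV, hxV, -⟩ := exists_isAffineOpen_mem_and_subset (X := X) (x := x) (U := ⊤) trivial
      exact Set.mem_iUnion.2 ⟨⟨V, hV⟩, hxV⟩
  refine Set.Finite.subset (s.finite_toSet.biUnion fun V _ =>
    (?_ : {x : X | x ∈ V.1 ∧ IsAssPt X x}.Finite)) fun x hx => ?_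
  · haveI : IsNoetherianRing Γ(X, V.1) := IsLocallyNoetherian.component_noetherian V
    let φ : {x : X | x ∈ V.1 ∧ IsAssPt X x} → associatedPrimes Γ(X, V.1) Γ(X, V.1) := fun x =>
      ⟨(V.2.primeIdealOf ⟨x.1, x.2.1⟩).asIdeal, by
        letI := TopCat.Presheaf.algebra_section_stalk X.presheaf (⟨x.1, x.2.1⟩ : V.1)
        haveI := V.2.isLocalization_stalk ⟨x.1, x.2.1⟩
        let p := (V.2.primeIdealOf ⟨x.1, x.2.1⟩).asIdeal
        haveI : IsLocalizedModule p.primeCompl (Algebra.linearMap Γ(X, V.1) (X.presheaf.stalk x.1)) :=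
          (isLocalizedModule_iff_isLocalization' _ _).2 (inferInstance :
            IsLocalization.AtPrime (X.presheaf.stalk x.1) p)
        have h := Module.associatedPrimes.comap_mem_associatedPrimes_of_mem_associatedPrimes_of_isLocalizedModule_of_fg
          p.primeCompl (Algebra.linearMap Γ(X, V.1) (X.presheaf.stalk x.1)) _ x.2.2
          ((isNoetherianRing_iff_ideal_fg _).1 inferInstance _)
        have e : Ideal.comap (algebraMap Γ(X, V.1) (X.presheaf.stalk x.1)) (maximalIdeal (X.presheaf.stalk x.1)) = p :=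
          IsLocalization.AtPrime.under_maximalIdeal (X.presheaf.stalk x.1) p
        rw [e] at h
        exact h⟩
    haveI : Finite (associatedPrimes Γ(X, V.1) Γ(X, V.1)) := (associatedPrimes.finite _ _).to_subtype
    refine Finite.of_injective φ fun a b h => Subtype.ext ?_
    have h1 : V.2.primeIdealOf ⟨a.1, a.2.1⟩ = V.2.primeIdealOf ⟨b.1, b.2.1⟩ :=
      PrimeSpectrum.ext (congrArg Subtype.val h)
    rw [← V.2.fromSpec_primeIdealOf ⟨a.1, a.2.1⟩, h1, V.2.fromSpec_primeIdealOf ⟨b.1, b.2.1⟩]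
  · obtain ⟨V, hV, hxV⟩ := Set.mem_iUnion₂.1 (hs (Set.mem_univ x))
    exact Set.mem_biUnion hV ⟨hxV, hx⟩

variable {I : Type u} [SmallCategory I] [IsCofiltered I] {D : I ⥤ Scheme.{u}} {c : Cone D}
  [∀ {i j : I} (a : i ⟶ j), IsAffineHom (D.map a)] [∀ {i j : I} (a : i ⟶ j), Flat (D.map a)]
  [∀ i : I, IsNoetherian (D.obj i)] [IsNoetherian c.pt]

theorem exists_stage_of_forall_ass (hc : IsLimit c) (i₀ : I) (U : (D.obj i₀).Opens)
    (h : ∀ z : c.pt, IsAssPt c.pt z → c.π.app i₀ z ∈ U) :
    ∃ (i : I) (g : i ⟶ i₀), ∀ x : D.obj i, IsAssPt (D.obj i) x → D.map g x ∈ U := by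
  by_contra hcon
  push Not at hcon
  have hw : ∀ {k l : Over i₀} (a : k ⟶ l) (x : D.obj k.left), D.map l.hom (D.map a.left x) = D.map k.hom x :=
    fun a x => by rw [← Scheme.Hom.comp_apply, ← D.map_comp, Over.w a]
  let E : Over i₀ ⥤ Type u :=
    { obj := fun k => {x : D.obj k.left // IsAssPt (D.obj k.left) x ∧ D.map k.hom x ∉ U}
      map := fun a => TypeCat.ofHom fun x => ⟨D.map a.left x.1, ass_map _ x.2.1, by rw [hw]; exact x.2.2⟩
      map_id := fun k => by ext x; simp
      map_comp := fun a b => by ext x; simp }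
  haveI : ∀ k, Finite (E.obj k) := fun k =>
    (((finite_assPt (D.obj k.left)).subset fun x hx => hx.1).to_subtype :
      Finite {x : D.obj k.left | IsAssPt (D.obj k.left) x ∧ D.map k.hom x ∉ U})
  haveI : ∀ k, Nonempty (E.obj k) := fun k => by
    obtain ⟨x, hx, hxU⟩ := hcon k.left k.hom
    exact ⟨⟨x, hx, hxU⟩⟩
  obtain ⟨x, hx⟩ := nonempty_sections_of_finite_cofiltered_system E
  let F := Over.forget i₀
  let c' : Cone (F ⋙ D) := c.whisker F
  have hc' : IsLimit c' := (Functor.Initial.isLimitWhiskerEquiv F c).symm hc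
  haveI : ∀ {k l : Over i₀} (a : k ⟶ l), IsAffineHom ((F ⋙ D).map a) := fun a =>
    ‹∀ {i j : I} (a : i ⟶ j), IsAffineHom (D.map a)› a.left
  obtain ⟨z, hz⟩ := exists_limit_point hc' (fun k => (x k).1) fun {k l} a => congrArg Subtype.val (hx a)
  have hzU : c.π.app i₀ z ∉ U := by
    have h1 := (x (Over.mk (𝟙 i₀))).2.2
    rw [← hz (Over.mk (𝟙 i₀))] at h1
    have e : D.map (Over.mk (𝟙 i₀)).hom (c.π.app i₀ z) = c.π.app i₀ z := map_π_apply (c := c) (𝟙 i₀) z
    exact fun hh => h1 ((congrArg (fun p => p ∈ U) e).mpr hh)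
  refine hzU (h z ?_)
  obtain ⟨s, hs⟩ := (isNoetherianRing_iff_ideal_fg _).1
    (inferInstance : IsNoetherianRing (c.pt.presheaf.stalk z)) (maximalIdeal _)
  obtain ⟨j, a, w, hw'⟩ := exists_stalkMap_eq_finset hc z i₀ (fun l : s => l.1)
  have hass : IsAssPt (D.obj j) (c.π.app j z) := by
    have h1 := (x (Over.mk a)).2.1
    rw [← hz (Over.mk a)] at h1
    exact h1
  obtain ⟨-, y, hy⟩ := isAssociatedPrime_iff.1 hass
  haveI : Flat (c.π.app j) := flat_π hc j fun _ _ => inferInstance
  let f := ((c.π.app j).stalkMap z).hom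
  have hf : f.Flat := Flat.stalkMap _ _
  have hinj : Function.Injective f := by
    letI : Algebra ((D.obj j).presheaf.stalk (c.π.app j z)) (c.pt.presheaf.stalk z) := f.toAlgebra
    haveI : Module.Flat ((D.obj j).presheaf.stalk (c.π.app j z)) (c.pt.presheaf.stalk z) := hf
    haveI : IsLocalHom (algebraMap ((D.obj j).presheaf.stalk (c.π.app j z)) (c.pt.presheaf.stalk z)) :=
      inferInstanceAs (IsLocalHom ((c.π.app j).stalkMap z).hom)
    haveI := Module.FaithfullyFlat.of_flat_of_isLocalHom (A := (D.obj j).presheaf.stalk (c.π.app j z))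
      (B := c.pt.presheaf.stalk z)
    exact FaithfulSMul.algebraMap_injective ((D.obj j).presheaf.stalk (c.π.app j z)) (c.pt.presheaf.stalk z)
  refine isAssociatedPrime_iff.2 ⟨inferInstance, f y, le_antisymm ?_ ?_⟩
  · rw [← hs, Ideal.span_le]
    intro l hl
    have hwm : w ⟨l, hl⟩ ∈ maximalIdeal _ := fun hu => by
      have h1 : IsUnit l := (congrArg IsUnit (hw' ⟨l, hl⟩)).mp (hu.map ((c.π.app j).stalkMap z).hom)
      have h2 : l ∈ maximalIdeal (c.pt.presheaf.stalk z) := hs ▸ Ideal.subset_span hl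
      exact h2 h1
    rw [hy, Submodule.mem_colon_singleton, Submodule.mem_bot, smul_eq_mul] at hwm
    rw [SetLike.mem_coe, Submodule.mem_colon_singleton, Submodule.mem_bot, smul_eq_mul]
    have e : f (w ⟨l, hl⟩) = l := hw' ⟨l, hl⟩
    rw [← e]
    exact ((map_mul f _ _).symm.trans (congrArg f hwm)).trans (map_zero f)
  · refine IsLocalRing.le_maximalIdeal fun h1 => ?_
    have h2 : f y = 0 := by
      have := (Ideal.eq_top_iff_one _).1 h1
      rwa [Submodule.mem_colon_singleton, one_smul, Submodule.mem_bot] at this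
    have h3 : (1 : (D.obj j).presheaf.stalk (c.π.app j z)) ∈ maximalIdeal _ := by
      rw [hy, Submodule.mem_colon_singleton, one_smul, Submodule.mem_bot]
      exact hinj (h2.trans (map_zero f).symm)
    exact (maximalIdeal _).ne_top_iff_one.1 (maximalIdeal.isMaximal _).ne_top h3

end Groth.Agent.LimH13
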