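import Groth.Agent.Lib.QCGen12.Basic
import Groth.Agent.Lib.QCGen12.Lift
import Mathlib.AlgebraicGeometry.Limits
import Mathlib.CategoryTheory.Filtered.Basic
import Mathlib.Algebra.Category.Ring.FilteredColimits
import Mathlib.AlgebraicGeometry.AffineTransitionLimit

/-!
# A relative spectrum is the limit of the spectra of its finite type subalgebras
-/

universe u

open CategoryTheory Limits AlgebraicGeometry Opposite TopologicalSpace

set_option backward.isDefEq.respectTransparency false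
set_option backward.isDefEq.respectTransparency.types false

noncomputable section

namespace Groth.Agent.LimH13.SubAlg

open RelSpec Groth.Agent.QCGen12

variable {X : Scheme.{u}} {A B B' C : QCAlg X}

/-- Injectivity on all opens. -/
def Inj (φ : B ⟶ A) : Prop := ∀ V : X.Opens, Function.Injective (φ.hom.app (op V)).hom

/-- The image over an open. -/
def rng (φ : B ⟶ A) (V : X.Opens) : Set (A.presheaf.obj (op V)) := Set.range (φ.hom.app (op V)).hom

theorem app_bres (φ : B ⟶ A) {U V : X.Opens} (h : V ≤ U) (b : B.presheaf.obj (op U)) :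
    (φ.hom.app (op V)).hom ((bres (B := B) h).hom b) =
      (bres (B := A) h).hom ((φ.hom.app (op U)).hom b) :=
  ConcreteCategory.congr_hom (φ.hom.naturality (homOfLE h).op) b

theorem app_str (φ : B ⟶ A) (V : X.Opens) (r : Γ(X, V)) :
    (φ.hom.app (op V)).hom ((B.str.app (op V)).hom r) = (A.str.app (op V)).hom r :=
  ConcreteCategory.congr_hom (NatTrans.congr_app φ.comm (op V)) r

theorem rng_bres (φ : B ⟶ A) {U V : X.Opens} (h : V ≤ U) {a : A.presheaf.obj (op U)}
    (ha : a ∈ rng φ U) : (bres h).hom a ∈ rng φ V := by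
  obtain ⟨b, rfl⟩ := ha
  exact ⟨_, app_bres φ h b⟩

/-- Inclusion of images on a basic open follows from that on the affine open. -/
theorem rng_le_basicOpen (φ : B ⟶ A) (χ : C ⟶ A) {U : X.Opens} (hU : IsAffineOpen U) (g : Γ(X, U))
    (h : rng φ U ⊆ rng χ U) : rng φ (X.basicOpen g) ⊆ rng χ (X.basicOpen g) := by
  rintro _ ⟨s, rfl⟩
  letI := (B.presheaf.map (homOfLE (X.basicOpen_le g)).op).hom.toAlgebra
  haveI : IsLocalization.Away ((B.str.app (op U)).hom g) (B.presheaf.obj (op (X.basicOpen g))) :=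
    B.isQC U hU g
  obtain ⟨⟨c, ⟨_, k, rfl⟩⟩, hc⟩ :=
    IsLocalization.surj (Submonoid.powers ((B.str.app (op U)).hom g)) s
  obtain ⟨d, hd⟩ := h ⟨c, rfl⟩
  obtain ⟨u, hu⟩ := (show IsUnit (M1.ores (X.basicOpen_le g) g) from
    RingedSpace.isUnit_res_basicOpen X.toRingedSpace g).pow k
  have hc' : s * (B.str.app (op (X.basicOpen g))).hom (u : Γ(X, X.basicOpen g)) =
      (bres (B := B) (X.basicOpen_le g)).hom c := by
    rw [hu, map_pow, M1.QC.str_map, ← map_pow]
    exact hc
  refine ⟨(bres (X.basicOpen_le g)).hom d *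
    (C.str.app (op (X.basicOpen g))).hom ((u⁻¹ : Γ(X, X.basicOpen g)ˣ) : Γ(X, X.basicOpen g)), ?_⟩
  rw [map_mul, app_bres, hd, ← app_bres, ← hc', map_mul, app_str, app_str, mul_assoc, ← map_mul,
    Units.mul_inv, map_one, mul_one]

/-- Inclusion of images may be checked locally. -/
theorem rng_le_of_cover (φ : B ⟶ A) (χ : C ⟶ A) (hχ : Inj χ) {ι : Type*} (V : ι → X.Opens)
    (hV : ∀ k, IsAffineOpen (V k)) (hcov : ∀ x, ∃ k, x ∈ V k)
    (h : ∀ k, rng φ (V k) ⊆ rng χ (V k)) (U : X.Opens) : rng φ U ⊆ rng χ U := by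
  rintro _ ⟨s, rfl⟩
  have key : ∀ x : U, ∃ (W : X.Opens) (hW : W ≤ U), x.1 ∈ W ∧
      (φ.hom.app (op W)).hom ((bres hW).hom s) ∈ rng χ W := by
    rintro ⟨x, hx⟩
    obtain ⟨k, hk⟩ := hcov x
    obtain ⟨g, hg, hxg⟩ := (hV k).exists_basicOpen_le ⟨x, hx⟩ hk
    exact ⟨X.basicOpen g, hg, hxg, rng_le_basicOpen φ χ (hV k) g (h k) ⟨_, rfl⟩⟩
  choose W hW hxW hmem using key
  choose t ht using hmem
  have hc : TopCat.Presheaf.IsCompatible C.presheaf W t := by
    intro i j
    apply hχ
    change (χ.hom.app _).hom ((bres inf_le_left).hom (t i)) =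
      (χ.hom.app _).hom ((bres inf_le_right).hom (t j))
    rw [app_bres χ, app_bres χ, ht i, ht j, ← app_bres, ← app_bres, bres_bres, bres_bres]
  obtain ⟨d, hd, -⟩ :=
    (TopCat.Presheaf.isSheaf_iff_isSheafUniqueGluing _).mp C.isSheaf W t hc
  have hle : U ≤ iSup W := fun x hx => Opens.mem_iSup.mpr ⟨⟨x, hx⟩, hxW ⟨x, hx⟩⟩
  refine ⟨(bres hle).hom d, ?_⟩
  refine TopCat.Sheaf.eq_of_locally_eq' (F := (⟨A.presheaf, A.isSheaf⟩ : TopCat.Sheaf CommRingCat.{u} X.carrier))
    W U (fun i => homOfLE (hW i)) hle _ _ fun i => ?_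
  change (bres (hW i)).hom _ = (bres (hW i)).hom _
  rw [← app_bres, ← app_bres, bres_bres, ← ht i]
  exact congrArg _ (hd i)

/-- The factorisation of a homomorphism through an injective one. -/
def fac (φ : B ⟶ A) (χ : C ⟶ A) (hχ : Inj χ) (h : ∀ V, rng φ V ⊆ rng χ V) : B ⟶ C where
  hom :=
    { app := fun V => CommRingCat.ofHom
        { toFun := fun b => (h V.unop ⟨b, rfl⟩).choose
          map_one' := hχ V.unop
            (((h V.unop ⟨_, rfl⟩).choose_spec.trans (map_one _)).trans (map_one _).symm)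
          map_zero' := hχ V.unop
            (((h V.unop ⟨_, rfl⟩).choose_spec.trans (map_zero _)).trans (map_zero _).symm)
          map_mul' := fun a b => hχ V.unop
            (((h V.unop ⟨_, rfl⟩).choose_spec.trans (map_mul _ _ _)).trans
              ((congrArg₂ (· * ·) (h V.unop ⟨a, rfl⟩).choose_spec.symm
                (h V.unop ⟨b, rfl⟩).choose_spec.symm).trans (map_mul _ _ _).symm))
          map_add' := fun a b => hχ V.unop
            (((h V.unop ⟨_, rfl⟩).choose_spec.trans (map_add _ _ _)).trans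
              ((congrArg₂ (· + ·) (h V.unop ⟨a, rfl⟩).choose_spec.symm
                (h V.unop ⟨b, rfl⟩).choose_spec.symm).trans (map_add _ _ _).symm)) }
      naturality := fun U V i => by
        ext b
        apply hχ V.unop
        refine (h V.unop ⟨_, rfl⟩).choose_spec.trans ?_
        refine Eq.trans ?_ (ConcreteCategory.congr_hom (χ.hom.naturality i) _).symm
        refine Eq.trans (ConcreteCategory.congr_hom (φ.hom.naturality i) b) ?_
        exact congrArg (A.presheaf.map i).hom (h U.unop ⟨b, rfl⟩).choose_spec.symm }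
  comm := by
    ext V r
    exact hχ V ((h V ⟨_, rfl⟩).choose_spec.trans ((app_str φ _ r).trans (app_str χ _ r).symm))

theorem fac_comp (φ : B ⟶ A) (χ : C ⟶ A) (hχ : Inj χ) (h : ∀ V, rng φ V ⊆ rng χ V) :
    fac φ χ hχ h ≫ χ = φ := by
  ext V b
  exact (h V ⟨b, rfl⟩).choose_spec

theorem hom_ext_of_inj {χ : C ⟶ A} (hχ : Inj χ) {ψ ψ' : B ⟶ C} (h : ψ ≫ χ = ψ' ≫ χ) : ψ = ψ' := by
  ext V b
  exact hχ V (ConcreteCategory.congr_hom (NatTrans.congr_app (congrArg (fun k => QCAlg.Hom.hom k) h) (op V)) b)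

/-- Finite type on affine opens. -/
def FT (B : QCAlg X) : Prop := ∀ V : X.affineOpens, (B.str.app (op V.1)).hom.FiniteType

theorem exists_generators (hB : FT B) (V : X.affineOpens) :
    ∃ t : Finset (B.presheaf.obj (op V.1)),
      Subring.closure (Set.range (B.str.app (op V.1)).hom ∪ (t : Set _)) = ⊤ := by
  letI := (B.str.app (op V.1)).hom.toAlgebra
  have : Algebra.FiniteType Γ(X, V.1) (B.presheaf.obj (op V.1)) := hB V
  obtain ⟨t, ht⟩ := this.out
  refine ⟨t, ?_⟩
  have := congrArg Subalgebra.toSubring ht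
  rw [Algebra.adjoin_eq_ring_closure, Algebra.top_toSubring] at this
  exact this

variable (A)

/-- The finite type subalgebras, recorded by their images. -/
def Idx : Type u :=
  {G : ∀ V : X.Opens, Set (A.presheaf.obj (op V)) //
    ∃ (B : QCAlg X) (φ : B ⟶ A), Inj φ ∧ FT B ∧ ∀ V, rng φ V = G V}

variable {A}

instance : Preorder (Idx A) := Preorder.lift fun i => i.1

/-- A representing algebra. -/
def Idx.alg (i : Idx A) : QCAlg X := i.2.choose

/-- Its inclusion. -/
def Idx.incl (i : Idx A) : i.alg ⟶ A := i.2.choose_spec.choose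

theorem Idx.inj (i : Idx A) : Inj i.incl := i.2.choose_spec.choose_spec.1

theorem Idx.ft (i : Idx A) : FT i.alg := i.2.choose_spec.choose_spec.2.1

theorem Idx.rng_incl (i : Idx A) (V : X.Opens) : rng i.incl V = i.1 V :=
  i.2.choose_spec.choose_spec.2.2 V

/-- The transition homomorphisms. -/
def Idx.trans {i j : Idx A} (h : i ≤ j) : i.alg ⟶ j.alg :=
  fac i.incl j.incl j.inj fun V => by rw [i.rng_incl, j.rng_incl]; exact h V

theorem Idx.trans_incl {i j : Idx A} (h : i ≤ j) : Idx.trans h ≫ j.incl = i.incl := fac_comp _ _ _ _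

variable [CompactSpace X] [QuasiSeparatedSpace X]

theorem exists_idx (L : List (Σ V : X.affineOpens, A.presheaf.obj (op V.1))) :
    ∃ i : Idx A, ∀ a ∈ L, a.2 ∈ rng i.incl a.1.1 := by
  obtain ⟨B, φ, hφ, hB, hL⟩ := exists_subalgebra A L
  let i : Idx A := ⟨rng φ, B, φ, hφ, hB, fun _ => rfl⟩
  exact ⟨i, fun a ha => i.rng_incl a.1.1 ▸ hL a ha⟩

instance : Nonempty (Idx A) := ⟨(exists_idx (A := A) []).choose⟩

instance isDirected_idx : IsDirected (Idx A) (fun a b => a ≤ b) := by
  classical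
  refine ⟨fun i j => ?_⟩
  obtain ⟨s, hs, hc⟩ := isCompact_and_isOpen_iff_finite_and_eq_biUnion_affineOpens.mp
    ⟨(isCompact_univ : IsCompact (Set.univ : Set X)), isOpen_univ⟩
  let L : List (Σ V : X.affineOpens, A.presheaf.obj (op V.1)) := hs.toFinset.toList.flatMap fun V =>
    (((exists_generators i.ft V).choose.image (i.incl.hom.app (op V.1)).hom) ∪
      ((exists_generators j.ft V).choose.image (j.incl.hom.app (op V.1)).hom)).toList.map
        fun a => ⟨V, a⟩
  obtain ⟨k, hk⟩ := exists_idx L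
  have key : ∀ l : Idx A, (∀ V ∈ s, ∀ b ∈ (exists_generators l.ft V).choose,
      (l.incl.hom.app (op V.1)).hom b ∈ rng k.incl V.1) → l ≤ k := by
    intro l hl
    change ∀ V, l.1 V ⊆ k.1 V
    intro U
    rw [← l.rng_incl, ← k.rng_incl]
    refine rng_le_of_cover l.incl k.incl k.inj (fun V : s => V.1.1) (fun V => V.1.2) (fun x => ?_)
      (fun V => ?_) U
    · have : x ∈ (Set.univ : Set X) := trivial
      rw [hc, Set.mem_iUnion₂] at this
      obtain ⟨V, hV, hx⟩ := this
      exact ⟨⟨V, hV⟩, hx⟩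
    · rintro _ ⟨b, rfl⟩
      have hle : Subring.closure (Set.range (l.alg.str.app (op V.1.1)).hom ∪
          ((exists_generators l.ft V.1).choose : Set _)) ≤
          ((k.incl.hom.app (op V.1.1)).hom.range).comap (l.incl.hom.app (op V.1.1)).hom := by
        refine Subring.closure_le.mpr ?_
        rintro x (⟨r, rfl⟩ | hx)
        · exact ⟨(k.alg.str.app (op V.1.1)).hom r, (app_str _ _ r).trans (app_str _ _ r).symm⟩
        · exact hl V.1 V.2 x hx
      rw [(exists_generators l.ft V.1).choose_spec] at hle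
      exact hle (Subring.mem_top b)
  refine ⟨k, key i fun V hV b hb => ?_, key j fun V hV b hb => ?_⟩
  · refine hk ⟨V, (i.incl.hom.app (op V.1)).hom b⟩ ?_
    simp only [L, List.mem_flatMap, List.mem_map, Finset.mem_toList, Set.Finite.mem_toFinset]
    exact ⟨V, hV, _, Finset.mem_union_left _ (Finset.mem_image_of_mem _ hb), rfl⟩
  · refine hk ⟨V, (j.incl.hom.app (op V.1)).hom b⟩ ?_
    simp only [L, List.mem_flatMap, List.mem_map, Finset.mem_toList, Set.Finite.mem_toFinset]
    exact ⟨V, hV, _, Finset.mem_union_right _ (Finset.mem_image_of_mem _ hb), rfl⟩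

theorem exists_mem (V : X.affineOpens) (a : A.presheaf.obj (op V.1)) :
    ∃ i : Idx A, a ∈ rng i.incl V.1 := by
  obtain ⟨i, hi⟩ := exists_idx (A := A) [⟨V, a⟩]
  exact ⟨i, hi ⟨V, a⟩ (List.mem_singleton.mpr rfl)⟩

end Groth.Agent.LimH13.SubAlg
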